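import Mathlib
import Cfsg.Prelude.Def_GeometricClasses

set_option autoImplicit false

/-! The geometric classes for an even-dimensional quadratic form (all characteristics) on a
general index type, in dimensions that are neither prime powers nor proper powers (so that the
classes 6 and 7 do not occur). Each member is the intersection with the isometry group of `Q`. -/

namespace Cfsg.Agent.Lib.Helper5.AschE

open Module Matrix QuadraticMap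
open scoped Kronecker
open Cfsg Cfsg.Geo

variable {ι : Type} [Fintype ι] [DecidableEq ι] {F : Type*} [Field F]

/-- 1a: stabiliser of a non-zero totally singular subspace -/
def Cls1a (Q : (ι → F) → F) (M : Subgroup (GL ι F)) : Prop :=
  ∃ W : Submodule F (ι → F), W ≠ ⊥ ∧ IsTotallySingularQuad Q W ∧
    M = subspaceStabilizer W ⊓ isometryGroup F Q

/-- 1b: stabiliser of a proper non-zero subspace, non-degenerate for the polar form -/
def Cls1b (Q : (ι → F) → F) (M : Subgroup (GL ι F)) : Prop :=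
  ∃ W : Submodule F (ι → F), W ≠ ⊥ ∧ W ≠ ⊤ ∧ IsNondegenerateOn (polar Q) W ∧
    M = subspaceStabilizer W ⊓ isometryGroup F Q

/-- 1c: characteristic two, stabiliser of a non-singular vector -/
def Cls1c (Q : (ι → F) → F) (M : Subgroup (GL ι F)) : Prop :=
  (2 : F) = 0 ∧ ∃ v : ι → F, Q v ≠ 0 ∧
    M = subspaceStabilizer (Submodule.span F {v}) ⊓ isometryGroup F Q

/-- 2a: orthogonal decomposition into `t ≥ 2` isometric non-degenerate `k`-spaces, `k ≥ 2`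
(`2 ≤ t` is part of `IsMDecomposition`) -/
def Cls2a (Q : (ι → F) → F) (M : Subgroup (GL ι F)) : Prop :=
  ∃ (t k : ℕ) (D : Fin t → Submodule F (ι → F)), 1 < k ∧
    IsOrthogonalMDecomposition Q k D ∧ M = decompositionStabilizer D ⊓ isometryGroup F Q

/-- 2a′: orthogonal frames (isometric non-degenerate `1`-spaces), `|F|` an odd prime -/
def Cls2f [Fintype F] (Q : (ι → F) → F) (M : Subgroup (GL ι F)) : Prop :=
  ∃ (t : ℕ) (D : Fin t → Submodule F (ι → F)), (Fintype.card F).Prime ∧ (2 : F) ≠ 0 ∧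
    IsOrthogonalMDecomposition Q 1 D ∧ M = decompositionStabilizer D ⊓ isometryGroup F Q

/-- 2b: a pair of complementary totally singular subspaces -/
def Cls2b (Q : (ι → F) → F) (M : Subgroup (GL ι F)) : Prop :=
  ∃ (k : ℕ) (D : Fin 2 → Submodule F (ι → F)), IsMDecomposition k D ∧
    (∀ i, IsTotallySingularQuad Q (D i)) ∧
    M = decompositionStabilizer D ⊓ isometryGroup F Q

/-- 3a: a self-adjoint field of prime degree -/
def Cls3a (Q : (ι → F) → F) (M : Subgroup (GL ι F)) : Prop :=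
  ∃ (r : ℕ) (K : Subalgebra F (Matrix ι ι F)), r.Prime ∧ IsFieldSubalgebra r K ∧
    IsSelfAdjointFor (polar Q) K ∧ M = subalgebraNormalizer K ⊓ isometryGroup F Q

/-- 3b: unitary type: a quadratic field, adjoint-closed but not self-adjoint, consisting of
similarities of `Q` -/
def Cls3b (Q : (ι → F) → F) (M : Subgroup (GL ι F)) : Prop :=
  ∃ K : Subalgebra F (Matrix ι ι F), IsFieldSubalgebra 2 K ∧ IsAdjointClosedFor (polar Q) K ∧
    ¬ IsSelfAdjointFor (polar Q) K ∧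
    (∀ k ∈ K, ∃ c : F, ∀ v : ι → F, Q (k *ᵥ v) = c * Q v) ∧
    M = subalgebraNormalizer K ⊓ isometryGroup F Q

/-- 4a: odd characteristic, tensor product of two symmetric forms -/
def Cls4a (Q : (ι → F) → F) (M : Subgroup (GL ι F)) : Prop :=
  ∃ (n₁ n₂ : ℕ) (e : ι ≃ Fin n₁ × Fin n₂) (P : GL ι F)
    (f₁ : (Fin n₁ → F) → (Fin n₁ → F) → F) (f₂ : (Fin n₂ → F) → (Fin n₂ → F) → F),
    2 ≤ n₁ ∧ n₁ < n₂ ∧ (2 : F) ≠ 0 ∧ IsSymmetricForm f₁ ∧ IsSymmetricForm f₂ ∧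
    IsTensorFormStructure id (polar Q) f₁ f₂ e P ∧
    M = tensorProductSubgroup n₁ n₂ e P ⊓ isometryGroup F Q

/-- 4b: tensor product of two symplectic forms, `Q` vanishing on the pure tensors -/
def Cls4b (Q : (ι → F) → F) (M : Subgroup (GL ι F)) : Prop :=
  ∃ (n₁ n₂ : ℕ) (e : ι ≃ Fin n₁ × Fin n₂) (P : GL ι F)
    (f₁ : (Fin n₁ → F) → (Fin n₁ → F) → F) (f₂ : (Fin n₂ → F) → (Fin n₂ → F) → F),
    2 ≤ n₁ ∧ n₁ < n₂ ∧ IsSymplecticForm f₁ ∧ IsSymplecticForm f₂ ∧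
    IsTensorFormStructure id (polar Q) f₁ f₂ e P ∧
    (∀ (x₁ : Fin n₁ → F) (x₂ : Fin n₂ → F),
      Q ((P : Matrix ι ι F) *ᵥ ((fun a : Fin n₁ × Fin n₂ => x₁ a.1 * x₂ a.2) ∘ e)) = 0) ∧
    M = tensorProductSubgroup n₁ n₂ e P ⊓ isometryGroup F Q

/-- 5: subfield groups: a non-zero multiple of `Q` is rational over a maximal subfield -/
def Cls5 [Fintype F] (Q : (ι → F) → F) (M : Subgroup (GL ι F)) : Prop :=
  ∃ (F₀ : Subfield F) (r : ℕ) (P : GL ι F) (ζ : F), r.Prime ∧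
    Fintype.card F = Nat.card F₀ ^ r ∧ ζ ≠ 0 ∧
    IsQuadFormRationalStructure (fun v : ι → F => ζ * Q v) F₀ P ∧
    M = subfieldSubgroup F₀ P ⊓ isometryGroup F Q

/-- the geometric classes for an even-dimensional quadratic form, in dimensions where the
classes 6 and 7 are empty -/
def InOEClass [Fintype F] (Q : (ι → F) → F) (M : Subgroup (GL ι F)) : Prop :=
  Cls1a Q M ∨ Cls1b Q M ∨ Cls1c Q M ∨ Cls2a Q M ∨ Cls2f Q M ∨ Cls2b Q M ∨ Cls3a Q M ∨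
    Cls3b Q M ∨ Cls4a Q M ∨ Cls4b Q M ∨ Cls5 Q M

section classes

variable [Fintype F] {Q : (ι → F) → F} {H : Subgroup (GL ι F)}

theorem cls1a (hI : H ≤ isometryGroup F Q) {W : Submodule F (ι → F)} (hW : W ≠ ⊥)
    (hts : IsTotallySingularQuad Q W) (hH : H ≤ subspaceStabilizer W) :
    ∃ M, InOEClass Q M ∧ H ≤ M :=
  ⟨_, Or.inl ⟨W, hW, hts, rfl⟩, le_inf hH hI⟩

theorem cls1b (hI : H ≤ isometryGroup F Q) {W : Submodule F (ι → F)} (hW : W ≠ ⊥)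
    (hW' : W ≠ ⊤) (hnd : IsNondegenerateOn (polar Q) W) (hH : H ≤ subspaceStabilizer W) :
    ∃ M, InOEClass Q M ∧ H ≤ M :=
  ⟨_, Or.inr (Or.inl ⟨W, hW, hW', hnd, rfl⟩), le_inf hH hI⟩

theorem cls1c (hI : H ≤ isometryGroup F Q) (h2 : (2 : F) = 0) {v : ι → F} (hv : Q v ≠ 0)
    (hH : H ≤ subspaceStabilizer (Submodule.span F {v})) :
    ∃ M, InOEClass Q M ∧ H ≤ M :=
  ⟨_, Or.inr (Or.inr (Or.inl ⟨h2, v, hv, rfl⟩)), le_inf hH hI⟩

theorem cls2a (hI : H ≤ isometryGroup F Q) {t k : ℕ} {D : Fin t → Submodule F (ι → F)}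
    (hk : 1 < k) (hD : IsOrthogonalMDecomposition Q k D)
    (hH : H ≤ decompositionStabilizer D) :
    ∃ M, InOEClass Q M ∧ H ≤ M :=
  ⟨_, Or.inr (Or.inr (Or.inr (Or.inl ⟨t, k, D, hk, hD, rfl⟩))), le_inf hH hI⟩

theorem cls2f (hI : H ≤ isometryGroup F Q) {t : ℕ} {D : Fin t → Submodule F (ι → F)}
    (hp : (Fintype.card F).Prime) (h2 : (2 : F) ≠ 0) (hD : IsOrthogonalMDecomposition Q 1 D)
    (hH : H ≤ decompositionStabilizer D) :
    ∃ M, InOEClass Q M ∧ H ≤ M :=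
  ⟨_, Or.inr (Or.inr (Or.inr (Or.inr (Or.inl ⟨t, D, hp, h2, hD, rfl⟩)))), le_inf hH hI⟩

theorem cls2b (hI : H ≤ isometryGroup F Q) {k : ℕ} {D : Fin 2 → Submodule F (ι → F)}
    (hD : IsMDecomposition k D) (hts : ∀ i, IsTotallySingularQuad Q (D i))
    (hH : H ≤ decompositionStabilizer D) :
    ∃ M, InOEClass Q M ∧ H ≤ M :=
  ⟨_, Or.inr (Or.inr (Or.inr (Or.inr (Or.inr (Or.inl ⟨k, D, hD, hts, rfl⟩))))), le_inf hH hI⟩

theorem cls3a (hI : H ≤ isometryGroup F Q) {r : ℕ} {K : Subalgebra F (Matrix ι ι F)}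
    (hr : r.Prime) (hK : IsFieldSubalgebra r K)
    (hsa : IsSelfAdjointFor (polar Q) K) (hH : H ≤ subalgebraNormalizer K) :
    ∃ M, InOEClass Q M ∧ H ≤ M :=
  ⟨_, Or.inr (Or.inr (Or.inr (Or.inr (Or.inr (Or.inr (Or.inl ⟨r, K, hr, hK, hsa, rfl⟩)))))),
    le_inf hH hI⟩

theorem cls3b (hI : H ≤ isometryGroup F Q) {K : Subalgebra F (Matrix ι ι F)}
    (hK : IsFieldSubalgebra 2 K) (hac : IsAdjointClosedFor (polar Q) K)
    (hnsa : ¬ IsSelfAdjointFor (polar Q) K)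
    (hsim : ∀ k ∈ K, ∃ c : F, ∀ v : ι → F, Q (k *ᵥ v) = c * Q v)
    (hH : H ≤ subalgebraNormalizer K) :
    ∃ M, InOEClass Q M ∧ H ≤ M :=
  ⟨_, Or.inr (Or.inr (Or.inr (Or.inr (Or.inr (Or.inr (Or.inr (Or.inl
    ⟨K, hK, hac, hnsa, hsim, rfl⟩))))))), le_inf hH hI⟩

theorem cls4a (hI : H ≤ isometryGroup F Q) {n₁ n₂ : ℕ} {e : ι ≃ Fin n₁ × Fin n₂} {P : GL ι F}
    {f₁ : (Fin n₁ → F) → (Fin n₁ → F) → F} {f₂ : (Fin n₂ → F) → (Fin n₂ → F) → F}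
    (h1 : 2 ≤ n₁) (h12 : n₁ < n₂) (h2 : (2 : F) ≠ 0) (hf₁ : IsSymmetricForm f₁)
    (hf₂ : IsSymmetricForm f₂) (hT : IsTensorFormStructure id (polar Q) f₁ f₂ e P)
    (hH : H ≤ tensorProductSubgroup n₁ n₂ e P) :
    ∃ M, InOEClass Q M ∧ H ≤ M :=
  ⟨_, Or.inr (Or.inr (Or.inr (Or.inr (Or.inr (Or.inr (Or.inr (Or.inr (Or.inl
    ⟨n₁, n₂, e, P, f₁, f₂, h1, h12, h2, hf₁, hf₂, hT, rfl⟩)))))))), le_inf hH hI⟩

theorem cls4b (hI : H ≤ isometryGroup F Q) {n₁ n₂ : ℕ} {e : ι ≃ Fin n₁ × Fin n₂} {P : GL ι F}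
    {f₁ : (Fin n₁ → F) → (Fin n₁ → F) → F} {f₂ : (Fin n₂ → F) → (Fin n₂ → F) → F}
    (h1 : 2 ≤ n₁) (h12 : n₁ < n₂) (hf₁ : IsSymplecticForm f₁)
    (hf₂ : IsSymplecticForm f₂) (hT : IsTensorFormStructure id (polar Q) f₁ f₂ e P)
    (hQ : ∀ (x₁ : Fin n₁ → F) (x₂ : Fin n₂ → F),
      Q ((P : Matrix ι ι F) *ᵥ ((fun a : Fin n₁ × Fin n₂ => x₁ a.1 * x₂ a.2) ∘ e)) = 0)
    (hH : H ≤ tensorProductSubgroup n₁ n₂ e P) :
    ∃ M, InOEClass Q M ∧ H ≤ M :=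
  ⟨_, Or.inr (Or.inr (Or.inr (Or.inr (Or.inr (Or.inr (Or.inr (Or.inr (Or.inr (Or.inl
    ⟨n₁, n₂, e, P, f₁, f₂, h1, h12, hf₁, hf₂, hT, hQ, rfl⟩))))))))), le_inf hH hI⟩

theorem cls5 (hI : H ≤ isometryGroup F Q) {F₀ : Subfield F} {r : ℕ} {P : GL ι F} {ζ : F}
    (hr : r.Prime) (hcard : Fintype.card F = Nat.card F₀ ^ r) (hζ : ζ ≠ 0)
    (hP : IsQuadFormRationalStructure (fun v : ι → F => ζ * Q v) F₀ P)
    (hH : H ≤ subfieldSubgroup F₀ P) :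
    ∃ M, InOEClass Q M ∧ H ≤ M :=
  ⟨_, Or.inr (Or.inr (Or.inr (Or.inr (Or.inr (Or.inr (Or.inr (Or.inr (Or.inr (Or.inr
    ⟨F₀, r, P, ζ, hr, hcard, hζ, hP, rfl⟩))))))))), le_inf hH hI⟩

end classes

end Cfsg.Agent.Lib.Helper5.AschE
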