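import Mathlib
import Cfsg.Agent.Lib.Helper5.AschO.Main5
import Cfsg.Agent.Lib.Helper8.SpZ1
import Cfsg.Agent.Lib.Helper5.AschE.Classes

set_option autoImplicit false

/-! Basic facts for the even-dimensional orthogonal case, valid in all characteristics. -/

namespace Cfsg.Agent.Lib.Helper5.AschE

open Module Matrix QuadraticMap
open Cfsg Cfsg.Geo Cfsg.Agent.Lib.Helper8.Asch Cfsg.Agent.Lib.Helper5.AschO

variable {ι : Type} [Fintype ι] [DecidableEq ι] {F : Type*} [Field F]

theorem Q_inv {Q : (ι → F) → F} {H : Subgroup (GL ι F)} (hI : H ≤ isometryGroup F Q)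
    {h : GL ι F} (hh : h ∈ H) (v : ι → F) : Q ((h : Matrix ι ι F) *ᵥ v) = Q v :=
  (Cfsg.Agent.Lib.Helper5.OrthCard.mem_isometryGroup_iff Q h).mp (hI hh) v

theorem polar_inv {Q : (ι → F) → F} {H : Subgroup (GL ι F)} (hI : H ≤ isometryGroup F Q)
    {h : GL ι F} (hh : h ∈ H) (u v : ι → F) :
    polar Q ((h : Matrix ι ι F) *ᵥ u) ((h : Matrix ι ι F) *ᵥ v) = polar Q u v := by
  unfold polar
  rw [← Matrix.mulVec_add, Q_inv hI hh, Q_inv hI hh, Q_inv hI hh]

/-- `OHyp` from isometries of determinant one, in all characteristics -/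
theorem ohyp_of_isom (Q : QuadraticForm F (ι → F)) {H : Subgroup (GL ι F)}
    (hI : H ≤ isometryGroup F ⇑Q) (hdet : ∀ h ∈ H, (h : Matrix ι ι F).det = 1) :
    OHyp (gramQ Q) H where
  isom := by
    intro h hh
    apply bf_ext
    intro u v
    rw [← bf_mulVec, ← polar_eq_bf, ← polar_eq_bf]
    exact polar_inv hI hh u v
  det := hdet

theorem ohyp_of_le_omegaGL (Q : QuadraticForm F (ι → F)) {H : Subgroup (GL ι F)}
    (hH : H ≤ omegaGL ⇑Q) : OHyp (gramQ Q) H :=
  ohyp_of_isom Q (hH.trans (omegaGL_le_isom _)) (fun _ hh => det_of_mem_omegaGL _ (hH hh))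

/-- the polar form as a Mathlib bilinear form -/
abbrev pB (Q : QuadraticForm F (ι → F)) : LinearMap.BilinForm F (ι → F) := polarBilin Q

theorem pB_apply (Q : QuadraticForm F (ι → F)) (u v : ι → F) : pB Q u v = polar Q u v := rfl

theorem polarBilin_nondeg_of_det (Q : QuadraticForm F (ι → F)) (hG : (gramQ Q).det ≠ 0) :
    (pB Q).Nondegenerate := by
  constructor
  · intro x hx
    apply bf_eq_zero_of_det' hG
    intro u
    rw [← polar_eq_bf]
    exact hx u
  · intro y hy
    apply bf_eq_zero_of_det hG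
    intro u
    rw [← polar_eq_bf]
    exact hy u

theorem epsForm_polar (Q : QuadraticForm F (ι → F)) (hG : (gramQ Q).det ≠ 0) :
    EpsForm (pB Q) 1 where
  nondeg := polarBilin_nondeg_of_det Q hG
  symm := fun x y => by
    rw [one_mul]
    exact polar_comm Q x y
  sq := one_mul 1

theorem isomV_polar (Q : QuadraticForm F (ι → F)) {H : Subgroup (GL ι F)}
    (hI : H ≤ isometryGroup F ⇑Q) : IsomV (pB Q) (HV H) := by
  intro u hu x y
  obtain ⟨h, hh, rfl⟩ := exists_of_mem_HV hu
  rw [toV_apply, toV_apply]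
  exact polar_inv hI hh x y

/-- an additive function, homogeneous with respect to some function of the scalars, invariant
under a non-trivial normal subgroup `N` of the irreducible group `H`, vanishes -/
theorem invariant_additive_eq_zero {H N : Subgroup (GL ι F)} (hirr : Irr (HV H))
    (hNH : N ≤ H) (hinv : ∀ h ∈ H, ∀ x ∈ N, h * x * h⁻¹ ∈ N) (hN1 : ∃ x ∈ N, x ≠ 1)
    (D : (ι → F) → F) (φ : F → F) (hadd : ∀ u v, D (u + v) = D u + D v)
    (hsm : ∀ (c : F) (v : ι → F), D (c • v) = φ c * D v)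
    (hD : ∀ x ∈ N, ∀ v, D ((x : Matrix ι ι F) *ᵥ v) = D v) : ∀ v, D v = 0 := by
  have hD0 : D 0 = 0 := by
    have := hadd 0 0
    rw [add_zero] at this
    exact left_eq_add.mp this
  have hDneg : ∀ v, D (-v) = - D v := by
    intro v
    have := hadd v (-v)
    rw [add_neg_cancel, hD0] at this
    exact (neg_eq_of_add_eq_zero_right this.symm).symm
  set S : Set (ι → F) := {w | ∃ x ∈ N, ∃ v : ι → F, w = (x : Matrix ι ι F) *ᵥ v - v} with hS
  set U : Submodule F (ι → F) := Submodule.span F S with hU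
  have hUinv : ∀ h ∈ HV H, ∀ w ∈ U, (h : Module.End F (ι → F)) w ∈ U := by
    intro u hu w hw
    obtain ⟨h, hh, rfl⟩ := exists_of_mem_HV hu
    rw [toV_apply]
    induction hw using Submodule.span_induction with
    | mem w hw =>
      obtain ⟨x, hx, v, rfl⟩ := hw
      apply Submodule.subset_span
      refine ⟨h * x * h⁻¹, hinv h hh x hx, (h : Matrix ι ι F) *ᵥ v, ?_⟩
      rw [Matrix.mulVec_sub, Matrix.mulVec_mulVec, Matrix.mulVec_mulVec, ← Units.val_mul,
        ← Units.val_mul, inv_mul_cancel_right]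
    | zero => rw [Matrix.mulVec_zero]; exact U.zero_mem
    | add a b _ _ ha hb => rw [Matrix.mulVec_add]; exact U.add_mem ha hb
    | smul c a _ ha => rw [Matrix.mulVec_smul]; exact U.smul_mem c ha
  have hvan : ∀ w ∈ U, D w = 0 := by
    intro w hw
    induction hw using Submodule.span_induction with
    | mem w hw =>
      obtain ⟨x, hx, v, rfl⟩ := hw
      rw [sub_eq_add_neg, hadd, hDneg, hD x hx, add_neg_cancel]
    | zero => exact hD0
    | add a b _ _ ha hb => rw [hadd, ha, hb, add_zero]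
    | smul c a _ ha => rw [hsm, ha, mul_zero]
  rcases hirr U hUinv with h0 | h1
  · exfalso
    obtain ⟨x, hx, hx1⟩ := hN1
    apply hx1
    apply Units.ext
    apply Matrix.toLin'.injective
    apply LinearMap.ext
    intro v
    have hmem : (x : Matrix ι ι F) *ᵥ v - v ∈ U := Submodule.subset_span ⟨x, hx, v, rfl⟩
    rw [h0, Submodule.mem_bot, sub_eq_zero] at hmem
    rw [Matrix.toLin'_apply, hmem, Units.val_one, Matrix.toLin'_one, LinearMap.id_apply]
  · intro v
    apply hvan
    rw [h1]
    exact Submodule.mem_top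

/-- in characteristic two over a finite field every element is a square -/
theorem exists_sq_eq [Finite F] (h2 : (2 : F) = 0) (a : F) : ∃ c : F, c ^ 2 = a := by
  haveI : CharP F 2 := CharTwo.of_one_ne_zero_of_two_eq_zero one_ne_zero h2
  obtain ⟨c, hc⟩ := (isSquare_iff_exists_sq a).mp (FiniteField.isSquare_of_char_two (CharP.ringChar_of_prime_eq_zero Nat.prime_two h2) a)
  exact ⟨c, hc.symm⟩

end Cfsg.Agent.Lib.Helper5.AschE
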