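import Mathlib
import Cfsg.Agent.Lib.Helper5.AschE.Basic

set_option autoImplicit false

/-! The decomposition case: preparatory lemmas. -/

namespace Cfsg.Agent.Lib.Helper5.AschE

open Module Matrix QuadraticMap
open Cfsg Cfsg.Geo Cfsg.Agent.Lib.Helper8.Asch Cfsg.Agent.Lib.Helper5.AschO

section general

variable {F : Type*} [Field F] {V : Type*} [AddCommGroup V] [Module F V]

/-- `clifford_form` of helper8 with the invariance of the components under the algebra -/
theorem clifford_form_inv [FiniteDimensional F V] [Nontrivial V] {B : LinearMap.BilinForm F V}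
    {ε : F} (hB : EpsForm B ε) (H : Subgroup (GLV F V)) (hirr : Irr H)
    (A : Subalgebra F (Module.End F V)) (hA : ∀ h ∈ H, Nrm A h) (hadj : AdjClosed B A) :
    IsIsotypic A V ∨ ∃ (t m : ℕ) (D : Fin t → Submodule F V) (σ : Fin t → Fin t), 2 ≤ t ∧
      PairedDecomp B m D σ ∧
      (∀ h ∈ H, ∃ π : Equiv.Perm (Fin t), ∀ i, (D i).map (h : Module.End F V) = D (π i)) ∧
      (∀ i j, ∃ h ∈ H, (D i).map (h : Module.End F V) = D j) ∧
      (∀ i, ∀ a ∈ A, ∀ w ∈ D i, a w ∈ D i) := by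
  have ss : IsSemisimpleModule A V := clifford_semisimple H hirr A hA
  rcases clifford_iso H hirr A hA with h |
    ⟨t, m, C, ht, hm, hfr, hind, hsup, hperm, hC, hsurj, htrans⟩
  · exact Or.inl h
  · right
    obtain ⟨σ, p1, p2, p3⟩ := pairing hB (fun i => (C i).restrictScalars F) hm hfr hind hsup
      (fun i => perp_eq_biSup hB hadj C hC hsurj i)
    refine ⟨t, m, fun i => (C i).restrictScalars F, σ, ht, ⟨hm, hfr, hind, hsup, p1, p2, p3⟩,
      hperm, htrans, ?_⟩
    intro i a ha w hw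
    exact (C i).smul_mem ⟨a, ha⟩ hw

end general

variable {ι : Type} [Fintype ι] [DecidableEq ι] {F : Type*} [Field F]

theorem isometric_of_map (Q : (ι → F) → F) {H : Subgroup (GL ι F)}
    (hI : H ≤ isometryGroup F Q) {W W' : Submodule F (ι → F)} {h : GL ι F} (hh : h ∈ H)
    (hWW' : W.map (Matrix.toLin' (h : Matrix ι ι F)) = W') : AreIsometricFor Q W W' := by
  have hinj : Function.Injective (Matrix.toLin' (h : Matrix ι ι F)) := by
    intro x y hxy
    have := congrArg (fun z => ((h⁻¹ : GL ι F) : Matrix ι ι F) *ᵥ z) hxy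
    simp only [Matrix.toLin'_apply, Matrix.mulVec_mulVec, ← Units.val_mul, inv_mul_cancel,
      Units.val_one, Matrix.one_mulVec] at this
    exact this
  let e : W ≃ₗ[F] W' :=
    (Submodule.equivMapOfInjective _ hinj W).trans (LinearEquiv.ofEq _ _ hWW')
  refine ⟨e, fun w => ?_⟩
  show Q ((h : Matrix ι ι F) *ᵥ (w : ι → F)) = Q (w : ι → F)
  exact Q_inv hI hh w

theorem nondegOn_polar_of_disjoint (Q : QuadraticForm F (ι → F)) (W : Submodule F (ι → F))
    (hd : Disjoint W ((pB Q).orthogonal W)) : IsNondegenerateOn (polar ⇑Q) W := by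
  intro w hw hw0
  have key : ∃ x ∈ W, polar Q x w ≠ 0 := by
    by_contra hcon
    push Not at hcon
    apply hw0
    have : w ∈ W ⊓ (pB Q).orthogonal W := ⟨hw, fun x hx => hcon x hx⟩
    rw [hd.eq_bot] at this
    exact (Submodule.mem_bot F).mp this
  obtain ⟨x, hx, hxw⟩ := key
  refine ⟨⟨x, hx, hxw⟩, ⟨x, hx, ?_⟩⟩
  rw [polar_comm]
  exact hxw

/-- a non-degenerate orthogonal decomposition permuted transitively by isometries -/
theorem orthDecomp_of_paired (Q : QuadraticForm F (ι → F)) {H : Subgroup (GL ι F)}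
    (hI : H ≤ isometryGroup F ⇑Q) {t k : ℕ} {D : Fin t → Submodule F (ι → F)}
    (ht : 2 ≤ t) (hk : 0 < k) (hfr : ∀ i, finrank F (D i) = k) (hind : iSupIndep D)
    (hsup : iSup D = ⊤)
    (hdisj : ∀ i, Disjoint (D i) ((pB Q).orthogonal (D i)))
    (horth : ∀ i j, i ≠ j → D j ≤ (pB Q).orthogonal (D i))
    (htrans : ∀ i j, ∃ h ∈ HV H, (D i).map (h : Module.End F (ι → F)) = D j) :
    IsOrthogonalMDecomposition ⇑Q k D := by
  refine ⟨⟨⟨ht, hk, hfr, hind, hsup⟩, fun i => nondegOn_polar_of_disjoint Q (D i) (hdisj i), ?_⟩,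
    ?_⟩
  · intro i j hij u hu v hv
    exact horth i j hij hv u hu
  · intro i j
    obtain ⟨u, hu, hij⟩ := htrans i j
    obtain ⟨h, hh, rfl⟩ := exists_of_mem_HV hu
    rw [toV_val] at hij
    exact isometric_of_map (⇑Q) hI hh hij

theorem le_decompStab_of_perm {H : Subgroup (GL ι F)} {t : ℕ} (D : Fin t → Submodule F (ι → F))
    (hperm : ∀ h ∈ HV H, ∃ π : Equiv.Perm (Fin t), ∀ i,
      (D i).map (h : Module.End F (ι → F)) = D (π i)) : H ≤ decompositionStabilizer D := by
  intro g hg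
  obtain ⟨π, hπ⟩ := hperm (toV g) (mem_HV hg)
  exact ⟨π, fun i => by rw [← hπ i, toV_val]⟩

/-- `Q` vanishes on a totally isotropic invariant subspace with an invariant complement -/
theorem ts_of_compl (Q : QuadraticForm F (ι → F)) {H N : Subgroup (GL ι F)}
    (hI : H ≤ isometryGroup F ⇑Q) (hirr : Irr (HV H))
    (hNH : N ≤ H) (hinv : ∀ h ∈ H, ∀ x ∈ N, h * x * h⁻¹ ∈ N) (hN1 : ∃ x ∈ N, x ≠ 1)
    {W W' : Submodule F (ι → F)} (hc : IsCompl W W')
    (hWi : ∀ u ∈ W, ∀ v ∈ W, polar Q u v = 0)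
    (hNW : ∀ x ∈ N, ∀ w ∈ W, (x : Matrix ι ι F) *ᵥ w ∈ W)
    (hNW' : ∀ x ∈ N, ∀ w ∈ W', (x : Matrix ι ι F) *ᵥ w ∈ W') : ∀ w ∈ W, Q w = 0 := by
  set p := Submodule.projectionOnto W W' hc with hp
  set D : (ι → F) → F := fun v => Q ((p v : W) : ι → F) with hD
  have hadd : ∀ u v, D (u + v) = D u + D v := by
    intro u v
    show Q ((p (u + v) : W) : ι → F) = Q ((p u : W) : ι → F) + Q ((p v : W) : ι → F)
    rw [map_add, Submodule.coe_add]
    have := hWi _ (p u).2 _ (p v).2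
    unfold polar at this
    rw [sub_sub, sub_eq_zero] at this
    exact this
  have hsm : ∀ (c : F) (v : ι → F), D (c • v) = c ^ 2 * D v := by
    intro c v
    show Q ((p (c • v) : W) : ι → F) = c ^ 2 * Q ((p v : W) : ι → F)
    rw [map_smul, Submodule.coe_smul, QuadraticMap.map_smul, smul_eq_mul, pow_two]
  have hDN : ∀ x ∈ N, ∀ v, D ((x : Matrix ι ι F) *ᵥ v) = D v := by
    intro x hx v
    show Q ((p ((x : Matrix ι ι F) *ᵥ v) : W) : ι → F) = Q ((p v : W) : ι → F)
    obtain ⟨a, ha, b, hb, rfl⟩ : ∃ a ∈ W, ∃ b ∈ W', v = a + b := by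
      have : v ∈ W ⊔ W' := by rw [hc.sup_eq_top]; exact Submodule.mem_top
      obtain ⟨a, ha, b, hb, hab⟩ := Submodule.mem_sup.mp this
      exact ⟨a, ha, b, hb, hab.symm⟩
    have h1 : p (a + b) = ⟨a, ha⟩ := by
      have e1 := Submodule.projectionOnto_apply_left hc ⟨a, ha⟩
      have e2 := (Submodule.projectionOnto_apply_eq_zero_iff hc).mpr hb
      rw [map_add, hp, e1, e2, add_zero]
    have h2 : p ((x : Matrix ι ι F) *ᵥ (a + b)) = ⟨(x : Matrix ι ι F) *ᵥ a, hNW x hx a ha⟩ := by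
      have e1 := Submodule.projectionOnto_apply_left hc
        ⟨(x : Matrix ι ι F) *ᵥ a, hNW x hx a ha⟩
      have e2 := (Submodule.projectionOnto_apply_eq_zero_iff hc).mpr (hNW' x hx b hb)
      rw [Matrix.mulVec_add, map_add, hp, e1, e2, add_zero]
    rw [h1, h2]
    exact Q_inv hI (hNH hx) a
  have key := invariant_additive_eq_zero hirr hNH hinv hN1 D (fun c => c ^ 2) hadd hsm hDN
  intro w hw
  have := key w
  have h1 : p w = ⟨w, hw⟩ := Submodule.projectionOnto_apply_left hc ⟨w, hw⟩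
  show Q w = 0
  have h3 : D w = Q w := by
    show Q ((p w : W) : ι → F) = Q w
    rw [h1]
  rw [← h3]
  exact this

end Cfsg.Agent.Lib.Helper5.AschE
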