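import Mathlib
import Cfsg.Agent.Lib.Helper5.AschE.Decomp

set_option autoImplicit false

/-! Coarsening a paired decomposition without fixed points, keeping transitivity
(a variant of helper8's `PairedDecomp.coarsen`). -/

namespace Cfsg.Agent.Lib.Helper5.AschE

open Module Matrix
open Cfsg.Geo Cfsg.Agent.Lib.Helper8.Asch Cfsg.Agent.Lib.Helper8.Asch.PairedDecomp

variable {F : Type*} [Field F] {V : Type*} [AddCommGroup V] [Module F V]

variable {B : LinearMap.BilinForm F V} {t m : ℕ} {D : Fin t → Submodule F V} {σ : Fin t → Fin t}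

theorem coarsen_trans [FiniteDimensional F V] (hP : PairedDecomp B m D σ) (hfix : ∀ i, σ i ≠ i)
    (ht : 3 ≤ t) (H : Subgroup (GLV F V)) (hH : IsomV B H)
    (hperm : ∀ h ∈ H, ∃ π : Equiv.Perm (Fin t), ∀ i, (D i).map (h : Module.End F V) = D (π i))
    (htrans : ∀ i j, ∃ h ∈ H, (D i).map (h : Module.End F V) = D j) :
    ∃ (s : ℕ) (E : Fin s → Submodule F V), 2 ≤ s ∧ (∀ p, finrank F (E p) = m + m) ∧
      iSupIndep E ∧ iSup E = ⊤ ∧ (∀ p, Disjoint (E p) (B.orthogonal (E p))) ∧
      (∀ p q, p ≠ q → E q ≤ B.orthogonal (E p)) ∧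
      (∀ h ∈ H, ∃ π : Equiv.Perm (Fin s), ∀ p, (E p).map (h : Module.End F V) = E (π p)) ∧
      (∀ p q, ∃ h ∈ H, (E p).map (h : Module.End F V) = E q) := by
  classical
  -- representatives
  let P := {i : Fin t // i < σ i}
  have hlt : ∀ x : Fin t, ¬ x < σ x → σ x < σ (σ x) := by
    intro x hx
    rw [hP.invol]
    exact lt_of_le_of_ne (not_lt.mp hx) (hfix x)
  let rep : Fin t → P := fun x => if h : x < σ x then ⟨x, h⟩ else ⟨σ x, hlt x h⟩
  have hrep : ∀ x, (rep x).1 = x ∨ (rep x).1 = σ x := by
    intro x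
    by_cases h : x < σ x
    · left; simp only [rep, dif_pos h]
    · right; simp only [rep, dif_neg h]
  have hGrep : ∀ x, G D σ (rep x).1 = G D σ x := by
    intro x
    rcases hrep x with h | h
    · rw [h]
    · rw [h, hP.G_sigma]
  set s := Fintype.card P with hs
  let e : Fin s ≃ P := (Fintype.equivFin P).symm
  let E : Fin s → Submodule F V := fun p => G D σ (e p).1
  have hEG : ∀ x, G D σ x = E (e.symm (rep x)) := by
    intro x
    show G D σ x = G D σ (e (e.symm (rep x))).1
    rw [Equiv.apply_symm_apply, hGrep]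
  -- distinct representatives lie in distinct orbits
  have hdist : ∀ p q : Fin s, p ≠ q → (e q).1 ≠ (e p).1 ∧ (e q).1 ≠ σ (e p).1 := by
    intro p q hpq
    constructor
    · intro h
      apply hpq
      have : e q = e p := Subtype.ext h
      exact (e.injective this).symm
    · intro h
      have h1 := (e q).2
      have h2 := (e p).2
      rw [h, hP.invol] at h1
      exact absurd h1 (not_lt.mpr h2.le)
  have hEorth : ∀ p q, p ≠ q → E q ≤ B.orthogonal (E p) := by
    intro p q hpq
    obtain ⟨h1, h2⟩ := hdist p q hpq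
    exact hP.G_le_perp h1 h2
  have hEdisj : ∀ p, Disjoint (E p) (B.orthogonal (E p)) := fun p => hP.G_disjoint_perp hfix _
  have hEfr : ∀ p, finrank F (E p) = m + m := fun p => hP.finrank_G hfix _
  have hEne : ∀ p, E p ≠ ⊥ := by
    intro p h0
    have := hEfr p
    rw [h0, finrank_bot] at this
    have := hP.pos
    omega
  have hEind : iSupIndep E := by
    intro p
    have h1 : (⨆ q, ⨆ (_ : q ≠ p), E q) ≤ B.orthogonal (E p) :=
      iSup₂_le fun q hq => hEorth p q (Ne.symm hq)
    exact (hEdisj p).mono_right h1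
  have hEsup : iSup E = ⊤ := by
    rw [eq_top_iff, ← hP.sup]
    apply iSup_le
    intro x
    calc D x ≤ G D σ x := le_sup_left
      _ = E (e.symm (rep x)) := hEG x
      _ ≤ iSup E := le_iSup E _
  have hEinj : Function.Injective E := hEind.injective hEne
  -- at least two blocks
  have hs2 : 2 ≤ s := by
    let x₀ : P := rep ⟨0, by omega⟩
    have hex : ∃ l : Fin t, l ≠ x₀.1 ∧ l ≠ σ x₀.1 := by
      by_contra hcon
      push Not at hcon
      have hsub : (Finset.univ : Finset (Fin t)) ⊆ {x₀.1, σ x₀.1} := by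
        intro l _
        by_cases h : l = x₀.1
        · rw [h]; exact Finset.mem_insert_self _ _
        · rw [hcon l h]
          exact Finset.mem_insert_of_mem (Finset.mem_singleton_self _)
      have h1 := Finset.card_le_card hsub
      rw [Finset.card_univ, Fintype.card_fin] at h1
      have h2 : ({x₀.1, σ x₀.1} : Finset (Fin t)).card ≤ 2 := Finset.card_le_two
      omega
    obtain ⟨l, hl1, hl2⟩ := hex
    have hne : rep l ≠ x₀ := by
      intro h
      rcases hrep l with h' | h'
      · rw [h] at h'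
        exact hl1 h'.symm
      · rw [h] at h'
        apply hl2
        rw [h', hP.invol]
    rw [hs]
    exact Fintype.one_lt_card_iff.mpr ⟨rep l, x₀, hne⟩
  have hmapG : ∀ h ∈ H, ∀ π : Equiv.Perm (Fin t),
      (∀ i, (D i).map (h : Module.End F V) = D (π i)) →
      ∀ x, (G D σ x).map (h : Module.End F V) = G D σ (π x) := by
    intro h hh π hπ x
    show (D x ⊔ D (σ x)).map (h : Module.End F V) = D (π x) ⊔ D (σ (π x))
    rw [Submodule.map_sup, hπ, hπ, hP.perm_comm h (hH h hh) π hπ]
  refine ⟨s, E, hs2, hEfr, hEind, hEsup, hEdisj, hEorth, ?_, ?_⟩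
  · intro h hh
    obtain ⟨π, hπ⟩ := hperm h hh
    have hinj : Function.Injective (h : Module.End F V) := by
      intro x y hxy
      have := congrArg ((h⁻¹ : GLV F V) : Module.End F V) hxy
      rwa [inv_apply_apply, inv_apply_apply] at this
    apply perm_of_map E hEinj _ hinj
    intro p
    refine ⟨e.symm (rep (π (e p).1)), ?_⟩
    rw [← hEG]
    exact hmapG h hh π hπ _
  · intro p q
    obtain ⟨h, hh, hpq⟩ := htrans (e p).1 (e q).1
    obtain ⟨π, hπ⟩ := hperm h hh
    have h1 : π (e p).1 = (e q).1 := by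
      apply hP.injective
      rw [← hπ, hpq]
    refine ⟨h, hh, ?_⟩
    show (G D σ (e p).1).map (h : Module.End F V) = G D σ (e q).1
    rw [hmapG h hh π hπ, h1]

end Cfsg.Agent.Lib.Helper5.AschE
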