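import Mathlib
import Cfsg.Agent.Lib.Helper5.AschE.Basic

set_option autoImplicit false

/-! Orthogonal frames over a non-prime field give a subfield group (a multiple of `Q` is rational). -/

namespace Cfsg.Agent.Lib.Helper5.AschE

open Module Matrix QuadraticMap
open Cfsg Cfsg.Geo Cfsg.Agent.Lib.Helper8.Asch Cfsg.Agent.Lib.Helper5.AschO

variable {ι : Type} [Fintype ι] [DecidableEq ι] {F : Type*} [Field F]

/-- class 5 from an orthogonal frame permuted transitively, up to a multiple of `Q` -/
theorem class5_of_frame_even [Nonempty ι] (Q : QuadraticForm F (ι → F))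
    (h2 : (2 : F) ≠ 0) (hGdet : (gramQ Q).det ≠ 0)
    (K : Subfield F) (H : Subgroup (GL ι F))
    (hH : OHyp (gramQ Q) H)
    {t : ℕ} (D : Fin t → Submodule F (ι → F)) (hD : IsMDecomposition 1 D)
    (horth : ∀ i j, i ≠ j → AreOrthogonalFor (bf (gramQ Q)) (D i) (D j))
    (hstab : H ≤ decompositionStabilizer D)
    (htr : ∀ i j, ∃ h ∈ H, (D i).map (Matrix.toLin' (h : Matrix ι ι F)) = D j) :
    ∃ (P : GL ι F) (ζ : F), ζ ≠ 0 ∧
      IsQuadFormRationalStructure (fun v : ι → F => ζ * Q v) K P ∧
      H ≤ subfieldSubgroup K P := by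
  classical
  set G := gramQ Q with hGdef
  obtain ⟨v, a2, hvD, hv0, hva, hvspan⟩ := frame_vectors hH hD htr
  have hcard : t = Fintype.card ι := by
    have := card_of_decomp hD
    omega
  have hli : LinearIndependent F v := hD.indep.linearIndependent D hvD hv0
  let e : ι ≃ Fin t := Fintype.equivOfCardEq (by rw [Fintype.card_fin, hcard])
  have hli' : LinearIndependent F (fun i => v (e i)) := hli.comp e e.injective
  let b : Basis ι F (ι → F) := basisOfLinearIndependentOfCardEqFinrank hli'
    (by rw [Module.finrank_fintype_fun_eq_card])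
  have hb : ∀ i, b i = v (e i) := by
    intro i
    simp [b]
  have horth' : ∀ i j, i ≠ j → bf G (b i) (b j) = 0 := by
    intro i j hij
    rw [hb, hb]
    exact horth _ _ (fun h => hij (e.injective h)) _ (hvD _) _ (hvD _)
  have hdiag : gramB G b = a2 • (1 : Matrix ι ι F) := by
    ext i j
    rw [gramB_apply]
    by_cases h : i = j
    · subst h
      rw [hb, hva]
      simp
    · rw [horth' i j h]
      simp [Matrix.one_apply_ne h]
  have ha2 : a2 ≠ 0 := by
    have := gramB_det hGdet b
    rw [hdiag, Matrix.det_smul, Matrix.det_one, mul_one] at this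
    intro h
    apply this
    rw [h, zero_pow Fintype.card_ne_zero]
  set P₀ : GL ι F := AschO.basisGL b (Equiv.refl ι) with hP₀
  have hP₀val : (P₀ : Matrix ι ι F) = colM b := by
    rw [hP₀, AschO.basisGL_val]
    ext i j
    rfl
  have hP₀inv : ((P₀⁻¹ : GL ι F) : Matrix ι ι F) = rowM b := by
    show (rowM b).submatrix _ _ = _
    ext i j
    rfl
  have hgram : (P₀ : Matrix ι ι F)ᵀ * G * (P₀ : Matrix ι ι F) = a2 • (1 : Matrix ι ι F) := by
    rw [← hdiag, hP₀val]
    rfl
  refine ⟨P₀, 2 * a2⁻¹, mul_ne_zero h2 (inv_ne_zero ha2), ?_, ?_⟩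
  · intro u hu
    show 2 * a2⁻¹ * Q ((P₀ : Matrix ι ι F) *ᵥ u) ∈ K
    rw [Q_eq_half Q h2, bf_mulVec, hgram, bf_smul_mat]
    have e1 : 2 * a2⁻¹ * (2⁻¹ * (a2 * bf (1 : Matrix ι ι F) u u)) =
        bf (1 : Matrix ι ι F) u u := by
      field_simp
    rw [e1]
    refine bf_mem_of_entries K _ ?_ u u hu hu
    intro i j
    by_cases h : i = j
    · subst h
      rw [Matrix.one_apply_eq]
      exact K.one_mem
    · rw [Matrix.one_apply_ne h]
      exact K.zero_mem
  · intro h hh
    unfold subfieldSubgroup
    refine Subgroup.mem_map.mpr ⟨P₀⁻¹ * h * P₀,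
      Subgroup.mem_sup_left (mem_range_of_entries K _ ?_), ?_⟩
    · intro i j'
      rw [Units.val_mul, Units.val_mul, hP₀inv, hP₀val, ← toMatrix_toLin_eq,
        LinearMap.toMatrix_apply, Matrix.toLin'_apply]
      obtain ⟨σ, hσ⟩ := hstab hh
      have hmem : (h : Matrix ι ι F) *ᵥ b j' ∈ D (σ (e j')) := by
        rw [← hσ (e j')]
        refine Submodule.mem_map.mpr ⟨b j', ?_, ?_⟩
        · rw [hb]
          exact hvD _
        · rw [Matrix.toLin'_apply]
      obtain ⟨c, hc⟩ := hvspan _ _ hmem
      have hc2 : c * c = 1 := by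
        have h1 := hH.bf_eq hh (b j') (b j')
        rw [hc, bf_smul_left, bf_smul_right, hva, hb, hva] at h1
        have : (c * c) * a2 = 1 * a2 := by linear_combination h1
        exact mul_right_cancel₀ ha2 this
      have hcK : c ∈ K := by
        have : (c - 1) * (c + 1) = 0 := by linear_combination hc2
        rcases mul_eq_zero.mp this with h | h
        · have : c = 1 := by linear_combination h
          rw [this]
          exact K.one_mem
        · have : c = -1 := by linear_combination h
          rw [this]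
          exact K.neg_mem K.one_mem
      have hvb : v (σ (e j')) = b (e.symm (σ (e j'))) := by
        rw [hb, Equiv.apply_symm_apply]
      rw [hc, hvb, map_smul, Basis.repr_self, Finsupp.smul_apply, smul_eq_mul,
        Finsupp.single_apply]
      split_ifs
      · rw [mul_one]
        exact hcK
      · rw [mul_zero]
        exact K.zero_mem
    · simp only [MulEquiv.coe_toMonoidHom, MulAut.conj_apply]
      group

end Cfsg.Agent.Lib.Helper5.AschE
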