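import Mathlib
import Cfsg.Agent.Lib.Helper5.AschE.Coarsen
import Cfsg.Agent.Lib.Helper5.AschE.Frame

set_option autoImplicit false

/-! The decomposition case (classes 2a, 2f, 2b, or 5 for frames over non-prime fields). -/

namespace Cfsg.Agent.Lib.Helper5.AschE

open Module Matrix QuadraticMap
open Cfsg Cfsg.Geo Cfsg.Agent.Lib.Helper8.Asch Cfsg.Agent.Lib.Helper5.AschO

variable {ι : Type} [Fintype ι] [DecidableEq ι] {F : Type*} [Field F]

theorem two_ne_zero_of_nondeg_line (Q : QuadraticForm F (ι → F)) (W : Submodule F (ι → F))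
    (hfr : finrank F W = 1) (hnd : IsNondegenerateOn (polar ⇑Q) W) : (2 : F) ≠ 0 := by
  intro h2
  have hne : W ≠ ⊥ := by
    intro h
    rw [h, finrank_bot] at hfr
    omega
  obtain ⟨w, hw, hw0⟩ := Submodule.exists_mem_ne_zero_of_ne_bot hne
  obtain ⟨⟨x, hx, hxw⟩, -⟩ := hnd w hw hw0
  have hnz : (⟨w, hw⟩ : W) ≠ 0 := fun h => hw0 (congrArg Subtype.val h)
  obtain ⟨c, hc⟩ := (finrank_eq_one_iff_of_nonzero' (⟨w, hw⟩ : W) hnz).mp hfr ⟨x, hx⟩
  have hxc : x = c • w := by
    have := congrArg Subtype.val hc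
    simp only [Submodule.coe_smul] at this
    exact this.symm
  apply hxw
  have hww : polar Q w w = 0 := by
    rw [polar_eq_bf, ← two_mul_Q, h2, zero_mul]
  rw [hxc, polar_smul_left, hww, smul_zero]

theorem decomp_case_even [Fintype F] [Nonempty ι] (Q : QuadraticForm F (ι → F))
    (hGdet : (gramQ Q).det ≠ 0) {H N : Subgroup (GL ι F)} (hH : OHyp (gramQ Q) H)
    (hI : H ≤ isometryGroup F ⇑Q) (hirr : Irr (HV H)) (hNH : N ≤ H)
    (hinv : ∀ h ∈ H, ∀ x ∈ N, h * x * h⁻¹ ∈ N) (hN1 : ∃ x ∈ N, x ≠ 1)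
    (hnot : ¬ IsIsotypic (algOf (HV N)) (ι → F)) :
    ∃ M, InOEClass (⇑Q) M ∧ H ≤ M := by
  have hB := epsForm_polar Q hGdet
  have hisoV := isomV_polar Q hI
  have hA : ∀ u ∈ HV H, Nrm (algOf (HV N)) u := Nrm_algOf_HV hinv
  have hadj : AdjClosed (pB Q) (algOf (HV N)) := adjClosed_algOf (isomV_polar Q (hNH.trans hI))
  rcases clifford_form_inv hB (HV H) hirr (algOf (HV N)) hA hadj with hiso |
    ⟨t, m, D, σ, ht, hP, hperm, htrans, hAinv⟩
  · exact absurd hiso hnot
  have hNinv : ∀ i, ∀ x ∈ N, ∀ w ∈ D i, (x : Matrix ι ι F) *ᵥ w ∈ D i := by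
    intro i x hx w hw
    have := hAinv i _ (mem_algOf (mem_HV hx)) w hw
    rwa [toV_apply] at this
  have hstab : H ≤ decompositionStabilizer D := le_decompStab_of_perm D hperm
  by_cases hfix : ∃ i, σ i = i
  · obtain ⟨i₀, hi₀⟩ := hfix
    have hall : ∀ j, σ j = j := hP.sigma_all (HV H) hisoV htrans hi₀
    have hdisj : ∀ i, Disjoint (D i) ((pB Q).orthogonal (D i)) := by
      intro i
      have := hP.disj i
      rwa [hall i] at this
    have horth : ∀ i j, i ≠ j → D j ≤ (pB Q).orthogonal (D i) := by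
      intro i j hij
      exact hP.orth i j (by rw [hall i]; exact Ne.symm hij)
    have hOD := orthDecomp_of_paired Q hI ht hP.pos hP.finrank_eq hP.indep hP.sup hdisj horth
      htrans
    by_cases hk : 1 < m
    · exact cls2a hI hk hOD hstab
    have hm1 : m = 1 := by
      have := hP.pos
      omega
    subst hm1
    have h2 : (2 : F) ≠ 0 :=
      two_ne_zero_of_nondeg_line Q (D ⟨0, by omega⟩) (hP.finrank_eq _) (hOD.decomp.nondegenerate _)
    by_cases hp : (Fintype.card F).Prime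
    · exact cls2f hI hp h2 hOD hstab
    obtain ⟨K, r, -, hr, hcard⟩ :=
      exists_max_subfield (⊥ : Subfield F) (bot_ne_top_of_not_prime hp)
    have horth' : ∀ i j, i ≠ j → AreOrthogonalFor (bf (gramQ Q)) (D i) (D j) := by
      intro i j hij u hu v hv
      rw [← polar_eq_bf]
      exact hOD.decomp.orthogonal i j hij u hu v hv
    have htr' : ∀ i j, ∃ h ∈ H, (D i).map (Matrix.toLin' (h : Matrix ι ι F)) = D j := by
      intro i j
      obtain ⟨u, hu, hij⟩ := htrans i j
      obtain ⟨h, hh, rfl⟩ := exists_of_mem_HV hu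
      exact ⟨h, hh, by rw [← toV_val]; exact hij⟩
    obtain ⟨P, ζ, hζ, hP', hHP⟩ :=
      class5_of_frame_even Q h2 hGdet K H hH D hOD.decomp.decomp horth' hstab htr'
    exact cls5 hI hr hcard hζ hP' hHP
  push Not at hfix
  by_cases ht3 : 3 ≤ t
  · obtain ⟨s, E, hs, hEfr, hEind, hEsup, hEdisj, hEorth, hEperm, hEtrans⟩ :=
      coarsen_trans hP hfix ht3 (HV H) hisoV hperm htrans
    have hm := hP.pos
    have hOD := orthDecomp_of_paired Q hI hs (by omega : 0 < m + m) hEfr hEind hEsup hEdisj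
      hEorth hEtrans
    exact cls2a hI (by omega) hOD (le_decompStab_of_perm E hEperm)
  -- two totally singular components
  have ht2 : t = 2 := by omega
  subst ht2
  have hti : ∀ i, ∀ u ∈ D i, ∀ v ∈ D i, polar Q u v = 0 := by
    intro i u hu v hv
    exact hP.orth i i (Ne.symm (hfix i)) hv u hu
  have hd01 : Disjoint (D 0) (D 1) := hP.indep.pairwiseDisjoint (by decide)
  have hsup01 : D 0 ⊔ D 1 = ⊤ := by
    rw [eq_top_iff, ← hP.sup]
    apply iSup_le
    intro i
    fin_cases i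
    · exact le_sup_left
    · exact le_sup_right
  have hc : IsCompl (D 0) (D 1) := ⟨hd01, codisjoint_iff.mpr hsup01⟩
  have hts : ∀ i, IsTotallySingularQuad (⇑Q) (D i) := by
    intro i
    fin_cases i
    · exact ts_of_compl Q hI hirr hNH hinv hN1 hc (hti 0) (hNinv 0) (hNinv 1)
    · exact ts_of_compl Q hI hirr hNH hinv hN1 hc.symm (hti 1) (hNinv 1) (hNinv 0)
  exact cls2b hI ⟨le_refl _, hP.pos, hP.finrank_eq, hP.indep, hP.sup⟩ hts hstab

end Cfsg.Agent.Lib.Helper5.AschE
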