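import Mathlib
import Cfsg.Agent.Lib.Helper5.AschE.Basic

set_option autoImplicit false

/-! The field case (classes 3a and 3b) in all characteristics. -/

namespace Cfsg.Agent.Lib.Helper5.AschE

open Module Matrix QuadraticMap
open Cfsg Cfsg.Geo Cfsg.Agent.Lib.Helper8.Asch Cfsg.Agent.Lib.Helper5.AschO

section general

variable {F : Type*} [Field F] {V : Type*} [AddCommGroup V] [Module F V]

/-- helper8's `class3_of_ZC_ne_adj`, remembering that the field lies in the centre of the
commutant -/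
theorem class3_adj_le [Finite F] [FiniteDimensional F V] [Nontrivial V]
    {B : LinearMap.BilinForm F V} {ε : F} (hB : EpsForm B ε)
    (H : Subgroup (GLV F V)) (A : Subalgebra F (Module.End F V)) (hA : ∀ h ∈ H, Nrm A h)
    (hadj : AdjClosed B A)
    [IsSemisimpleModule A V] (hiso : IsIsotypic A V)
    (hne : ∃ z ∈ ZC A, ∀ c : F, z ≠ c • (1 : Module.End F V)) :
    ∃ (r : ℕ) (K : Subalgebra F (Module.End F V)), r.Prime ∧ IsFld K ∧ finrank F K = r ∧
      K ≤ ZC A ∧
      (∀ h ∈ H, ∀ x, x ∈ K ↔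
        (h : Module.End F V) * x * ((h⁻¹ : GLV F V) : Module.End F V) ∈ K) ∧
      (∀ x ∈ K, adjE hB x ∈ K) := by
  have hE : IsFld (ZC A) := isFld_ZC A hiso
  have hd1 : finrank F (ZC A) ≠ 1 := by
    intro h1
    rw [Subalgebra.finrank_eq_one_iff] at h1
    obtain ⟨z, hz, hzc⟩ := hne
    rw [h1, Algebra.mem_bot] at hz
    obtain ⟨c, rfl⟩ := hz
    exact hzc c (Algebra.algebraMap_eq_smul_one c)
  set r := (finrank F (ZC A)).minFac with hr
  have hrp : r.Prime := Nat.minFac_prime hd1
  have hrd : r ∣ finrank F (ZC A) := Nat.minFac_dvd _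
  obtain ⟨K, hKE, hKf, hKr, N, hKN⟩ := exists_subfield_of_dvd (ZC A) hE r hrp.pos hrd
  refine ⟨r, K, hrp, hKf, hKr, hKE, ?_, ?_⟩
  · have key : ∀ h ∈ H, ∀ x, x ∈ K →
        (h : Module.End F V) * x * ((h⁻¹ : GLV F V) : Module.End F V) ∈ K := by
      intro h hh x hx
      rw [hKN] at hx ⊢
      refine ⟨Nrm_ZC (hA h hh) (Nrm.inv_of_subgroup hA hh) x hx.1, ?_⟩
      rw [Units.conj_pow, hx.2]
    intro h hh x
    refine ⟨key h hh x, fun hx => ?_⟩
    have := key h⁻¹ (H.inv_mem hh) _ hx
    rw [inv_inv] at this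
    have e : ((h⁻¹ : GLV F V) : Module.End F V) *
        ((h : Module.End F V) * x * ((h⁻¹ : GLV F V) : Module.End F V)) *
          (h : Module.End F V) = x := by
      calc _ = (((h⁻¹ : GLV F V) : Module.End F V) * (h : Module.End F V)) * x *
          (((h⁻¹ : GLV F V) : Module.End F V) * (h : Module.End F V)) := by simp only [mul_assoc]
        _ = x := by rw [val_inv_mul, one_mul, mul_one]
    rwa [e] at this
  · intro x hx
    rw [hKN] at hx ⊢
    refine ⟨(adjClosed_ZC hB hadj).adjE_mem hB hx.1, ?_⟩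
    rw [← adjE_pow, hx.2]

end general

variable {ι : Type} [Fintype ι] [DecidableEq ι] {F : Type*} [Field F]

theorem field_case_even [Fintype F] [Nonempty ι] (Q : QuadraticForm F (ι → F))
    (hGdet : (gramQ Q).det ≠ 0) {H N : Subgroup (GL ι F)}
    (hI : H ≤ isometryGroup F ⇑Q) (hirr : Irr (HV H)) (hNH : N ≤ H)
    (hinv : ∀ h ∈ H, ∀ x ∈ N, h * x * h⁻¹ ∈ N) (hN1 : ∃ x ∈ N, x ≠ 1)
    [IsSemisimpleModule (algOf (HV N)) (ι → F)]
    (hiso : IsIsotypic (algOf (HV N)) (ι → F))
    (hne : ∃ z ∈ ZC (algOf (HV N)), ∀ c : F, z ≠ c • (1 : Module.End F (ι → F))) :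
    ∃ M, InOEClass (⇑Q) M ∧ H ≤ M := by
  have hB := epsForm_polar Q hGdet
  have hA : ∀ u ∈ HV H, Nrm (algOf (HV N)) u := Nrm_algOf_HV hinv
  have hadj : AdjClosed (pB Q) (algOf (HV N)) := adjClosed_algOf (isomV_polar Q (hNH.trans hI))
  obtain ⟨r, K, hr, hK, hfr, hKZ, hnorm, hadjK⟩ :=
    class3_adj_le hB (HV H) (algOf (HV N)) hA hadj hiso hne
  obtain ⟨K', hK'mem, hK'fld, hHK'⟩ := fieldSubalgebra_of_isFld H r K hK hfr hnorm
  have hBapp : ∀ (x : Module.End F (ι → F)) (u v : ι → F),
      polar Q (x u) v = polar Q u (adjE hB x v) := fun x u v => adjE_apply' hB x u v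
  rcases field_dichotomy hB K hK r hr hfr hadjK with hself | ⟨hr2, x₀, hx₀, hx₀ne⟩
  · -- self-adjoint
    refine cls3a hI hr hK'fld ?_ hHK'
    intro k hk u v
    have h1 := hBapp (Matrix.toLin' k) u v
    rw [hself _ ((hK'mem k).mp hk), Matrix.toLin'_apply, Matrix.toLin'_apply] at h1
    exact h1
  · subst hr2
    refine cls3b hI hK'fld ?_ ?_ ?_ hHK'
    · intro k hk
      have hkK := (hK'mem k).mp hk
      refine ⟨LinearMap.toMatrix' (adjE hB (Matrix.toLin' k)), ?_, fun u v => ?_⟩
      · rw [hK'mem, Matrix.toLin'_toMatrix']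
        exact hadjK _ hkK
      · have h1 := hBapp (Matrix.toLin' k) u v
        rw [Matrix.toLin'_apply] at h1
        rw [h1, ← Matrix.toLin'_apply, Matrix.toLin'_toMatrix']
    · intro hsa
      apply hx₀ne
      have hk₀ : LinearMap.toMatrix' x₀ ∈ K' := by
        rw [hK'mem, Matrix.toLin'_toMatrix']
        exact hx₀
      symm
      apply adjE_unique' hB
      intro u v
      have := hsa _ hk₀ u v
      rw [← Matrix.toLin'_apply, ← Matrix.toLin'_apply, Matrix.toLin'_toMatrix'] at this
      exact this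
    · intro k hk
      have hkK := (hK'mem k).mp hk
      set x := Matrix.toLin' k with hx
      set d := adjE hB x * x with hd
      have hdK : d ∈ K := K.mul_mem (hadjK x hkK) hkK
      have hdfix : adjE hB d = d := by
        rw [hd, adjE_mul, adjE_adjE]
      obtain ⟨c, hc⟩ := fixed_eq_scalar hB K hK hfr hx₀ hx₀ne hdK hdfix
      refine ⟨c, ?_⟩
      have hpol : ∀ u v, polar Q (x u) (x v) = c * polar Q u v := by
        intro u v
        rw [hBapp x u (x v), ← Module.End.mul_apply, ← hd, hc, LinearMap.smul_apply,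
          Module.End.one_apply, polar_smul_right, smul_eq_mul]
      set D : (ι → F) → F := fun v => Q (x v) - c * Q v with hD
      have hQadd : ∀ u v : ι → F, Q (u + v) = Q u + Q v + polar Q u v := by
        intro u v
        unfold polar
        ring
      have hadd : ∀ u v, D (u + v) = D u + D v := by
        intro u v
        show Q (x (u + v)) - c * Q (u + v) = (Q (x u) - c * Q u) + (Q (x v) - c * Q v)
        rw [map_add, hQadd, hQadd u v, hpol]
        ring
      have hsm : ∀ (a : F) (v : ι → F), D (a • v) = a ^ 2 * D v := by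
        intro a v
        show Q (x (a • v)) - c * Q (a • v) = a ^ 2 * (Q (x v) - c * Q v)
        rw [map_smul, QuadraticMap.map_smul, QuadraticMap.map_smul, smul_eq_mul, smul_eq_mul]
        ring
      have hxcomm : ∀ n ∈ N, ∀ v : ι → F,
          x ((n : Matrix ι ι F) *ᵥ v) = (n : Matrix ι ι F) *ᵥ (x v) := by
        intro n hn v
        have h1 := ((mem_ZC.mp (hKZ hkK)).1 _ (mem_algOf (mem_HV hn)))
        have h2 := congrArg (fun f : Module.End F (ι → F) => f v) h1
        simp only [Module.End.mul_apply, toV_apply] at h2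
        exact h2.symm
      have hDN : ∀ n ∈ N, ∀ v, D ((n : Matrix ι ι F) *ᵥ v) = D v := by
        intro n hn v
        show Q (x ((n : Matrix ι ι F) *ᵥ v)) - c * Q ((n : Matrix ι ι F) *ᵥ v) =
          Q (x v) - c * Q v
        rw [hxcomm n hn, Q_inv hI (hNH hn), Q_inv hI (hNH hn)]
      have key := invariant_additive_eq_zero hirr hNH hinv hN1 D (fun a => a ^ 2) hadd hsm hDN
      intro v
      have := key v
      have h3 : D v = Q (k *ᵥ v) - c * Q v := by
        show Q (x v) - c * Q v = _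
        rw [hx, Matrix.toLin'_apply]
      rw [h3, sub_eq_zero] at this
      exact this

end Cfsg.Agent.Lib.Helper5.AschE
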