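import Mathlib
import Cfsg.Agent.Lib.Helper5.AschE.Basic

set_option autoImplicit false

/-! The reducible case in all characteristics. -/

namespace Cfsg.Agent.Lib.Helper5.AschE

open Module Matrix QuadraticMap
open Cfsg Cfsg.Geo Cfsg.Agent.Lib.Helper8.Asch Cfsg.Agent.Lib.Helper5.AschO

variable {ι : Type} [Fintype ι] [DecidableEq ι] {F : Type*} [Field F]

/-- the singular vectors of a totally isotropic subspace form a subspace -/
def singPart (Q : QuadraticForm F (ι → F)) (R : Submodule F (ι → F))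
    (hR : ∀ u ∈ R, ∀ v ∈ R, polar Q u v = 0) : Submodule F (ι → F) where
  carrier := {w | w ∈ R ∧ Q w = 0}
  add_mem' := by
    rintro a b ⟨ha, ha0⟩ ⟨hb, hb0⟩
    refine ⟨R.add_mem ha hb, ?_⟩
    have := hR a ha b hb
    unfold polar at this
    rw [ha0, hb0, sub_zero, sub_zero] at this
    exact this
  zero_mem' := ⟨R.zero_mem, map_zero Q⟩
  smul_mem' := by
    rintro c a ⟨ha, ha0⟩
    refine ⟨R.smul_mem c ha, ?_⟩
    rw [QuadraticMap.map_smul, ha0, smul_zero]

theorem mem_singPart (Q : QuadraticForm F (ι → F)) (R : Submodule F (ι → F))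
    (hR : ∀ u ∈ R, ∀ v ∈ R, polar Q u v = 0) (w : ι → F) :
    w ∈ singPart Q R hR ↔ w ∈ R ∧ Q w = 0 := Iff.rfl

/-- the reducible case: an invariant totally singular subspace, a non-degenerate proper
subspace, or (in characteristic two) a non-singular vector -/
theorem reducible_cases_all [Finite F] (Q : QuadraticForm F (ι → F))
    {H : Subgroup (GL ι F)} (hI : H ≤ isometryGroup F ⇑Q) (hH : OHyp (gramQ Q) H)
    (hred : ¬ Irr (HV H)) :
    ∃ W : Submodule F (ι → F), W ≠ ⊥ ∧ H ≤ subspaceStabilizer W ∧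
      (IsTotallySingularQuad ⇑Q W ∨ (W ≠ ⊤ ∧ IsNondegenerateOn (polar ⇑Q) W) ∨
        ((2 : F) = 0 ∧ ∃ v : ι → F, Q v ≠ 0 ∧ W = Submodule.span F {v})) := by
  unfold Irr at hred
  push Not at hred
  obtain ⟨W, hW, hbot, htop⟩ := hred
  have hW' : ∀ g ∈ H, ∀ w ∈ W, (g : Matrix ι ι F) *ᵥ w ∈ W := by
    intro g hg w hw
    have := hW (toV g) (mem_HV hg) w hw
    rwa [toV_apply] at this
  by_cases hR : W ⊓ perp (gramQ Q) W = ⊥
  · refine ⟨W, hbot, le_stabilizer_of_invariant H W hW', Or.inr (Or.inl ⟨htop, ?_⟩)⟩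
    intro w hw hw0
    have h1 : w ∉ perp (gramQ Q) W := by
      intro hwp
      have : w ∈ W ⊓ perp (gramQ Q) W := ⟨hw, hwp⟩
      rw [hR] at this
      exact hw0 ((Submodule.mem_bot F).mp this)
    rw [mem_perp] at h1
    push Not at h1
    obtain ⟨x, hx, hxw⟩ := h1
    refine ⟨⟨x, hx, ?_⟩, ⟨x, hx, ?_⟩⟩
    · rw [polar_eq_bf]; exact hxw
    · rw [polar_comm, polar_eq_bf]; exact hxw
  set R := W ⊓ perp (gramQ Q) W with hRdef
  have hRinv : ∀ g ∈ H, ∀ w ∈ R, (g : Matrix ι ι F) *ᵥ w ∈ R := by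
    intro g hg w hw
    exact ⟨hW' g hg w hw.1, hH.perp_invariant hW' g hg w hw.2⟩
  have hRiso : ∀ u ∈ R, ∀ v ∈ R, polar Q u v = 0 := by
    intro u hu v hv
    rw [polar_eq_bf]
    exact hv.2 u hu.1
  by_cases h2 : (2 : F) = 0
  swap
  · refine ⟨R, hR, le_stabilizer_of_invariant H R hRinv, Or.inl ?_⟩
    intro w hw
    have h1 : bf (gramQ Q) w w = 0 := hw.2 w hw.1
    rw [← two_mul_Q] at h1
    rcases mul_eq_zero.mp h1 with h | h
    · exact absurd h h2
    · exact h
  set R₀ := singPart Q R hRiso with hR₀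
  by_cases hR₀bot : R₀ = ⊥
  swap
  · refine ⟨R₀, hR₀bot, ?_, Or.inl ?_⟩
    · apply le_stabilizer_of_invariant
      intro g hg w hw
      refine ⟨hRinv g hg w hw.1, ?_⟩
      rw [Q_inv hI hg]
      exact hw.2
    · intro w hw
      exact hw.2
  obtain ⟨v, hvR, hv0⟩ := (Submodule.ne_bot_iff R).mp hR
  have hQv : Q v ≠ 0 := by
    intro h0
    have : v ∈ R₀ := ⟨hvR, h0⟩
    rw [hR₀bot, Submodule.mem_bot] at this
    exact hv0 this
  have hRspan : R = Submodule.span F {v} := by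
    apply le_antisymm
    · intro w hw
      obtain ⟨c, hc⟩ := exists_sq_eq h2 (-(Q w / Q v))
      have hmem : w + c • v ∈ R₀ := by
        refine ⟨R.add_mem hw (R.smul_mem c hvR), ?_⟩
        have h1 := hRiso w hw (c • v) (R.smul_mem c hvR)
        unfold polar at h1
        have h3 : Q (c • v) = c ^ 2 * Q v := by
          rw [QuadraticMap.map_smul, smul_eq_mul, pow_two]
        rw [sub_sub, sub_eq_zero] at h1
        rw [h1, h3, hc]
        field_simp
        ring
      rw [hR₀bot, Submodule.mem_bot] at hmem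
      rw [Submodule.mem_span_singleton]
      refine ⟨-c, ?_⟩
      rw [neg_smul]
      exact (eq_neg_of_add_eq_zero_left hmem).symm
    · rw [Submodule.span_singleton_le_iff_mem]
      exact hvR
  refine ⟨R, hR, le_stabilizer_of_invariant H R hRinv, Or.inr (Or.inr ⟨h2, v, hQv, hRspan⟩)⟩

end Cfsg.Agent.Lib.Helper5.AschE
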