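import Mathlib
import Cfsg.Agent.Lib.Helper5.AschE.Basic

set_option autoImplicit false

/-! Descent of a quadratic form to a subfield over which an absolutely irreducible group of
isometries is written (all characteristics): if a multiple of the polar form is rational, then
the same multiple of the quadratic form is rational. -/

namespace Cfsg.Agent.Lib.Helper5.AschE

open Module Matrix QuadraticMap
open Cfsg Cfsg.Geo Cfsg.Agent.Lib.Helper8.Asch Cfsg.Agent.Lib.Helper5.AschO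

variable {ι : Type} [Fintype ι] [DecidableEq ι] {F : Type*} [Field F]

/-- a ring endomorphism of a finite field whose fixed points are the given subfield -/
theorem exists_frob [Fintype F] (K : Subfield F) :
    ∃ σ : F →+* F, ∀ x : F, x ∈ K ↔ σ x = x := by
  obtain ⟨p, hchar⟩ := CharP.exists F
  haveI := hchar
  haveI hpF : Fact p.Prime := ⟨CharP.char_is_prime F p⟩
  haveI : CharP K p := (RingHom.charP_iff K.subtype K.subtype_injective p).mpr hchar
  haveI : Fintype K := Fintype.ofFinite K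
  obtain ⟨d, -, hd⟩ := FiniteField.card K p
  have hcardK : Nat.card K = p ^ (d : ℕ) := by
    rw [Nat.card_eq_fintype_card, hd]
  refine ⟨(frobEquiv (F := F) p d : F →+* F), fun x => ?_⟩
  have hσapp : ((frobEquiv (F := F) p d : F →+* F)) x = x ^ Nat.card K := by
    rw [hcardK]
    rfl
  rw [hσapp]
  exact mem_subfield_iff_pow K x

theorem bf_map_of_fixed (σ : F →+* F) (G : Matrix ι ι F) (hG : ∀ i j, σ (G i j) = G i j)
    (u v : ι → F) : bf G (σ ∘ u) (σ ∘ v) = σ (bf G u v) := by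
  simp only [bf, dotProduct, Matrix.mulVec, Function.comp, map_sum, map_mul, hG]

theorem mulVec_map_of_fixed (σ : F →+* F) (M : Matrix ι ι F) (hM : ∀ i j, σ (M i j) = M i j)
    (u : ι → F) : M *ᵥ (σ ∘ u) = σ ∘ (M *ᵥ u) := by
  funext i
  simp only [Matrix.mulVec, dotProduct, Function.comp, map_sum, map_mul, hM]

theorem quad_rational_of_form_rational [Fintype F] (Q : QuadraticForm F (ι → F))
    (N : Subgroup (GL ι F)) (hIN : N ≤ isometryGroup F ⇑Q)
    (hspan : Submodule.span F (mset N) = ⊤) (hN1 : ∃ x ∈ N, x ≠ 1)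
    (K : Subfield F) (Bm : GL ι F)
    (hBK : ∀ x ∈ N, ∀ i j, ((Bm * x * Bm⁻¹ : GL ι F) : Matrix ι ι F) i j ∈ K)
    (ζ : F) (hζ : IsFormRationalStructure (polar ⇑Q) K ζ Bm⁻¹) :
    IsQuadFormRationalStructure (fun v : ι → F => ζ * Q v) K Bm⁻¹ := by
  obtain ⟨σ, hσ⟩ := exists_frob K
  set P : Matrix ι ι F := ((Bm⁻¹ : GL ι F) : Matrix ι ι F) with hP
  set B : Matrix ι ι F := (Bm : Matrix ι ι F) with hBdef
  have hPB : P * B = 1 := by rw [hP, hBdef, ← Units.val_mul, inv_mul_cancel, Units.val_one]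
  have hBP : B * P = 1 := by rw [hP, hBdef, ← Units.val_mul, mul_inv_cancel, Units.val_one]
  -- the rational Gram matrix
  set G' : Matrix ι ι F := ζ • (Pᵀ * gramQ Q * P) with hG'
  have hG'bf : ∀ a b : ι → F, bf G' a b = ζ * polar Q (P *ᵥ a) (P *ᵥ b) := by
    intro a b
    rw [hG', bf_smul_mat, ← bf_mulVec, polar_eq_bf]
  have hG'K : ∀ i j, σ (G' i j) = G' i j := by
    intro i j
    rw [← hσ, ← bf_single G' i j, hG'bf]
    apply hζ
    · intro k
      by_cases h : k = i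
      · subst h; rw [Pi.single_eq_same]; exact K.one_mem
      · rw [Pi.single_eq_of_ne h]; exact K.zero_mem
    · intro k
      by_cases h : k = j
      · subst h; rw [Pi.single_eq_same]; exact K.one_mem
      · rw [Pi.single_eq_of_ne h]; exact K.zero_mem
  -- the twist
  set Φ : (ι → F) → (ι → F) := fun v => P *ᵥ (σ ∘ (B *ᵥ v)) with hΦ
  have hΦadd : ∀ u v, Φ (u + v) = Φ u + Φ v := by
    intro u v
    have e : σ ∘ (B *ᵥ (u + v)) = σ ∘ (B *ᵥ u) + σ ∘ (B *ᵥ v) := by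
      funext i
      simp only [Matrix.mulVec_add, Function.comp, Pi.add_apply, map_add]
    show P *ᵥ (σ ∘ (B *ᵥ (u + v))) = P *ᵥ (σ ∘ (B *ᵥ u)) + P *ᵥ (σ ∘ (B *ᵥ v))
    rw [e, Matrix.mulVec_add]
  have hΦsm : ∀ (c : F) (v : ι → F), Φ (c • v) = σ c • Φ v := by
    intro c v
    have e : σ ∘ (B *ᵥ (c • v)) = σ c • (σ ∘ (B *ᵥ v)) := by
      funext i
      simp only [Matrix.mulVec_smul, Function.comp, Pi.smul_apply, smul_eq_mul, map_mul]
    show P *ᵥ (σ ∘ (B *ᵥ (c • v))) = σ c • P *ᵥ (σ ∘ (B *ᵥ v))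
    rw [e, Matrix.mulVec_smul]
  have hΦpol : ∀ u v, ζ * polar Q (Φ u) (Φ v) = σ (ζ * polar Q u v) := by
    intro u v
    show ζ * polar Q (P *ᵥ (σ ∘ (B *ᵥ u))) (P *ᵥ (σ ∘ (B *ᵥ v))) = _
    rw [← hG'bf, bf_map_of_fixed σ G' hG'K, hG'bf, Matrix.mulVec_mulVec, Matrix.mulVec_mulVec,
      hPB, Matrix.one_mulVec, Matrix.one_mulVec]
  have hΦN : ∀ x ∈ N, ∀ v, Φ ((x : Matrix ι ι F) *ᵥ v) = (x : Matrix ι ι F) *ᵥ Φ v := by
    intro x hx v
    set x' : Matrix ι ι F := ((Bm * x * Bm⁻¹ : GL ι F) : Matrix ι ι F) with hx'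
    have hx'val : x' = B * (x : Matrix ι ι F) * P := by
      rw [hx', Units.val_mul, Units.val_mul]
    have hx'K : ∀ i j, σ (x' i j) = x' i j := fun i j => (hσ _).mp (hBK x hx i j)
    have e1 : B *ᵥ ((x : Matrix ι ι F) *ᵥ v) = x' *ᵥ (B *ᵥ v) := by
      rw [hx'val, Matrix.mulVec_mulVec, Matrix.mulVec_mulVec, Matrix.mul_assoc,
        Matrix.mul_assoc, hPB, Matrix.mul_one]
    have e2 : P * x' = (x : Matrix ι ι F) * P := by
      rw [hx'val, ← Matrix.mul_assoc, ← Matrix.mul_assoc, hPB, Matrix.one_mul]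
    show P *ᵥ (σ ∘ (B *ᵥ ((x : Matrix ι ι F) *ᵥ v))) =
      (x : Matrix ι ι F) *ᵥ (P *ᵥ (σ ∘ (B *ᵥ v)))
    rw [e1, ← mulVec_map_of_fixed σ x' hx'K, Matrix.mulVec_mulVec, e2, ← Matrix.mulVec_mulVec]
  -- the defect
  set D : (ι → F) → F := fun v => σ (ζ * Q v) - ζ * Q (Φ v) with hD
  have hQadd : ∀ u v : ι → F, Q (u + v) = Q u + Q v + polar Q u v := by
    intro u v
    unfold polar
    ring
  have hadd : ∀ u v, D (u + v) = D u + D v := by
    intro u v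
    show σ (ζ * Q (u + v)) - ζ * Q (Φ (u + v)) =
      (σ (ζ * Q u) - ζ * Q (Φ u)) + (σ (ζ * Q v) - ζ * Q (Φ v))
    rw [hΦadd, hQadd, hQadd (Φ u), mul_add, mul_add, mul_add, mul_add, hΦpol, map_add, map_add]
    ring
  have hsm : ∀ (c : F) (v : ι → F), D (c • v) = σ c ^ 2 * D v := by
    intro c v
    show σ (ζ * Q (c • v)) - ζ * Q (Φ (c • v)) = σ c ^ 2 * (σ (ζ * Q v) - ζ * Q (Φ v))
    rw [hΦsm, QuadraticMap.map_smul, QuadraticMap.map_smul, smul_eq_mul, smul_eq_mul]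
    simp only [map_mul]
    ring
  have hDN : ∀ x ∈ N, ∀ v, D ((x : Matrix ι ι F) *ᵥ v) = D v := by
    intro x hx v
    show σ (ζ * Q ((x : Matrix ι ι F) *ᵥ v)) - ζ * Q (Φ ((x : Matrix ι ι F) *ᵥ v)) =
      σ (ζ * Q v) - ζ * Q (Φ v)
    rw [hΦN x hx, Q_inv hIN hx, Q_inv hIN hx]
  have key := invariant_additive_eq_zero (irr_of_span_gen N hspan) (le_refl N)
    (fun h hh x hx => N.mul_mem (N.mul_mem hh hx) (N.inv_mem hh)) hN1 D (fun c => σ c ^ 2)
    hadd hsm hDN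
  intro u hu
  show ζ * Q (P *ᵥ u) ∈ K
  rw [hσ]
  have h1 := key (P *ᵥ u)
  have h2 : Φ (P *ᵥ u) = P *ᵥ u := by
    show P *ᵥ (σ ∘ (B *ᵥ (P *ᵥ u))) = P *ᵥ u
    rw [Matrix.mulVec_mulVec, hBP, Matrix.one_mulVec]
    congr 1
    funext i
    exact (hσ _).mp (hu i)
  have h3 : D (P *ᵥ u) = σ (ζ * Q (P *ᵥ u)) - ζ * Q (P *ᵥ u) := by
    show σ (ζ * Q (P *ᵥ u)) - ζ * Q (Φ (P *ᵥ u)) = _
    rw [h2]
  rw [h3, sub_eq_zero] at h1
  exact h1

end Cfsg.Agent.Lib.Helper5.AschE
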