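import Mathlib
import Cfsg.Agent.Lib.Helper5.AschE.QuadDescent

set_option autoImplicit false

/-! The absolutely irreducible case: class 5 or the residual class; the cases A (dimension a prime
power) and B with several factors (dimension a proper power) are excluded by hypothesis. -/

namespace Cfsg.Agent.Lib.Helper5.AschE

open Module Matrix QuadraticMap
open scoped commutatorElement
open Cfsg Cfsg.Geo Cfsg.Agent.Lib.Helper8.Asch Cfsg.Agent.Lib.Helper5.AschO

variable {ι : Type} [Fintype ι] [DecidableEq ι] {F : Type*} [Field F]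

theorem isBilinearForm_polar' (Q : QuadraticForm F (ι → F)) : IsBilinearForm (polar ⇑Q) where
  add_left := polar_add_left Q
  smul_left := fun c x v => by rw [polar_smul_left, smul_eq_mul]
  add_right := polar_add_right Q
  smul_right := fun c v x => by rw [polar_smul_right, smul_eq_mul]

theorem nondegForm_polar (Q : QuadraticForm F (ι → F)) (hGdet : (gramQ Q).det ≠ 0) :
    IsNondegenerateForm (polar ⇑Q) := by
  intro v hv
  constructor
  · by_contra hcon
    push Not at hcon
    apply hv
    apply bf_eq_zero_of_det hGdet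
    intro u
    rw [← polar_eq_bf]
    exact hcon u
  · by_contra hcon
    push Not at hcon
    apply hv
    apply bf_eq_zero_of_det' hGdet
    intro u
    rw [← polar_eq_bf]
    exact hcon u

theorem span_case_even [Fintype F] [Nonempty ι] (Q : QuadraticForm F (ι → F))
    (hGdet : (gramQ Q).det ≠ 0)
    (hn1 : ∀ r m : ℕ, r.Prime → Fintype.card ι ≠ r ^ m)
    (hn2 : ∀ k t : ℕ, 2 ≤ t → Fintype.card ι ≠ k ^ t)
    {H N : Subgroup (GL ι F)} (hI : H ≤ isometryGroup F ⇑Q)
    (hN : IsMinNC H (Zs ι F) N) (hspan : Submodule.span F (mset N) = ⊤) :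
    (∃ M, InOEClass (⇑Q) M ∧ H ≤ M) ∨ InOrthogonalResidualClass H := by
  have hZs : Zs ι F = scalars ι F := Zs_eq_scalars_gen
  have hIN : N ≤ isometryGroup F ⇑Q := hN.le.trans hI
  have hN1 : ∃ x ∈ N, x ≠ 1 := by
    by_contra hcon
    push Not at hcon
    apply hN.not_le
    intro x hx
    rw [hcon x hx]
    exact (Zs ι F).one_mem
  rcases comm_dichotomy hN with hc | hperf
  · exfalso
    have hA : ACase H N := ⟨hN, hc, hspan⟩
    obtain ⟨r, m, hr, hnm, -⟩ := hA.structure_thm
    exact hn1 r m hr hnm
  rcases caseB_structure Zs_le_center hN hperf with hmin |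
    ⟨k, P, hk, -, hPN, -, hcomm, hgen, hperm, htrans⟩
  · rw [hZs] at hmin
    have hNf : Isom (polar ⇑Q) N := fun x hx u v => polar_inv hIN hx u v
    by_cases h1 : ∃ F₀ : Subfield F, F₀ ≠ ⊤ ∧ RealisableOver F₀ (matrixSet N)
    · left
      obtain ⟨F₀, hF₀, B, hB⟩ := h1
      obtain ⟨K, r, hle, hr, hcard⟩ := exists_max_subfield F₀ hF₀
      have hBK : ∀ s ∈ matrixSet N, ∀ i j,
          ((B : Matrix ι ι F) * s * ((B⁻¹ : GL ι F) : Matrix ι ι F)) i j ∈ K :=
        fun s hs i j => hle (hB s hs i j)
      obtain ⟨ζ, hζ0, hζ⟩ := form_rational_of_realisable (isBilinearForm_polar' Q)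
        (nondegForm_polar Q hGdet) N hNf hspan K B hBK
      have hBK' : ∀ x ∈ N, ∀ i j, ((B * x * B⁻¹ : GL ι F) : Matrix ι ι F) i j ∈ K := by
        intro x hx i j
        have := hBK (x : Matrix ι ι F) ⟨x, hx, rfl⟩ i j
        rwa [← Units.val_mul, ← Units.val_mul] at this
      have hQr := quad_rational_of_form_rational Q N hIN hspan hN1 K B hBK' ζ hζ
      exact cls5 hI hr hcard hζ0 hQr (subfield_le_gen H N hN.inv hspan K B hBK')
    · right
      push Not at h1
      refine ⟨N, residual_core_gen H N hN.le hN.inv hspan hperf hmin h1, ?_⟩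
      rintro ⟨σ, g, hg, hfix⟩
      exact h1 (fixSub σ) (fixSub_ne_top σ hg.ne_refl)
        (realisable_of_unitary N hspan (polar ⇑Q) (isBilinearForm_polar' Q)
          (nondegForm_polar Q hGdet) hNf σ g hg hfix)
  · exfalso
    obtain ⟨m, b, -, -, -⟩ :=
      wreath_of_caseB_gen H N hspan k P hk hPN hcomm hgen hperm htrans
    have hcard : Fintype.card ι = m ^ k := by
      have h1 := Module.finrank_eq_card_basis b
      rw [Module.finrank_fintype_fun_eq_card, Fintype.card_fun, Fintype.card_fin,
        Fintype.card_fin] at h1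
      exact h1
    exact hn2 m k hk hcard

end Cfsg.Agent.Lib.Helper5.AschE
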