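import Mathlib
import Cfsg.Agent.Lib.Helper5.AschE.Basic

set_option autoImplicit false

/-! Pure tensors with respect to a basis indexed by a product. -/

namespace Cfsg.Agent.Lib.Helper5.AschE

open Module Matrix QuadraticMap
open scoped Kronecker
open Cfsg Cfsg.Geo Cfsg.Agent.Lib.Helper8.Asch Cfsg.Agent.Lib.Helper5.AschO

variable {F : Type*} [Field F] {V : Type*} [AddCommGroup V] [Module F V]
variable {I J : Type} [Fintype I] [DecidableEq I] [Fintype J] [DecidableEq J]

/-- the pure tensor `x ⊗ y` in the basis `b` -/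
noncomputable def pt (b : Basis (I × J) F V) (x : I → F) (y : J → F) : V :=
  ∑ p : I × J, (x p.1 * y p.2) • b p

theorem repr_pt (b : Basis (I × J) F V) (x : I → F) (y : J → F) (p : I × J) :
    b.repr (pt b x y) p = x p.1 * y p.2 := by
  unfold pt
  rw [Basis.repr_sum_self]

theorem pt_add_left (b : Basis (I × J) F V) (x x' : I → F) (y : J → F) :
    pt b (x + x') y = pt b x y + pt b x' y := by
  unfold pt
  rw [← Finset.sum_add_distrib]
  refine Finset.sum_congr rfl fun p _ => ?_
  rw [Pi.add_apply, add_mul, add_smul]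

theorem pt_add_right (b : Basis (I × J) F V) (x : I → F) (y y' : J → F) :
    pt b x (y + y') = pt b x y + pt b x y' := by
  unfold pt
  rw [← Finset.sum_add_distrib]
  refine Finset.sum_congr rfl fun p _ => ?_
  rw [Pi.add_apply, mul_add, add_smul]

theorem pt_smul_left (b : Basis (I × J) F V) (c : F) (x : I → F) (y : J → F) :
    pt b (c • x) y = c • pt b x y := by
  unfold pt
  rw [Finset.smul_sum]
  refine Finset.sum_congr rfl fun p _ => ?_
  rw [Pi.smul_apply, smul_eq_mul, smul_smul, mul_assoc]

theorem pt_smul_right (b : Basis (I × J) F V) (c : F) (x : I → F) (y : J → F) :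
    pt b x (c • y) = c • pt b x y := by
  unfold pt
  rw [Finset.smul_sum]
  refine Finset.sum_congr rfl fun p _ => ?_
  rw [Pi.smul_apply, smul_eq_mul, smul_smul]
  congr 1
  ring

theorem pt_ne_zero (b : Basis (I × J) F V) {x : I → F} {y : J → F} (hx : x ≠ 0) (hy : y ≠ 0) :
    pt b x y ≠ 0 := by
  intro h0
  obtain ⟨i, hi⟩ := Function.ne_iff.mp hx
  obtain ⟨j, hj⟩ := Function.ne_iff.mp hy
  have := repr_pt b x y (i, j)
  rw [h0, map_zero, Finsupp.zero_apply] at this
  exact mul_ne_zero hi hj this.symm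

/-- an endomorphism with Kronecker matrix acts factorwise on pure tensors -/
theorem apply_pt (b : Basis (I × J) F V) (z : Module.End F V) (U : Matrix I I F)
    (Γ : Matrix J J F) (hz : LinearMap.toMatrix b b z = U ⊗ₖ Γ) (x : I → F) (y : J → F) :
    z (pt b x y) = pt b (U *ᵥ x) (Γ *ᵥ y) := by
  apply b.repr.injective
  ext p
  rw [← LinearMap.toMatrix_mulVec_repr b b z, hz, repr_pt]
  obtain ⟨i, j⟩ := p
  simp only [Matrix.mulVec, dotProduct, Matrix.kroneckerMap_apply, repr_pt]
  rw [Fintype.sum_prod_type, Finset.sum_mul_sum]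
  refine Finset.sum_congr rfl fun i' _ => Finset.sum_congr rfl fun j' _ => ?_
  ring

/-- the form on pure tensors when the Gram matrix is a Kronecker product -/
theorem bilin_pt {ι : Type} [Fintype ι] [DecidableEq ι] (B : LinearMap.BilinForm F (ι → F))
    (b : Basis (I × J) F (ι → F)) (G₁ : Matrix I I F) (G₂ : Matrix J J F)
    (hG : LinearMap.BilinForm.toMatrix b B = G₁ ⊗ₖ G₂) (x x' : I → F) (y y' : J → F) :
    B (pt b x y) (pt b x' y') = bf G₁ x x' * bf G₂ y y' := by
  unfold pt
  rw [bilin_sum_basis B b, hG]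
  simp only [bf, dotProduct, Matrix.mulVec, Matrix.kroneckerMap_apply]
  rw [Fintype.sum_prod_type, Finset.sum_mul_sum]
  refine Finset.sum_congr rfl fun i _ => Finset.sum_congr rfl fun j _ => ?_
  rw [Fintype.sum_prod_type, mul_mul_mul_comm, Finset.sum_mul_sum, Finset.mul_sum]
  refine Finset.sum_congr rfl fun i' _ => ?_
  rw [Finset.mul_sum]
  refine Finset.sum_congr rfl fun j' _ => ?_
  ring

end Cfsg.Agent.Lib.Helper5.AschE
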