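import Mathlib
import Cfsg.Agent.Lib.Helper5.AschE.Pure

set_option autoImplicit false

/-! The tensor case in characteristic two: both factors are alternating and `Q` vanishes on the
pure tensors. -/

namespace Cfsg.Agent.Lib.Helper5.AschE

open Module Matrix QuadraticMap
open scoped Kronecker
open Cfsg Cfsg.Geo Cfsg.Agent.Lib.Helper8.Asch Cfsg.Agent.Lib.Helper5.AschO

variable {ι : Type} [Fintype ι] [DecidableEq ι] {F : Type*} [Field F]

theorem bf_self_add {κ : Type} [Fintype κ] [DecidableEq κ] (h2 : (2 : F) = 0)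
    {G : Matrix κ κ F} (hs : Gᵀ = G) (y y' : κ → F) :
    bf G (y + y') (y + y') = bf G y y + bf G y' y' := by
  rw [bf_add_left, bf_add_right, bf_add_right, bf_symm hs y' y]
  linear_combination (bf G y y') * h2

theorem bf_self_smul {κ : Type} [Fintype κ] [DecidableEq κ] (G : Matrix κ κ F) (c : F)
    (y : κ → F) : bf G (c • y) (c • y) = c ^ 2 * bf G y y := by
  rw [bf_smul_left, bf_smul_right]
  ring

/-- in characteristic two, if the irreducible group `H` acts by Kronecker products and the Gram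
matrix is `G₁ ⊗ G₂` with `G₂` symmetric, then `G₂` has zero diagonal -/
theorem diag_zero_of_irr [Fintype F] (h2 : (2 : F) = 0) (Q : QuadraticForm F (ι → F))
    {H : Subgroup (GL ι F)} (hirr : Irr (HV H)) (hI : H ≤ isometryGroup F ⇑Q)
    {a e : ℕ} (ha : 0 < a) (he : 2 ≤ e) (b : Basis (Fin a × Fin e) F (ι → F))
    (G₁ : GL (Fin a) F) (G₂ : GL (Fin e) F)
    (hG₂s : (G₂ : Matrix (Fin e) (Fin e) F)ᵀ = (G₂ : Matrix (Fin e) (Fin e) F))
    (hG : LinearMap.BilinForm.toMatrix b (pB Q) =
      (G₁ : Matrix (Fin a) (Fin a) F) ⊗ₖ (G₂ : Matrix (Fin e) (Fin e) F))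
    (hbH : ∀ h ∈ HV H, ∃ (U : GL (Fin a) F) (Γ : GL (Fin e) F),
      LinearMap.toMatrix b b (h : Module.End F (ι → F)) =
        (U : Matrix (Fin a) (Fin a) F) ⊗ₖ (Γ : Matrix (Fin e) (Fin e) F)) :
    ∀ j, (G₂ : Matrix (Fin e) (Fin e) F) j j = 0 := by
  by_contra hcon
  push Not at hcon
  obtain ⟨j₀, hj₀⟩ := hcon
  haveI : Nonempty (Fin a) := ⟨⟨0, ha⟩⟩
  haveI : Nonempty (Fin e) := ⟨⟨0, by omega⟩⟩
  set φ : (Fin e → F) → F := fun y => bf (G₂ : Matrix (Fin e) (Fin e) F) y y with hφ
  have hadd : ∀ y y', φ (y + y') = φ y + φ y' := fun y y' => bf_self_add h2 hG₂s y y'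
  have hsm : ∀ (c : F) (y : Fin e → F), φ (c • y) = c ^ 2 * φ y := fun c y => bf_self_smul _ c y
  have hφ0 : φ 0 = 0 := by
    have := hsm 0 0
    rw [zero_smul] at this
    rw [this]
    ring
  obtain ⟨y₀, hy₀, hφy₀⟩ := exists_ne_zero_of_semilinear h2
    (by rw [Fintype.card_fin]; exact he) φ hadd hsm
  set S : Set (ι → F) := {v | ∃ (x : Fin a → F) (y : Fin e → F), φ y = 0 ∧ v = pt b x y} with hS
  set W : Submodule F (ι → F) := Submodule.span F S with hW
  have hWinv : ∀ h ∈ HV H, ∀ w ∈ W, (h : Module.End F (ι → F)) w ∈ W := by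
    intro u hu w hw
    obtain ⟨U, Γ, hUΓ⟩ := hbH u hu
    have hiso : ∀ x y, pB Q ((u : Module.End F (ι → F)) x) ((u : Module.End F (ι → F)) y) =
        pB Q x y := isomV_polar Q hI u hu
    have hgram := gram_isom (pB Q) b (u : Module.End F (ι → F)) hiso
    rw [hUΓ, hG] at hgram
    obtain ⟨μ, hμ, -, hΓ⟩ := kron_similarity G₁ G₂ _ _ hgram
    induction hw using Submodule.span_induction with
    | mem w hw =>
      obtain ⟨x, y, hy, rfl⟩ := hw
      apply Submodule.subset_span
      refine ⟨(U : Matrix (Fin a) (Fin a) F) *ᵥ x, (Γ : Matrix (Fin e) (Fin e) F) *ᵥ y, ?_,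
        apply_pt b _ _ _ hUΓ x y⟩
      show bf (G₂ : Matrix (Fin e) (Fin e) F) _ _ = 0
      rw [bf_mulVec, hΓ, bf_smul_mat]
      have : bf (G₂ : Matrix (Fin e) (Fin e) F) y y = 0 := hy
      rw [this, mul_zero]
    | zero => rw [map_zero]; exact W.zero_mem
    | add a b _ _ ha hb => rw [map_add]; exact W.add_mem ha hb
    | smul c a _ ha => rw [map_smul]; exact W.smul_mem c ha
  rcases hirr W hWinv with h0 | h1
  · have hmem : pt b (Pi.single ⟨0, ha⟩ 1) y₀ ∈ W :=
      Submodule.subset_span ⟨_, _, hφy₀, rfl⟩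
    rw [h0, Submodule.mem_bot] at hmem
    refine pt_ne_zero b ?_ hy₀ hmem
    intro h
    have := congrFun h ⟨0, ha⟩
    rw [Pi.single_eq_same, Pi.zero_apply] at this
    exact one_ne_zero this
  · have hP : ∀ v ∈ W, ∀ i, φ (fun j => b.repr v (i, j)) = 0 := by
      intro v hv
      induction hv using Submodule.span_induction with
      | mem w hw =>
        obtain ⟨x, y, hy, rfl⟩ := hw
        intro i
        have : (fun j => b.repr (pt b x y) (i, j)) = x i • y := by
          funext j
          rw [repr_pt, Pi.smul_apply, smul_eq_mul]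
        rw [this, hsm, hy, mul_zero]
      | zero =>
        intro i
        simp only [map_zero, Finsupp.zero_apply]
        exact hφ0
      | add u v _ _ hu hv =>
        intro i
        have : (fun j => b.repr (u + v) (i, j)) =
            (fun j => b.repr u (i, j)) + (fun j => b.repr v (i, j)) := by
          funext j
          rw [map_add, Finsupp.add_apply, Pi.add_apply]
        rw [this, hadd, hu i, hv i, add_zero]
      | smul c u _ hu =>
        intro i
        have : (fun j => b.repr (c • u) (i, j)) = c • (fun j => b.repr u (i, j)) := by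
          funext j
          rw [map_smul, Finsupp.smul_apply, Pi.smul_apply]
        rw [this, hsm, hu i, mul_zero]
    have := hP (b (⟨0, ha⟩, j₀)) (by rw [h1]; exact Submodule.mem_top) ⟨0, ha⟩
    have h3 : (fun j => b.repr (b (⟨0, ha⟩, j₀)) (⟨0, ha⟩, j)) = Pi.single j₀ (1 : F) := by
      funext j
      rw [Basis.repr_self, Finsupp.single_apply]
      by_cases hj : j₀ = j
      · subst hj
        simp
      · rw [if_neg (by intro h; exact hj (Prod.mk.inj h).2), Pi.single_eq_of_ne (Ne.symm hj)]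
    rw [h3] at this
    apply hj₀
    have h4 : φ (Pi.single j₀ 1) = (G₂ : Matrix (Fin e) (Fin e) F) j₀ j₀ := bf_single _ j₀ j₀
    rw [← h4]
    exact this

end Cfsg.Agent.Lib.Helper5.AschE
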