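import Mathlib
import Cfsg.Agent.Lib.Helper5.AschE.TensorTwo

set_option autoImplicit false

/-! In characteristic two, with both factors alternating, `Q` vanishes on the pure tensors. -/

namespace Cfsg.Agent.Lib.Helper5.AschE

open Module Matrix QuadraticMap
open scoped Kronecker
open Cfsg Cfsg.Geo Cfsg.Agent.Lib.Helper8.Asch Cfsg.Agent.Lib.Helper5.AschO

variable {ι : Type} [Fintype ι] [DecidableEq ι] {F : Type*} [Field F]

theorem Q_pt_eq_zero [Fintype F] (h2 : (2 : F) = 0) (Q : QuadraticForm F (ι → F))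
    {N : Subgroup (GL ι F)} (hIN : N ≤ isometryGroup F ⇑Q)
    {a e : ℕ} (ha : 2 ≤ a) (b : Basis (Fin a × Fin e) F (ι → F))
    (G₁ : Matrix (Fin a) (Fin a) F) (G₂ : Matrix (Fin e) (Fin e) F)
    (hG₂s : G₂ᵀ = G₂) (hG₂d : ∀ j, G₂ j j = 0)
    (hG : LinearMap.BilinForm.toMatrix b (pB Q) = G₁ ⊗ₖ G₂)
    (hb1 : ∀ x ∈ algOf (HV N), ∃ X : Matrix (Fin a) (Fin a) F,
      LinearMap.toMatrix b b x = X ⊗ₖ (1 : Matrix (Fin e) (Fin e) F))
    (hb2 : ∀ X : Matrix (Fin a) (Fin a) F, ∃ x ∈ algOf (HV N),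
      LinearMap.toMatrix b b x = X ⊗ₖ (1 : Matrix (Fin e) (Fin e) F))
    (x : Fin a → F) (y : Fin e → F) : Q (pt b x y) = 0 := by
  have hyy : bf G₂ y y = 0 := by
    rw [← gf_id]
    apply gf_alt
    · intro j j'
      have := congrFun (congrFun hG₂s j) j'
      rw [Matrix.transpose_apply] at this
      rw [this]
      linear_combination (G₂ j j') * h2
    · exact hG₂d
  set D : (Fin a → F) → F := fun x => Q (pt b x y) with hD
  have hQadd : ∀ u v : ι → F, Q (u + v) = Q u + Q v + polar Q u v := by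
    intro u v
    unfold polar
    ring
  have hadd : ∀ u v, D (u + v) = D u + D v := by
    intro u v
    show Q (pt b (u + v) y) = Q (pt b u y) + Q (pt b v y)
    rw [pt_add_left, hQadd, ← pB_apply, bilin_pt (pB Q) b G₁ G₂ hG, hyy, mul_zero, add_zero]
  have hsm : ∀ (c : F) (v : Fin a → F), D (c • v) = c ^ 2 * D v := by
    intro c v
    show Q (pt b (c • v) y) = c ^ 2 * Q (pt b v y)
    rw [pt_smul_left, QuadraticMap.map_smul, smul_eq_mul, pow_two]
  have hD0 : D 0 = 0 := by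
    have := hsm 0 0
    rw [zero_smul] at this
    rw [this]
    ring
  obtain ⟨x₀, hx₀, hDx₀⟩ := exists_ne_zero_of_semilinear h2
    (by rw [Fintype.card_fin]; exact ha) D hadd hsm
  -- the subspace of singular pure tensors with second factor `y`
  let W : Submodule F (ι → F) :=
    { carrier := {v | ∃ x', v = pt b x' y ∧ D x' = 0}
      add_mem' := by
        rintro u v ⟨x₁, rfl, h1⟩ ⟨x₂, rfl, h2'⟩
        exact ⟨x₁ + x₂, (pt_add_left b x₁ x₂ y).symm, by rw [hadd, h1, h2', add_zero]⟩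
      zero_mem' := ⟨0, by
        have := pt_smul_left b (0 : F) (0 : Fin a → F) y
        rw [zero_smul, zero_smul] at this
        exact this.symm, hD0⟩
      smul_mem' := by
        rintro c v ⟨x₁, rfl, h1⟩
        exact ⟨c • x₁, (pt_smul_left b c x₁ y).symm, by rw [hsm, h1, mul_zero]⟩ }
  have hWalg : ∀ z ∈ algOf (HV N), ∀ w ∈ W, z w ∈ W := by
    intro z hz
    unfold algOf at hz
    induction hz using Algebra.adjoin_induction with
    | mem z hz =>
      obtain ⟨g, hg, rfl⟩ := hz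
      obtain ⟨n, hn, rfl⟩ := exists_of_mem_HV hg
      rintro w ⟨x₁, rfl, h1⟩
      obtain ⟨X, hX⟩ := hb1 _ (mem_algOf (mem_HV hn))
      refine ⟨X *ᵥ x₁, ?_, ?_⟩
      · rw [apply_pt b _ X 1 hX, Matrix.one_mulVec]
      · show Q (pt b (X *ᵥ x₁) y) = 0
        have e1 := apply_pt b _ X 1 hX x₁ y
        rw [Matrix.one_mulVec] at e1
        rw [← e1, toV_apply, Q_inv hIN hn]
        exact h1
    | algebraMap c =>
      intro w hw
      rw [Module.algebraMap_end_apply]
      exact W.smul_mem c hw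
    | add z₁ z₂ _ _ h1 h2' =>
      intro w hw
      rw [LinearMap.add_apply]
      exact W.add_mem (h1 w hw) (h2' w hw)
    | mul z₁ z₂ _ _ h1 h2' =>
      intro w hw
      rw [Module.End.mul_apply]
      exact h1 _ (h2' w hw)
  obtain ⟨i₀, hi₀⟩ := Function.ne_iff.mp hx₀
  rw [Pi.zero_apply] at hi₀
  set X₀ : Matrix (Fin a) (Fin a) F := Matrix.of fun i i' => if i' = i₀ then x i / x₀ i₀ else 0
    with hX₀
  have hX₀x : X₀ *ᵥ x₀ = x := by
    funext i
    simp only [Matrix.mulVec, dotProduct, hX₀, Matrix.of_apply]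
    rw [Finset.sum_eq_single i₀]
    · rw [if_pos rfl]
      field_simp
    · intro i' _ hi'
      rw [if_neg hi', zero_mul]
    · intro h
      exact absurd (Finset.mem_univ i₀) h
  obtain ⟨z, hz, hzX⟩ := hb2 X₀
  have hmem : z (pt b x₀ y) ∈ W := hWalg z hz _ ⟨x₀, rfl, hDx₀⟩
  rw [apply_pt b z X₀ 1 hzX, Matrix.one_mulVec, hX₀x] at hmem
  obtain ⟨x', hx', hDx'⟩ := hmem
  rw [hx']
  exact hDx'

end Cfsg.Agent.Lib.Helper5.AschE
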