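import Mathlib
import Cfsg.Agent.Lib.Helper5.AschE.TensorPure

set_option autoImplicit false

/-! The tensor case (classes 4a and 4b) in all characteristics. -/

namespace Cfsg.Agent.Lib.Helper5.AschE

open Module Matrix QuadraticMap
open scoped Kronecker
open Cfsg Cfsg.Geo Cfsg.Agent.Lib.Helper8.Asch Cfsg.Agent.Lib.Helper5.AschO

variable {ι : Type} [Fintype ι] [DecidableEq ι] {F : Type*} [Field F]

theorem isBilinearForm_polar (Q : QuadraticForm F (ι → F)) : IsBilinearForm (polar ⇑Q) where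
  add_left := polar_add_left Q
  smul_left := fun c x v => by rw [polar_smul_left, smul_eq_mul]
  add_right := polar_add_right Q
  smul_right := fun c v x => by rw [polar_smul_right, smul_eq_mul]

theorem toBilin_polar (Q : QuadraticForm F (ι → F)) :
    toBilin (isBilinearForm_polar Q) = pB Q := LinearMap.ext₂ fun _ _ => rfl

theorem pt_swap {a e : ℕ} (b : Basis (Fin a × Fin e) F (ι → F)) (x : Fin a → F)
    (y : Fin e → F) : pt (b.reindex (Equiv.prodComm _ _)) y x = pt b x y := by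
  unfold pt
  rw [← Equiv.sum_comp (Equiv.prodComm (Fin a) (Fin e))]
  refine Finset.sum_congr rfl fun p _ => ?_
  rw [Basis.reindex_apply, Equiv.symm_apply_apply, Equiv.prodComm_apply, Prod.fst_swap,
    Prod.snd_swap, mul_comm]

theorem basisGL_mulVec_pt {n₁ n₂ : ℕ} (b : Basis (Fin n₁ × Fin n₂) F (ι → F))
    (e : ι ≃ Fin n₁ × Fin n₂) (x₁ : Fin n₁ → F) (x₂ : Fin n₂ → F) :
    (Cfsg.Agent.Lib.Helper8.Asch.basisGL b e : Matrix ι ι F) *ᵥ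
      ((fun p : Fin n₁ × Fin n₂ => x₁ p.1 * x₂ p.2) ∘ e) = pt b x₁ x₂ := by
  rw [Cfsg.Agent.Lib.Helper8.Asch.basisGL_mulVec]
  rfl

theorem card_of_prod_basis {n₁ n₂ : ℕ} (b : Basis (Fin n₁ × Fin n₂) F (ι → F)) :
    Fintype.card ι = Fintype.card (Fin n₁ × Fin n₂) := by
  have h1 := Module.finrank_eq_card_basis b
  rw [Module.finrank_fintype_fun_eq_card] at h1
  exact h1

theorem cls4a_of_gram [Fintype F] (Q : QuadraticForm F (ι → F)) {H : Subgroup (GL ι F)}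
    (hI : H ≤ isometryGroup F ⇑Q) (h2 : (2 : F) ≠ 0) {n₁ n₂ : ℕ} (h1 : 2 ≤ n₁) (h12 : n₁ < n₂)
    (b : Basis (Fin n₁ × Fin n₂) F (ι → F)) (G₁ : GL (Fin n₁) F) (G₂ : GL (Fin n₂) F)
    (hs₁ : (G₁ : Matrix (Fin n₁) (Fin n₁) F)ᵀ = (G₁ : Matrix (Fin n₁) (Fin n₁) F))
    (hs₂ : (G₂ : Matrix (Fin n₂) (Fin n₂) F)ᵀ = (G₂ : Matrix (Fin n₂) (Fin n₂) F))
    (hG : LinearMap.BilinForm.toMatrix b (pB Q) =
      (G₁ : Matrix (Fin n₁) (Fin n₁) F) ⊗ₖ (G₂ : Matrix (Fin n₂) (Fin n₂) F))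
    (hH' : ∀ h ∈ H, ∃ (U : GL (Fin n₁) F) (Γ : GL (Fin n₂) F),
      LinearMap.toMatrix b b (Matrix.toLin' (h : Matrix ι ι F)) =
        (U : Matrix (Fin n₁) (Fin n₁) F) ⊗ₖ (Γ : Matrix (Fin n₂) (Fin n₂) F)) :
    ∃ M, InOEClass (⇑Q) M ∧ H ≤ M := by
  let eι : ι ≃ Fin n₁ × Fin n₂ := Fintype.equivOfCardEq (card_of_prod_basis b)
  have hT := tensorFormStructure_of_gram (isBilinearForm_polar Q) b eι
    (G₁ : Matrix (Fin n₁) (Fin n₁) F) (G₂ : Matrix (Fin n₂) (Fin n₂) F)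
    (by rw [toBilin_polar]; exact hG)
  refine cls4a hI h1 h12 h2 (isSymmetricForm_gf G₁ hs₁) (isSymmetricForm_gf G₂ hs₂) hT ?_
  intro h hh
  obtain ⟨U, Γ, hUΓ⟩ := hH' h hh
  exact Cfsg.Agent.Lib.Helper8.Asch.mem_conj_basisGL (kroneckerSubgroup n₁ n₂ F) b eι h
    ⟨kronGL U Γ, ⟨U, Γ, rfl⟩, hUΓ⟩

theorem cls4b_of_gram [Fintype F] (Q : QuadraticForm F (ι → F)) {H : Subgroup (GL ι F)}
    (hI : H ≤ isometryGroup F ⇑Q) {n₁ n₂ : ℕ} (h1 : 2 ≤ n₁) (h12 : n₁ < n₂)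
    (b : Basis (Fin n₁ × Fin n₂) F (ι → F)) (G₁ : GL (Fin n₁) F) (G₂ : GL (Fin n₂) F)
    (hf₁ : IsSymplecticForm (gf (RingHom.id F) (G₁ : Matrix (Fin n₁) (Fin n₁) F)))
    (hf₂ : IsSymplecticForm (gf (RingHom.id F) (G₂ : Matrix (Fin n₂) (Fin n₂) F)))
    (hG : LinearMap.BilinForm.toMatrix b (pB Q) =
      (G₁ : Matrix (Fin n₁) (Fin n₁) F) ⊗ₖ (G₂ : Matrix (Fin n₂) (Fin n₂) F))
    (hQ : ∀ (x : Fin n₁ → F) (y : Fin n₂ → F), Q (pt b x y) = 0)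
    (hH' : ∀ h ∈ H, ∃ (U : GL (Fin n₁) F) (Γ : GL (Fin n₂) F),
      LinearMap.toMatrix b b (Matrix.toLin' (h : Matrix ι ι F)) =
        (U : Matrix (Fin n₁) (Fin n₁) F) ⊗ₖ (Γ : Matrix (Fin n₂) (Fin n₂) F)) :
    ∃ M, InOEClass (⇑Q) M ∧ H ≤ M := by
  let eι : ι ≃ Fin n₁ × Fin n₂ := Fintype.equivOfCardEq (card_of_prod_basis b)
  have hT := tensorFormStructure_of_gram (isBilinearForm_polar Q) b eι
    (G₁ : Matrix (Fin n₁) (Fin n₁) F) (G₂ : Matrix (Fin n₂) (Fin n₂) F)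
    (by rw [toBilin_polar]; exact hG)
  refine cls4b hI h1 h12 hf₁ hf₂ hT ?_ ?_
  · intro x₁ x₂
    rw [basisGL_mulVec_pt]
    exact hQ x₁ x₂
  · intro h hh
    obtain ⟨U, Γ, hUΓ⟩ := hH' h hh
    exact Cfsg.Agent.Lib.Helper8.Asch.mem_conj_basisGL (kroneckerSubgroup n₁ n₂ F) b eι h
      ⟨kronGL U Γ, ⟨U, Γ, rfl⟩, hUΓ⟩

/-- a symmetric invertible matrix with zero diagonal in characteristic two gives a symplectic
form -/
theorem isSymplecticForm_gf_two {κ : Type} [Fintype κ] [DecidableEq κ] (h2 : (2 : F) = 0)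
    (G : GL κ F) (hs : (G : Matrix κ κ F)ᵀ = (G : Matrix κ κ F))
    (hd : ∀ j, (G : Matrix κ κ F) j j = 0) :
    IsSymplecticForm (gf (RingHom.id F) (G : Matrix κ κ F)) := by
  have hsk : ∀ a b, (G : Matrix κ κ F) a b + (G : Matrix κ κ F) b a = 0 := by
    intro a b
    have := congrFun (congrFun hs a) b
    rw [Matrix.transpose_apply] at this
    rw [this]
    linear_combination ((G : Matrix κ κ F) a b) * h2
  exact ⟨gf_bilinear _, gf_skew _ hsk, gf_alt _ hsk hd,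
    gf_nondeg _ (RingHom.id F).injective _ (gl_det_ne_zero G)⟩

end Cfsg.Agent.Lib.Helper5.AschE
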