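import Mathlib
import Cfsg.Agent.Lib.Helper5.AschE.TensorCase

set_option autoImplicit false

/-! The tensor case: assembly. -/

namespace Cfsg.Agent.Lib.Helper5.AschE

open Module Matrix QuadraticMap
open scoped Kronecker
open Cfsg Cfsg.Geo Cfsg.Agent.Lib.Helper8.Asch Cfsg.Agent.Lib.Helper5.AschO

variable {ι : Type} [Fintype ι] [DecidableEq ι] {F : Type*} [Field F]

theorem tensor_case_even [Fintype F] [Nonempty ι] (Q : QuadraticForm F (ι → F))
    (hGdet : (gramQ Q).det ≠ 0) (hn2 : ∀ k t : ℕ, 2 ≤ t → Fintype.card ι ≠ k ^ t)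
    {H N : Subgroup (GL ι F)} (hI : H ≤ isometryGroup F ⇑Q) (hirr : Irr (HV H))
    (hNH : N ≤ H) (hNZ : ¬ N ≤ scalars ι F) (a e : ℕ) (b : Basis (Fin a × Fin e) F (ι → F))
    (hb1 : ∀ x ∈ algOf (HV N), ∃ X : Matrix (Fin a) (Fin a) F,
      LinearMap.toMatrix b b x = X ⊗ₖ (1 : Matrix (Fin e) (Fin e) F))
    (hb2 : ∀ X : Matrix (Fin a) (Fin a) F, ∃ x ∈ algOf (HV N),
      LinearMap.toMatrix b b x = X ⊗ₖ (1 : Matrix (Fin e) (Fin e) F))
    (hbH : ∀ h ∈ HV H, ∃ (U : GL (Fin a) F) (Γ : GL (Fin e) F),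
      LinearMap.toMatrix b b (h : Module.End F (ι → F)) =
        (U : Matrix (Fin a) (Fin a) F) ⊗ₖ (Γ : Matrix (Fin e) (Fin e) F)) :
    (∃ M, InOEClass (⇑Q) M ∧ H ≤ M) ∨ Submodule.span F (mset N) = ⊤ := by
  have hcard : Fintype.card ι = a * e := by
    have h1 := Module.finrank_eq_card_basis b
    rw [Module.finrank_fintype_fun_eq_card, Fintype.card_prod, Fintype.card_fin,
      Fintype.card_fin] at h1
    exact h1
  have hH' : ∀ h ∈ H, ∃ (U : GL (Fin a) F) (Γ : GL (Fin e) F),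
      LinearMap.toMatrix b b (Matrix.toLin' (h : Matrix ι ι F)) =
        (U : Matrix (Fin a) (Fin a) F) ⊗ₖ (Γ : Matrix (Fin e) (Fin e) F) := by
    intro h hh
    obtain ⟨U, Γ, hUΓ⟩ := hbH (toV h) (mem_HV hh)
    rw [toV_val] at hUΓ
    exact ⟨U, Γ, hUΓ⟩
  have hpos : 0 < a * e := by
    rw [← hcard]
    exact Fintype.card_pos
  have ha0 : 0 < a := Nat.pos_of_mul_pos_right hpos
  have he0 : 0 < e := Nat.pos_of_mul_pos_left hpos
  by_cases ha1 : a = 1
  · exfalso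
    apply hNZ
    subst ha1
    intro g hg
    obtain ⟨X, hX⟩ := hb1 _ (mem_algOf (mem_HV hg))
    rw [toV_val] at hX
    have h1 : X ⊗ₖ (1 : Matrix (Fin e) (Fin e) F) = (X 0 0) • (1 : Matrix (Fin 1 × Fin e) _ F) := by
      ext ⟨i, j⟩ ⟨i', j'⟩
      rw [Matrix.kroneckerMap_apply, Matrix.smul_apply, Matrix.one_apply, Matrix.one_apply,
        Subsingleton.elim i 0, Subsingleton.elim i' 0]
      simp only [Prod.mk.injEq, true_and, smul_eq_mul]
    have h2' : Matrix.toLin' (g : Matrix ι ι F) = (X 0 0) • (1 : Module.End F (ι → F)) := by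
      apply (LinearMap.toMatrix b b).injective
      rw [hX, h1, map_smul]
      congr 1
      exact (LinearMap.toMatrix_one b).symm
    have h3 : (g : Matrix ι ι F) = (X 0 0) • (1 : Matrix ι ι F) := by
      apply Matrix.toLin'.injective
      rw [h2', map_smul, Matrix.toLin'_one]
      rfl
    have hc : X 0 0 ≠ 0 := by
      intro h0
      rw [h0, zero_smul] at h3
      have : (1 : Matrix ι ι F) = 0 := by
        rw [← Units.inv_mul g, h3, mul_zero]
      exact one_ne_zero this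
    rw [mem_scalars_iff]
    exact ⟨Units.mk0 _ hc, h3⟩
  by_cases he1 : e = 1
  · right
    subst he1
    rw [eq_top_iff]
    intro M _
    rw [← mem_algOf_HV_iff]
    set Y := LinearMap.toMatrix b b (Matrix.toLin' M) with hY
    obtain ⟨x, hx, hxX⟩ := hb2 (Matrix.of fun i i' => Y (i, 0) (i', 0))
    have : x = Matrix.toLin' M := by
      apply (LinearMap.toMatrix b b).injective
      rw [hxX, ← hY]
      ext ⟨i, j⟩ ⟨i', j'⟩
      rw [Subsingleton.elim j 0, Subsingleton.elim j' 0]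
      simp only [Matrix.kroneckerMap_apply, Matrix.of_apply, Matrix.one_apply_eq, mul_one]
    rw [← this]
    exact hx
  left
  have ha2 : 2 ≤ a := by omega
  have he2 : 2 ≤ e := by omega
  haveI : Nonempty (Fin a) := ⟨⟨0, ha0⟩⟩
  haveI : Nonempty (Fin e) := ⟨⟨0, he0⟩⟩
  have hB := epsForm_polar Q hGdet
  have hadj : AdjClosed (pB Q) (algOf (HV N)) := adjClosed_algOf (isomV_polar Q (hNH.trans hI))
  obtain ⟨G₁, G₂, l, hG, hl, hG₁t, hG₂t⟩ := gram_kron_eps hB b (algOf (HV N)) hb1 hb2 hadj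
  rw [one_mul] at hG₂t
  have hl' : l = 1 ∨ l = -1 := by
    have : (l - 1) * (l + 1) = 0 := by linear_combination hl
    rcases mul_eq_zero.mp this with h | h
    · left; linear_combination h
    · right; linear_combination h
  -- the swapped data
  set b' := b.reindex (Equiv.prodComm (Fin a) (Fin e)) with hb'
  have hG' : LinearMap.BilinForm.toMatrix b' (pB Q) =
      (G₂ : Matrix (Fin e) (Fin e) F) ⊗ₖ (G₁ : Matrix (Fin a) (Fin a) F) :=
    gram_swap (pB Q) b _ _ hG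
  have hbH' : ∀ h ∈ HV H, ∃ (Γ : GL (Fin e) F) (U : GL (Fin a) F),
      LinearMap.toMatrix b' b' (h : Module.End F (ι → F)) =
        (Γ : Matrix (Fin e) (Fin e) F) ⊗ₖ (U : Matrix (Fin a) (Fin a) F) := by
    intro h hh
    obtain ⟨U, Γ, hUΓ⟩ := hbH h hh
    exact ⟨Γ, U, kron_swap b _ _ _ hUΓ⟩
  have hH'' : ∀ h ∈ H, ∃ (Γ : GL (Fin e) F) (U : GL (Fin a) F),
      LinearMap.toMatrix b' b' (Matrix.toLin' (h : Matrix ι ι F)) =
        (Γ : Matrix (Fin e) (Fin e) F) ⊗ₖ (U : Matrix (Fin a) (Fin a) F) := by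
    intro h hh
    obtain ⟨U, Γ, hUΓ⟩ := hH' h hh
    exact ⟨Γ, U, kron_swap b _ _ _ hUΓ⟩
  -- the type of the two factors
  have htype : ((2 : F) ≠ 0 ∧
        (G₁ : Matrix (Fin a) (Fin a) F)ᵀ = (G₁ : Matrix (Fin a) (Fin a) F) ∧
        (G₂ : Matrix (Fin e) (Fin e) F)ᵀ = (G₂ : Matrix (Fin e) (Fin e) F)) ∨
      (IsSymplecticForm (gf (RingHom.id F) (G₁ : Matrix (Fin a) (Fin a) F)) ∧
        IsSymplecticForm (gf (RingHom.id F) (G₂ : Matrix (Fin e) (Fin e) F)) ∧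
        ∀ (x : Fin a → F) (y : Fin e → F), Q (pt b x y) = 0) := by
    by_cases h2 : (2 : F) = 0
    · right
      have hneg : (-1 : F) = 1 := by linear_combination -h2
      have hl1 : l = 1 := by
        rcases hl' with h | h
        · exact h
        · rw [h, hneg]
      rw [hl1, one_smul] at hG₁t hG₂t
      have hd₂ := diag_zero_of_irr h2 Q hirr hI ha0 he2 b G₁ G₂ hG₂t hG hbH
      have hd₁ := diag_zero_of_irr h2 Q hirr hI he0 ha2 b' G₂ G₁ hG₁t hG' hbH'
      refine ⟨isSymplecticForm_gf_two h2 G₁ hG₁t hd₁, isSymplecticForm_gf_two h2 G₂ hG₂t hd₂,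
        fun x y => ?_⟩
      exact Q_pt_eq_zero h2 Q (hNH.trans hI) ha2 b _ _ hG₂t hd₂ hG hb1 hb2 x y
    · rcases hl' with h | h
      · left
        rw [h, one_smul] at hG₁t hG₂t
        exact ⟨h2, hG₁t, hG₂t⟩
      · right
        rw [h, neg_one_smul] at hG₁t hG₂t
        have hf₁ := isSymplecticForm_gf G₁ h2 hG₁t
        have hf₂ := isSymplecticForm_gf G₂ h2 hG₂t
        refine ⟨hf₁, hf₂, fun x y => ?_⟩
        have h3 : polar Q (pt b x y) (pt b x y) = 0 := by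
          rw [← pB_apply, bilin_pt (pB Q) b _ _ hG, ← gf_id, hf₁.alternating, zero_mul]
        rw [polar_eq_bf, ← two_mul_Q] at h3
        rcases mul_eq_zero.mp h3 with h4 | h4
        · exact absurd h4 h2
        · exact h4
  rcases lt_trichotomy a e with hlt | heq | hgt
  · rcases htype with ⟨h2, hs₁, hs₂⟩ | ⟨hf₁, hf₂, hQ⟩
    · exact cls4a_of_gram Q hI h2 ha2 hlt b G₁ G₂ hs₁ hs₂ hG hH'
    · exact cls4b_of_gram Q hI ha2 hlt b G₁ G₂ hf₁ hf₂ hG hQ hH'
  · exfalso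
    subst heq
    exact hn2 a 2 (le_refl 2) (by rw [hcard, pow_two])
  · rcases htype with ⟨h2, hs₁, hs₂⟩ | ⟨hf₁, hf₂, hQ⟩
    · exact cls4a_of_gram Q hI h2 he2 hgt b' G₂ G₁ hs₂ hs₁ hG' hH''
    · refine cls4b_of_gram Q hI he2 hgt b' G₂ G₁ hf₂ hf₁ hG' ?_ hH''
      intro y x
      rw [hb', pt_swap]
      exact hQ x y

end Cfsg.Agent.Lib.Helper5.AschE
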