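import Mathlib
import Cfsg.Agent.Lib.Helper5.AschE.Reducible
import Cfsg.Agent.Lib.Helper5.AschE.DecompCase
import Cfsg.Agent.Lib.Helper5.AschE.FieldCase
import Cfsg.Agent.Lib.Helper5.AschE.TensorMain
import Cfsg.Agent.Lib.Helper5.AschE.SpanCase

set_option autoImplicit false

/-! The Aschbacher-type theorem for a non-degenerate quadratic form in all characteristics, in
dimensions that are neither prime powers nor proper powers. -/

namespace Cfsg.Agent.Lib.Helper5.AschE

open Module Matrix QuadraticMap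
open scoped Kronecker
open Cfsg Cfsg.Geo Cfsg.Agent.Lib.Helper8.Asch Cfsg.Agent.Lib.Helper5.AschO

variable {ι : Type} [Fintype ι] [DecidableEq ι] {F : Type*} [Field F]

/-- every group of isometries of determinant one lies in a member of the geometric classes or is
in the residual class -/
theorem even_main_isom [Fintype F] [Nonempty ι] (Q : QuadraticForm F (ι → F))
    (hGdet : (gramQ Q).det ≠ 0)
    (hn1 : ∀ r m : ℕ, r.Prime → Fintype.card ι ≠ r ^ m)
    (hn2 : ∀ k t : ℕ, 2 ≤ t → Fintype.card ι ≠ k ^ t)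
    (H : Subgroup (GL ι F)) (hI : H ≤ isometryGroup F ⇑Q)
    (hdet : ∀ h ∈ H, (h : Matrix ι ι F).det = 1) :
    (∃ M, InOEClass (⇑Q) M ∧ H ≤ M) ∨ InOrthogonalResidualClass H := by
  have hH : OHyp (gramQ Q) H := ohyp_of_isom Q hI hdet
  have hn : 2 ≤ Fintype.card ι := by
    have h0 : 0 < Fintype.card ι := Fintype.card_pos
    by_contra hlt
    have : Fintype.card ι = 1 := by omega
    exact hn1 2 0 Nat.prime_two (by rw [this, pow_zero])
  by_cases hirr : Irr (HV H)
  swap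
  · left
    obtain ⟨W, hW, hst, hts | ⟨hWt, hnd⟩ | ⟨h2, v, hv, rfl⟩⟩ := reducible_cases_all Q hI hH hirr
    · exact cls1a hI hW hts hst
    · exact cls1b hI hW hWt hnd hst
    · exact cls1c hI h2 hv hst
  have hHZ : ¬ H ≤ Zs ι F := not_le_Zs_of_irr hn H hirr
  obtain ⟨N, hN⟩ := exists_minNC H (Zs ι F) hHZ
  have hA : ∀ u ∈ HV H, Nrm (algOf (HV N)) u := Nrm_algOf_HV hN.inv
  have hN1 : ∃ x ∈ N, x ≠ 1 := by
    by_contra hcon
    push Not at hcon
    apply hN.not_le
    intro x hx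
    rw [hcon x hx]
    exact (Zs ι F).one_mem
  by_cases hiso : IsIsotypic (algOf (HV N)) (ι → F)
  swap
  · left
    exact decomp_case_even Q hGdet hH hI hirr hN.le hN.inv hN1 hiso
  haveI ss : IsSemisimpleModule (algOf (HV N)) (ι → F) :=
    clifford_semisimple (HV H) hirr (algOf (HV N)) hA
  have hNZ : ¬ N ≤ scalars ι F := by
    rw [← Zs_eq_scalars_gen]
    exact hN.not_le
  by_cases hZ : ∀ z ∈ ZC (algOf (HV N)), ∃ c : F, z = c • (1 : Module.End F (ι → F))
  · obtain ⟨a, e, b, hb1, hb2⟩ := tensor_basis (algOf (HV N)) hiso hZ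
    have hbH : ∀ h ∈ HV H, ∃ (U : GL (Fin a) F) (Γ : GL (Fin e) F),
        LinearMap.toMatrix b b (h : Module.End F (ι → F)) =
          (U : Matrix (Fin a) (Fin a) F) ⊗ₖ (Γ : Matrix (Fin e) (Fin e) F) := by
      have hne : Nonempty (Fin a × Fin e) := b.index_nonempty
      have hna : Nonempty (Fin a) := ⟨hne.some.1⟩
      have hnb : Nonempty (Fin e) := ⟨hne.some.2⟩
      intro h hh
      have key := kron_of_normalizes (glMat b h) (by
        intro X
        obtain ⟨x, hx, hxX⟩ := hb2 X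
        obtain ⟨X', hX'⟩ := hb1 _ (hA h hh x hx)
        refine ⟨X', ?_⟩
        rw [← hX', ← hxX, ← map_inv, glMat_val, glMat_val, LinearMap.toMatrix_mul,
          LinearMap.toMatrix_mul])
      obtain ⟨U, Γ, hUΓ⟩ := key
      exact ⟨U, Γ, hUΓ⟩
    rcases tensor_case_even Q hGdet hn2 hI hirr hN.le hNZ a e b hb1 hb2 hbH with hM | hspan
    · left
      exact hM
    · exact span_case_even Q hGdet hn1 hn2 hI hN hspan
  · left
    push Not at hZ
    obtain ⟨z, hz, hzc⟩ := hZ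
    exact field_case_even Q hGdet hI hirr hN.le hN.inv hN1 hiso ⟨z, hz, hzc⟩

/-- the theorem for subgroups of `Ω` -/
theorem even_main [Fintype F] [Nonempty ι] (Q : QuadraticForm F (ι → F))
    (hGdet : (gramQ Q).det ≠ 0)
    (hn1 : ∀ r m : ℕ, r.Prime → Fintype.card ι ≠ r ^ m)
    (hn2 : ∀ k t : ℕ, 2 ≤ t → Fintype.card ι ≠ k ^ t)
    (H : Subgroup (GL ι F)) (hHΩ : H ≤ omegaGL ⇑Q) :
    (∃ M, InOEClass (⇑Q) M ∧ H ≤ M) ∨ InOrthogonalResidualClass H :=
  even_main_isom Q hGdet hn1 hn2 H (hHΩ.trans (omegaGL_le_isom _))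
    (fun _ hh => det_of_mem_omegaGL _ (hHΩ hh))

/-- the dimension hypotheses for `10` and `12` -/
theorem not_prime_pow_ten (r m : ℕ) (hr : r.Prime) : 10 ≠ r ^ m := by
  intro h
  have h2 : 2 ∣ r ^ m := by rw [← h]; norm_num
  have h5 : 5 ∣ r ^ m := by rw [← h]; norm_num
  have e2 := (Nat.prime_dvd_prime_iff_eq Nat.prime_two hr).mp (Nat.prime_two.dvd_of_dvd_pow h2)
  have e5 := (Nat.prime_dvd_prime_iff_eq Nat.prime_five hr).mp (Nat.prime_five.dvd_of_dvd_pow h5)
  omega

theorem not_prime_pow_twelve (r m : ℕ) (hr : r.Prime) : 12 ≠ r ^ m := by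
  intro h
  have h2 : 2 ∣ r ^ m := by rw [← h]; norm_num
  have h3 : 3 ∣ r ^ m := by rw [← h]; norm_num
  have e2 := (Nat.prime_dvd_prime_iff_eq Nat.prime_two hr).mp (Nat.prime_two.dvd_of_dvd_pow h2)
  have e3 := (Nat.prime_dvd_prime_iff_eq Nat.prime_three hr).mp
    (Nat.prime_three.dvd_of_dvd_pow h3)
  omega

theorem not_pow_of_lt {n : ℕ} (hn : 2 ≤ n)
    (h : ∀ k, k < n → ∀ t, t < n → 2 ≤ t → n ≠ k ^ t) (k t : ℕ) (ht : 2 ≤ t) : n ≠ k ^ t := by
  intro hkt
  have hk2 : 2 ≤ k := by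
    by_contra hlt
    have hk : k = 0 ∨ k = 1 := by omega
    rcases hk with rfl | rfl
    · rw [zero_pow (by omega)] at hkt
      omega
    · rw [one_pow] at hkt
      omega
  have hkn : k < n := by
    rw [hkt]
    calc k = k ^ 1 := (pow_one k).symm
      _ < k ^ t := Nat.pow_lt_pow_right (by omega) (by omega)
  have htn : t < n := by
    rw [hkt]
    exact Nat.lt_pow_self (by omega)
  exact h k hkn t htn ht hkt

theorem not_pow_ten (k t : ℕ) (ht : 2 ≤ t) : 10 ≠ k ^ t :=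
  not_pow_of_lt (by norm_num) (by decide) k t ht

theorem not_pow_twelve (k t : ℕ) (ht : 2 ≤ t) : 12 ≠ k ^ t :=
  not_pow_of_lt (by norm_num) (by decide) k t ht

end Cfsg.Agent.Lib.Helper5.AschE
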