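import Mathlib
import Cfsg.Agent.Lib.Helper5.AschE.Main
import Cfsg.Agent.Lib.Helper5.AschE.GenTensor

set_option autoImplicit false

/-! The theorem without the hypotheses excluding the classes 6 and 7: the cases A and B (with
several factors) are returned as data. Only "the dimension is not a square" is assumed. -/

namespace Cfsg.Agent.Lib.Helper5.AschE

open Module Matrix QuadraticMap
open scoped Kronecker commutatorElement
open Cfsg Cfsg.Geo Cfsg.Agent.Lib.Helper8.Asch Cfsg.Agent.Lib.Helper5.AschO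

variable {ι : Type} [Fintype ι] [DecidableEq ι] {F : Type*} [Field F]

/-- the data of case B with several factors -/
def WreathCase (H N : Subgroup (GL ι F)) : Prop :=
  ⁅N, N⁆ = N ∧ ∃ (k : ℕ) (P : Fin k → Subgroup (GL ι F)), 2 ≤ k ∧ Function.Injective P ∧
    (∀ i, P i ≤ N) ∧ (∀ i, ¬ P i ≤ Zs ι F) ∧
    (∀ i j, i ≠ j → ∀ x ∈ P i, ∀ y ∈ P j, x * y = y * x) ∧
    (Subgroup.closure (⋃ i, (P i : Set (GL ι F))) = N) ∧
    (∀ h ∈ H, ∃ σ : Equiv.Perm (Fin k), ∀ i, cj h (P i) = P (σ i)) ∧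
    (∀ i j, ∃ h ∈ H, cj h (P i) = P j)

theorem span_case_gen [Fintype F] [Nonempty ι] (Q : QuadraticForm F (ι → F))
    (hGdet : (gramQ Q).det ≠ 0)
    {H N : Subgroup (GL ι F)} (hI : H ≤ isometryGroup F ⇑Q)
    (hN : IsMinNC H (Zs ι F) N) (hspan : Submodule.span F (mset N) = ⊤) :
    (∃ M, InOEClass (⇑Q) M ∧ H ≤ M) ∨ InOrthogonalResidualClass H ∨ ACase H N ∨
      WreathCase H N := by
  have hZs : Zs ι F = scalars ι F := Zs_eq_scalars_gen
  have hIN : N ≤ isometryGroup F ⇑Q := hN.le.trans hI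
  have hN1 : ∃ x ∈ N, x ≠ 1 := by
    by_contra hcon
    push Not at hcon
    apply hN.not_le
    intro x hx
    rw [hcon x hx]
    exact (Zs ι F).one_mem
  rcases comm_dichotomy hN with hc | hperf
  · exact Or.inr (Or.inr (Or.inl ⟨hN, hc, hspan⟩))
  rcases caseB_structure Zs_le_center hN hperf with hmin | hw
  · rw [hZs] at hmin
    have hNf : Isom (polar ⇑Q) N := fun x hx u v => polar_inv hIN hx u v
    by_cases h1 : ∃ F₀ : Subfield F, F₀ ≠ ⊤ ∧ RealisableOver F₀ (matrixSet N)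
    · left
      obtain ⟨F₀, hF₀, B, hB⟩ := h1
      obtain ⟨K, r, hle, hr, hcard⟩ := exists_max_subfield F₀ hF₀
      have hBK : ∀ s ∈ matrixSet N, ∀ i j,
          ((B : Matrix ι ι F) * s * ((B⁻¹ : GL ι F) : Matrix ι ι F)) i j ∈ K :=
        fun s hs i j => hle (hB s hs i j)
      obtain ⟨ζ, hζ0, hζ⟩ := form_rational_of_realisable (isBilinearForm_polar' Q)
        (nondegForm_polar Q hGdet) N hNf hspan K B hBK
      have hBK' : ∀ x ∈ N, ∀ i j, ((B * x * B⁻¹ : GL ι F) : Matrix ι ι F) i j ∈ K := by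
        intro x hx i j
        have := hBK (x : Matrix ι ι F) ⟨x, hx, rfl⟩ i j
        rwa [← Units.val_mul, ← Units.val_mul] at this
      have hQr := quad_rational_of_form_rational Q N hIN hspan hN1 K B hBK' ζ hζ
      exact cls5 hI hr hcard hζ0 hQr (subfield_le_gen H N hN.inv hspan K B hBK')
    · right; left
      push Not at h1
      refine ⟨N, residual_core_gen H N hN.le hN.inv hspan hperf hmin h1, ?_⟩
      rintro ⟨σ, g, hg, hfix⟩
      exact h1 (fixSub σ) (fixSub_ne_top σ hg.ne_refl)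
        (realisable_of_unitary N hspan (polar ⇑Q) (isBilinearForm_polar' Q)
          (nondegForm_polar Q hGdet) hNf σ g hg hfix)
  · exact Or.inr (Or.inr (Or.inr ⟨hperf, hw⟩))

/-- the general theorem: classes, residual, or the data of case A / case B with several factors
for a minimal normal non-central absolutely irreducible subgroup -/
theorem even_main_gen [Fintype F] [Nonempty ι] (Q : QuadraticForm F (ι → F))
    (hGdet : (gramQ Q).det ≠ 0) (hn : 2 ≤ Fintype.card ι)
    (hsq : ∀ k : ℕ, Fintype.card ι ≠ k ^ 2)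
    (H : Subgroup (GL ι F)) (hI : H ≤ isometryGroup F ⇑Q)
    (hdet : ∀ h ∈ H, (h : Matrix ι ι F).det = 1) :
    (∃ M, InOEClass (⇑Q) M ∧ H ≤ M) ∨ InOrthogonalResidualClass H ∨
      ∃ N : Subgroup (GL ι F), IsMinNC H (Zs ι F) N ∧ Submodule.span F (mset N) = ⊤ ∧
        Irr (HV H) ∧ (ACase H N ∨ WreathCase H N) := by
  have hH : OHyp (gramQ Q) H := ohyp_of_isom Q hI hdet
  by_cases hirr : Irr (HV H)
  swap
  · left
    obtain ⟨W, hW, hst, hts | ⟨hWt, hnd⟩ | ⟨h2, v, hv, rfl⟩⟩ := reducible_cases_all Q hI hH hirr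
    · exact cls1a hI hW hts hst
    · exact cls1b hI hW hWt hnd hst
    · exact cls1c hI h2 hv hst
  have hHZ : ¬ H ≤ Zs ι F := not_le_Zs_of_irr hn H hirr
  obtain ⟨N, hN⟩ := exists_minNC H (Zs ι F) hHZ
  have hA : ∀ u ∈ HV H, Nrm (algOf (HV N)) u := Nrm_algOf_HV hN.inv
  have hN1 : ∃ x ∈ N, x ≠ 1 := by
    by_contra hcon
    push Not at hcon
    apply hN.not_le
    intro x hx
    rw [hcon x hx]
    exact (Zs ι F).one_mem
  by_cases hiso : IsIsotypic (algOf (HV N)) (ι → F)
  swap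
  · left
    exact decomp_case_even Q hGdet hH hI hirr hN.le hN.inv hN1 hiso
  haveI ss : IsSemisimpleModule (algOf (HV N)) (ι → F) :=
    clifford_semisimple (HV H) hirr (algOf (HV N)) hA
  have hNZ : ¬ N ≤ scalars ι F := by
    rw [← Zs_eq_scalars_gen]
    exact hN.not_le
  by_cases hZ : ∀ z ∈ ZC (algOf (HV N)), ∃ c : F, z = c • (1 : Module.End F (ι → F))
  · obtain ⟨a, e, b, hb1, hb2⟩ := tensor_basis (algOf (HV N)) hiso hZ
    have hbH : ∀ h ∈ HV H, ∃ (U : GL (Fin a) F) (Γ : GL (Fin e) F),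
        LinearMap.toMatrix b b (h : Module.End F (ι → F)) =
          (U : Matrix (Fin a) (Fin a) F) ⊗ₖ (Γ : Matrix (Fin e) (Fin e) F) := by
      have hne : Nonempty (Fin a × Fin e) := b.index_nonempty
      have hna : Nonempty (Fin a) := ⟨hne.some.1⟩
      have hnb : Nonempty (Fin e) := ⟨hne.some.2⟩
      intro h hh
      have key := kron_of_normalizes (glMat b h) (by
        intro X
        obtain ⟨x, hx, hxX⟩ := hb2 X
        obtain ⟨X', hX'⟩ := hb1 _ (hA h hh x hx)
        refine ⟨X', ?_⟩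
        rw [← hX', ← hxX, ← map_inv, glMat_val, glMat_val, LinearMap.toMatrix_mul,
          LinearMap.toMatrix_mul])
      obtain ⟨U, Γ, hUΓ⟩ := key
      exact ⟨U, Γ, hUΓ⟩
    rcases tensor_case_sq Q hGdet hsq hI hirr hN.le hNZ a e b hb1 hb2 hbH with hM | hspan
    · left
      exact hM
    · rcases span_case_gen Q hGdet hI hN hspan with h | h | h | h
      · exact Or.inl h
      · exact Or.inr (Or.inl h)
      · exact Or.inr (Or.inr ⟨N, hN, hspan, hirr, Or.inl h⟩)
      · exact Or.inr (Or.inr ⟨N, hN, hspan, hirr, Or.inr h⟩)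
  · left
    push Not at hZ
    obtain ⟨z, hz, hzc⟩ := hZ
    exact field_case_even Q hGdet hI hirr hN.le hN.inv hN1 hiso ⟨z, hz, hzc⟩

end Cfsg.Agent.Lib.Helper5.AschE
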