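import Mathlib
import Cfsg.Agent.Lib.Helper5.AschE.TensorCase

set_option autoImplicit false

/-! The basis attached to the data `(e, P)` of a tensor-product subgroup, and the matrices of the
members of the subgroup in that basis (the converse of `mem_conj_basisGL`). -/

namespace Cfsg.Agent.Lib.Helper5.AschE

open Module Matrix QuadraticMap
open scoped Kronecker
open Cfsg Cfsg.Geo Cfsg.Agent.Lib.Helper8.Asch Cfsg.Agent.Lib.Helper5.AschO

variable {ι : Type} [Fintype ι] [DecidableEq ι] {F : Type*} [Field F]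
variable {κ : Type} [Fintype κ] [DecidableEq κ]

/-- `x ↦ P x` as a linear equivalence -/
noncomputable def glEquiv (P : GL ι F) : (ι → F) ≃ₗ[F] (ι → F) :=
  LinearEquiv.ofLinear (Matrix.toLin' (P : Matrix ι ι F))
    (Matrix.toLin' ((P⁻¹ : GL ι F) : Matrix ι ι F))
    (by rw [← Matrix.toLin'_mul, ← Units.val_mul, mul_inv_cancel, Units.val_one,
          Matrix.toLin'_one])
    (by rw [← Matrix.toLin'_mul, ← Units.val_mul, inv_mul_cancel, Units.val_one,
          Matrix.toLin'_one])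

/-- `x ↦ P (x ∘ e)` as a linear equivalence -/
noncomputable def phiEquiv (e : ι ≃ κ) (P : GL ι F) : (κ → F) ≃ₗ[F] (ι → F) :=
  (LinearEquiv.funCongrLeft F F e) ≪≫ₗ glEquiv P

theorem phiEquiv_apply (e : ι ≃ κ) (P : GL ι F) (x : κ → F) :
    phiEquiv e P x = (P : Matrix ι ι F) *ᵥ (x ∘ e) := by
  rw [phiEquiv, LinearEquiv.trans_apply, glEquiv, LinearEquiv.ofLinear_apply, Matrix.toLin'_apply]
  rfl

/-- the basis `k ↦ P (single k ∘ e)` -/
noncomputable def pBasis (e : ι ≃ κ) (P : GL ι F) : Basis κ F (ι → F) :=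
  Basis.ofEquivFun (phiEquiv e P).symm

theorem pBasis_apply (e : ι ≃ κ) (P : GL ι F) (k : κ) :
    pBasis e P k = (P : Matrix ι ι F) *ᵥ ((Pi.single k (1 : F) : κ → F) ∘ e) := by
  rw [pBasis, Basis.coe_ofEquivFun, LinearEquiv.symm_symm]
  exact phiEquiv_apply e P _

theorem pBasis_repr (e : ι ≃ κ) (P : GL ι F) (x : κ → F) (k : κ) :
    (pBasis e P).repr ((P : Matrix ι ι F) *ᵥ (x ∘ e)) k = x k := by
  rw [pBasis, Basis.ofEquivFun_repr_apply, ← phiEquiv_apply, LinearEquiv.symm_apply_apply]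

theorem toMatrix_pBasis_of_mem (S : Subgroup (GL κ F)) (e : ι ≃ κ) (P : GL ι F) (h : GL ι F)
    (hh : h ∈ (S.map (glReindex e.symm).toMonoidHom).map (MulAut.conj P).toMonoidHom) :
    ∃ s ∈ S, LinearMap.toMatrix (pBasis e P) (pBasis e P) (Matrix.toLin' (h : Matrix ι ι F)) =
      (s : Matrix κ κ F) := by
  obtain ⟨_, ⟨s, hs, rfl⟩, rfl⟩ := hh
  refine ⟨s, hs, ?_⟩
  ext k k'
  rw [LinearMap.toMatrix_apply, Matrix.toLin'_apply, pBasis_apply]
  simp only [MulEquiv.toMonoidHom_eq_coe, MonoidHom.coe_coe, MulAut.conj_apply, Units.val_mul]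
  have hre : ((glReindex e.symm s : GL ι F) : Matrix ι ι F) = (s : Matrix κ κ F).submatrix e e :=
    rfl
  rw [hre, Matrix.mulVec_mulVec, Matrix.mul_assoc, Matrix.mul_assoc, ← Units.val_mul,
    inv_mul_cancel, Units.val_one, Matrix.mul_one, ← Matrix.mulVec_mulVec,
    Matrix.submatrix_mulVec_equiv, pBasis_repr]
  rw [Matrix.mulVec, dotProduct]
  simp [Function.comp_def, Pi.single_apply]

end Cfsg.Agent.Lib.Helper5.AschE
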