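import Mathlib
import Cfsg.Agent.Lib.Helper8.Asch4

set_option autoImplicit false

/-! The quadratic algebra `F + F J` inside an endomorphism algebra, for `J * J = c • 1`. -/

namespace Cfsg.Agent.Lib.Helper5.AschE

open Module
open Cfsg.Agent.Lib.Helper8.Asch

variable {F : Type*} [Field F] {V : Type*} [AddCommGroup V] [Module F V]

theorem quad_mul (J : Module.End F V) (c : F) (hJ : J * J = c • (1 : Module.End F V))
    (x y x' y' : F) :
    (x • (1 : Module.End F V) + y • J) * (x' • (1 : Module.End F V) + y' • J) =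
      (x * x' + c * y * y') • (1 : Module.End F V) + (x * y' + y * x') • J := by
  rw [add_mul, mul_add, mul_add, smul_mul_smul_comm, smul_mul_smul_comm, smul_mul_smul_comm,
    smul_mul_smul_comm, hJ, one_mul, one_mul, mul_one, smul_smul, add_smul, add_smul]
  rw [show y * y' * c = c * y * y' by ring]
  abel

/-- the subalgebra `F + F J` -/
def quadAlg (J : Module.End F V) (c : F) (hJ : J * J = c • (1 : Module.End F V)) :
    Subalgebra F (Module.End F V) where
  carrier := {a | ∃ x y : F, a = x • (1 : Module.End F V) + y • J}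
  mul_mem' := by
    rintro a b ⟨x, y, rfl⟩ ⟨x', y', rfl⟩
    exact ⟨_, _, quad_mul J c hJ x y x' y'⟩
  add_mem' := by
    rintro a b ⟨x, y, rfl⟩ ⟨x', y', rfl⟩
    refine ⟨x + x', y + y', ?_⟩
    rw [add_smul, add_smul]
    abel
  algebraMap_mem' r := ⟨r, 0, by rw [zero_smul, add_zero, Algebra.algebraMap_eq_smul_one]⟩

theorem mem_quadAlg (J : Module.End F V) (c : F) (hJ : J * J = c • (1 : Module.End F V))
    (a : Module.End F V) :
    a ∈ quadAlg J c hJ ↔ ∃ x y : F, a = x • (1 : Module.End F V) + y • J := Iff.rfl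

theorem quad_norm_ne_zero {c : F} (hc : ¬ IsSquare c) {x y : F} (hxy : x ≠ 0 ∨ y ≠ 0) :
    x * x - c * y * y ≠ 0 := by
  intro h0
  by_cases hy : y = 0
  · subst hy
    rcases hxy with h | h
    · apply h
      have : x * x = 0 := by linear_combination h0
      exact mul_self_eq_zero.mp this
    · exact h rfl
  · apply hc
    refine ⟨x / y, ?_⟩
    field_simp
    linear_combination -h0

theorem quad_eq_zero [Nontrivial V] (J : Module.End F V) (c : F)
    (hJ : J * J = c • (1 : Module.End F V)) (hc : ¬ IsSquare c) {x y : F}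
    (h : x • (1 : Module.End F V) + y • J = 0) : x = 0 ∧ y = 0 := by
  by_contra hcon
  have hxy : x ≠ 0 ∨ y ≠ 0 := by
    by_contra h'
    push Not at h'
    exact hcon h'
  have hN := quad_norm_ne_zero hc hxy
  have h1 := quad_mul J c hJ x y x (-y)
  rw [h, zero_mul] at h1
  have h2 : x * -y + y * x = 0 := by ring
  rw [h2, zero_smul, add_zero] at h1
  have h3 : (x * x + c * y * -y) = x * x - c * y * y := by ring
  rw [h3] at h1
  have : (x * x - c * y * y) • (1 : Module.End F V) ≠ 0 := by
    intro h4
    rcases smul_eq_zero.mp h4 with h5 | h5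
    · exact hN h5
    · exact one_ne_zero h5
  exact this h1.symm

theorem isFld_quadAlg [Nontrivial V] (J : Module.End F V) (c : F)
    (hJ : J * J = c • (1 : Module.End F V)) (hc : ¬ IsSquare c) : IsFld (quadAlg J c hJ) where
  comm := by
    rintro a ⟨x, y, rfl⟩ b ⟨x', y', rfl⟩
    rw [quad_mul J c hJ, quad_mul J c hJ]
    congr 2 <;> ring
  inv := by
    rintro a ⟨x, y, rfl⟩ ha
    have hxy : x ≠ 0 ∨ y ≠ 0 := by
      by_contra h'
      push Not at h'
      apply ha
      rw [h'.1, h'.2, zero_smul, zero_smul, add_zero]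
    have hN := quad_norm_ne_zero hc hxy
    obtain ⟨n, hn⟩ : ∃ n : F, n = x * x - c * y * y := ⟨_, rfl⟩
    rw [← hn] at hN
    refine ⟨(x / n) • (1 : Module.End F V) + (-y / n) • J, ⟨_, _, rfl⟩, ?_⟩
    rw [quad_mul J c hJ]
    have e1 : x * (x / n) + c * y * (-y / n) = 1 := by
      field_simp
      rw [hn]
      ring
    have e2 : x * (-y / n) + y * (x / n) = 0 := by
      field_simp
      ring
    rw [e1, e2, zero_smul, add_zero, one_smul]

theorem finrank_quadAlg [Nontrivial V] (J : Module.End F V) (c : F)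
    (hJ : J * J = c • (1 : Module.End F V)) (hc : ¬ IsSquare c) :
    finrank F (quadAlg J c hJ) = 2 := by
  have hli : LinearIndependent F ![(1 : Module.End F V), J] := by
    rw [LinearIndependent.pair_iff]
    intro x y h
    exact quad_eq_zero J c hJ hc h
  have hspan : Subalgebra.toSubmodule (quadAlg J c hJ) =
      Submodule.span F (Set.range ![(1 : Module.End F V), J]) := by
    apply le_antisymm
    · rintro a ⟨x, y, rfl⟩
      refine Submodule.add_mem _ (Submodule.smul_mem _ _ (Submodule.subset_span ⟨0, rfl⟩))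
        (Submodule.smul_mem _ _ (Submodule.subset_span ⟨1, rfl⟩))
    · rw [Submodule.span_le]
      rintro a ⟨i, rfl⟩
      fin_cases i
      · exact ⟨1, 0, by simp⟩
      · exact ⟨0, 1, by simp⟩
  have h1 : finrank F (quadAlg J c hJ) = finrank F (Subalgebra.toSubmodule (quadAlg J c hJ)) := rfl
  rw [h1, hspan, finrank_span_eq_card hli, Fintype.card_fin]

end Cfsg.Agent.Lib.Helper5.AschE
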