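import Mathlib

set_option autoImplicit false

/-! Two-by-two symmetric matrices: the skew generator `jm G` of the rotation algebra. -/

namespace Cfsg.Agent.Lib.Helper5.AschE

open Matrix

variable {F : Type*} [Field F]

/-- the standard alternating matrix -/
def Jm (F : Type*) [Field F] : Matrix (Fin 2) (Fin 2) F := !![0, 1; -1, 0]

/-- for symmetric `G`, `jm G = adjugate G * Jm`, skew-adjoint for `G`, with square `-det G` -/
def jm (G : Matrix (Fin 2) (Fin 2) F) : Matrix (Fin 2) (Fin 2) F :=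
  !![G 0 1, G 1 1; -G 0 0, -G 0 1]

theorem jm_mul_self (G : Matrix (Fin 2) (Fin 2) F) (hs : G 1 0 = G 0 1) :
    jm G * jm G = (-G.det) • (1 : Matrix (Fin 2) (Fin 2) F) := by
  ext i j
  fin_cases i <;> fin_cases j <;>
    simp [jm, Matrix.mul_apply, Fin.sum_univ_two, Matrix.det_fin_two, hs] <;> ring

theorem mul_jm (G : Matrix (Fin 2) (Fin 2) F) (hs : G 1 0 = G 0 1) :
    G * jm G = G.det • Jm F := by
  ext i j
  fin_cases i <;> fin_cases j <;>
    simp [jm, Jm, Matrix.mul_apply, Fin.sum_univ_two, Matrix.det_fin_two, hs] <;> ring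

theorem jm_transpose_mul (G : Matrix (Fin 2) (Fin 2) F) (hs : G 1 0 = G 0 1) :
    (jm G)ᵀ * G = -(G * jm G) := by
  ext i j
  fin_cases i <;> fin_cases j <;>
    simp [jm, Matrix.mul_apply, Fin.sum_univ_two, hs] <;> ring

theorem transpose_Jm_mul (U : Matrix (Fin 2) (Fin 2) F) : Uᵀ * Jm F * U = U.det • Jm F := by
  ext i j
  fin_cases i <;> fin_cases j <;>
    simp [Jm, Matrix.mul_apply, Fin.sum_univ_two, Matrix.det_fin_two] <;> ring

/-- a similitude of `G` conjugates `jm G` to a multiple of itself -/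
theorem jm_conj (G : Matrix (Fin 2) (Fin 2) F) (hs : G 1 0 = G 0 1) (hd : G.det ≠ 0)
    (U : Matrix (Fin 2) (Fin 2) F) (hU : U.det ≠ 0) (μ : F) (hUG : Uᵀ * G * U = μ • G) :
    U.det • (U * jm G) = μ • (jm G * U) := by
  have hdet : (Uᵀ * G).det ≠ 0 := by
    rw [Matrix.det_mul, Matrix.det_transpose]
    exact mul_ne_zero hU hd
  have key : Uᵀ * G * (U.det • (U * jm G)) = Uᵀ * G * (μ • (jm G * U)) := by
    rw [Matrix.mul_smul, Matrix.mul_smul, ← Matrix.mul_assoc, hUG, Matrix.smul_mul, mul_jm G hs,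
      ← Matrix.mul_assoc, Matrix.mul_assoc Uᵀ G, mul_jm G hs, Matrix.mul_smul, Matrix.smul_mul,
      transpose_Jm_mul, smul_smul, smul_smul, smul_smul, smul_smul]
    congr 1
    ring
  have h1 : (Uᵀ * G)⁻¹ * (Uᵀ * G) = 1 := Matrix.nonsing_inv_mul _ (Ne.isUnit hdet)
  calc U.det • (U * jm G) = (Uᵀ * G)⁻¹ * (Uᵀ * G * (U.det • (U * jm G))) := by
        rw [← Matrix.mul_assoc, h1, Matrix.one_mul]
    _ = (Uᵀ * G)⁻¹ * (Uᵀ * G * (μ • (jm G * U))) := by rw [key]
    _ = μ • (jm G * U) := by rw [← Matrix.mul_assoc, h1, Matrix.one_mul]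

theorem jm_ne_smul_one (G : Matrix (Fin 2) (Fin 2) F) (hs : G 1 0 = G 0 1) (hd : G.det ≠ 0)
    (h2 : (2 : F) ≠ 0) (t : F) : jm G ≠ t • (1 : Matrix (Fin 2) (Fin 2) F) := by
  intro h
  have h01 := congrFun (congrFun h 0) 1
  have h10 := congrFun (congrFun h 1) 0
  have h00 := congrFun (congrFun h 0) 0
  have h11 := congrFun (congrFun h 1) 1
  simp [jm] at h01 h10 h00 h11
  apply hd
  rw [Matrix.det_fin_two, h01, h10, hs]
  have : G 0 1 = 0 := by
    have e : (2 : F) * G 0 1 = 0 := by linear_combination h00 - h11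
    rcases mul_eq_zero.mp e with h' | h'
    · exact absurd h' h2
    · exact h'
  rw [this]
  ring

end Cfsg.Agent.Lib.Helper5.AschE
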