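import Mathlib
import Cfsg.Agent.Lib.Helper5.AschE.Basic

set_option autoImplicit false

/-! Endomorphisms with matrix `k ⊗ 1` in a basis indexed by a product. -/

namespace Cfsg.Agent.Lib.Helper5.AschE

open Module Matrix
open scoped Kronecker
open Cfsg Cfsg.Geo Cfsg.Agent.Lib.Helper8.Asch Cfsg.Agent.Lib.Helper5.AschO

variable {F : Type*} [Field F] {V : Type*} [AddCommGroup V] [Module F V]
variable {I J : Type} [Fintype I] [DecidableEq I] [Fintype J] [DecidableEq J]

/-- the endomorphism with matrix `k ⊗ 1` in the basis `b` -/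
noncomputable def psi (b : Basis (I × J) F V) (k : Matrix I I F) : Module.End F V :=
  (LinearMap.toMatrix b b).symm (k ⊗ₖ (1 : Matrix J J F))

theorem toMatrix_psi (b : Basis (I × J) F V) (k : Matrix I I F) :
    LinearMap.toMatrix b b (psi b k) = k ⊗ₖ (1 : Matrix J J F) :=
  LinearEquiv.apply_symm_apply _ _

theorem psi_mul (b : Basis (I × J) F V) (k k' : Matrix I I F) :
    psi b (k * k') = psi b k * psi b k' := by
  apply (LinearMap.toMatrix b b).injective
  rw [LinearMap.toMatrix_mul, toMatrix_psi, toMatrix_psi, toMatrix_psi,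
    ← Matrix.mul_kronecker_mul, Matrix.one_mul]

theorem psi_one (b : Basis (I × J) F V) : psi b (1 : Matrix I I F) = 1 := by
  apply (LinearMap.toMatrix b b).injective
  rw [toMatrix_psi, Matrix.one_kronecker_one, LinearMap.toMatrix_one]

theorem psi_add (b : Basis (I × J) F V) (k k' : Matrix I I F) :
    psi b (k + k') = psi b k + psi b k' := by
  apply (LinearMap.toMatrix b b).injective
  rw [map_add, toMatrix_psi, toMatrix_psi, toMatrix_psi, Matrix.add_kronecker]

theorem psi_smul (b : Basis (I × J) F V) (c : F) (k : Matrix I I F) :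
    psi b (c • k) = c • psi b k := by
  apply (LinearMap.toMatrix b b).injective
  rw [map_smul, toMatrix_psi, toMatrix_psi, Matrix.smul_kronecker]

theorem psi_zero (b : Basis (I × J) F V) : psi b (0 : Matrix I I F) = 0 := by
  have := psi_smul b (0 : F) (0 : Matrix I I F)
  rw [zero_smul, zero_smul] at this
  exact this

/-- adjoints -/
theorem psi_adj (b : Basis (I × J) F V) (B : LinearMap.BilinForm F V) (G₁ : Matrix I I F)
    (G₂ : Matrix J J F) (hG : LinearMap.BilinForm.toMatrix b B = G₁ ⊗ₖ G₂)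
    (k k' : Matrix I I F) (hk : kᵀ * G₁ = G₁ * k') (u v : V) :
    B (psi b k u) v = B u (psi b k' v) := by
  rw [LinearMap.BilinForm.apply_eq_dotProduct_toMatrix_mulVec b,
    LinearMap.BilinForm.apply_eq_dotProduct_toMatrix_mulVec b B u,
    ← LinearMap.toMatrix_mulVec_repr b b (psi b k), ← LinearMap.toMatrix_mulVec_repr b b (psi b k'),
    toMatrix_psi, toMatrix_psi, hG, Matrix.mulVec_mulVec, ← Matrix.mul_kronecker_mul,
    Matrix.mul_one, ← hk]
  show bf _ (_ *ᵥ _) _ = bf _ _ _
  rw [bf_mulVec_left]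
  congr 1
  rw [← Matrix.kroneckerMap_transpose, Matrix.transpose_one, ← Matrix.mul_kronecker_mul,
    Matrix.one_mul]

/-- conjugation by an endomorphism with Kronecker matrix -/
theorem psi_conj (b : Basis (I × J) F V) (h : GLV F V) (U : GL I F) (Γ : GL J F)
    (hh : LinearMap.toMatrix b b (h : Module.End F V) = (U : Matrix I I F) ⊗ₖ (Γ : Matrix J J F))
    (k : Matrix I I F) :
    (h : Module.End F V) * psi b k * ((h⁻¹ : GLV F V) : Module.End F V) =
      psi b ((U : Matrix I I F) * k * ((U⁻¹ : GL I F) : Matrix I I F)) := by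
  have hinv : LinearMap.toMatrix b b ((h⁻¹ : GLV F V) : Module.End F V) =
      ((U⁻¹ : GL I F) : Matrix I I F) ⊗ₖ ((Γ⁻¹ : GL J F) : Matrix J J F) := by
    have h1 : LinearMap.toMatrix b b (h : Module.End F V) *
        LinearMap.toMatrix b b ((h⁻¹ : GLV F V) : Module.End F V) = 1 := by
      rw [← LinearMap.toMatrix_mul, ← Units.val_mul, mul_inv_cancel, Units.val_one,
        LinearMap.toMatrix_one]
    have h2 : (((U⁻¹ : GL I F) : Matrix I I F) ⊗ₖ ((Γ⁻¹ : GL J F) : Matrix J J F)) *
        ((U : Matrix I I F) ⊗ₖ (Γ : Matrix J J F)) = 1 := by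
      rw [← Matrix.mul_kronecker_mul, ← Units.val_mul, ← Units.val_mul, inv_mul_cancel,
        inv_mul_cancel, Units.val_one, Units.val_one, Matrix.one_kronecker_one]
    calc LinearMap.toMatrix b b ((h⁻¹ : GLV F V) : Module.End F V)
        = ((((U⁻¹ : GL I F) : Matrix I I F) ⊗ₖ ((Γ⁻¹ : GL J F) : Matrix J J F)) *
            ((U : Matrix I I F) ⊗ₖ (Γ : Matrix J J F))) *
              LinearMap.toMatrix b b ((h⁻¹ : GLV F V) : Module.End F V) := by
          rw [h2, Matrix.one_mul]
      _ = ((U⁻¹ : GL I F) : Matrix I I F) ⊗ₖ ((Γ⁻¹ : GL J F) : Matrix J J F) := by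
          rw [Matrix.mul_assoc, ← hh, h1, Matrix.mul_one]
  apply (LinearMap.toMatrix b b).injective
  rw [LinearMap.toMatrix_mul, LinearMap.toMatrix_mul, toMatrix_psi, toMatrix_psi, hh, hinv,
    ← Matrix.mul_kronecker_mul, ← Matrix.mul_kronecker_mul, Matrix.mul_one, ← Units.val_mul,
    mul_inv_cancel, Units.val_one]

end Cfsg.Agent.Lib.Helper5.AschE
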