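import Mathlib
import Cfsg.Agent.Lib.Helper5.AschE.TwoPsi
import Cfsg.Agent.Lib.Helper5.AschE.TwoByTwo

set_option autoImplicit false

/-! A two-dimensional symmetric tensor factor: the group acts on the rotation algebra by `± 1`. -/

namespace Cfsg.Agent.Lib.Helper5.AschE

open Module Matrix QuadraticMap
open scoped Kronecker
open Cfsg Cfsg.Geo Cfsg.Agent.Lib.Helper8.Asch Cfsg.Agent.Lib.Helper5.AschO

variable {ι : Type} [Fintype ι] [DecidableEq ι] {F : Type*} [Field F]

theorem conj_psi_quad (Q : QuadraticForm F (ι → F)) {H : Subgroup (GL ι F)}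
    (hI : H ≤ isometryGroup F ⇑Q) {m : ℕ} [Nonempty (Fin m)]
    (b : Basis (Fin 2 × Fin m) F (ι → F)) (G₁ : GL (Fin 2) F) (G₂ : GL (Fin m) F)
    (hs₁ : (G₁ : Matrix (Fin 2) (Fin 2) F)ᵀ = (G₁ : Matrix (Fin 2) (Fin 2) F))
    (hG : LinearMap.BilinForm.toMatrix b (pB Q) =
      (G₁ : Matrix (Fin 2) (Fin 2) F) ⊗ₖ (G₂ : Matrix (Fin m) (Fin m) F))
    (hbH : ∀ h ∈ HV H, ∃ (U : GL (Fin 2) F) (Γ : GL (Fin m) F),
      LinearMap.toMatrix b b (h : Module.End F (ι → F)) =
        (U : Matrix (Fin 2) (Fin 2) F) ⊗ₖ (Γ : Matrix (Fin m) (Fin m) F))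
    (h : GLV F (ι → F)) (hh : h ∈ HV H) :
    ∃ ε : F, (ε = 1 ∨ ε = -1) ∧ ∀ x y : F,
      (h : Module.End F (ι → F)) *
          psi b (x • (1 : Matrix (Fin 2) (Fin 2) F) + y • jm (G₁ : Matrix (Fin 2) (Fin 2) F)) *
          ((h⁻¹ : GLV F (ι → F)) : Module.End F (ι → F)) =
        psi b (x • (1 : Matrix (Fin 2) (Fin 2) F) +
          (ε * y) • jm (G₁ : Matrix (Fin 2) (Fin 2) F)) := by
  set G : Matrix (Fin 2) (Fin 2) F := (G₁ : Matrix (Fin 2) (Fin 2) F) with hGm
  have hs : G 1 0 = G 0 1 := by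
    have := congrFun (congrFun hs₁ 0) 1
    rw [Matrix.transpose_apply] at this
    exact this
  have hd : G.det ≠ 0 := gl_det_ne_zero G₁
  obtain ⟨U, Γ, hUΓ⟩ := hbH h hh
  have hiso : ∀ x y, pB Q ((h : Module.End F (ι → F)) x) ((h : Module.End F (ι → F)) y) =
      pB Q x y := isomV_polar Q hI h hh
  have hgram := gram_isom (pB Q) b (h : Module.End F (ι → F)) hiso
  rw [hUΓ, hG] at hgram
  obtain ⟨μ, hμ, hU, -⟩ := kron_similarity G₁ G₂ _ _ hgram
  set Um : Matrix (Fin 2) (Fin 2) F := (U : Matrix (Fin 2) (Fin 2) F) with hUm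
  set Ui : Matrix (Fin 2) (Fin 2) F := ((U⁻¹ : GL (Fin 2) F) : Matrix (Fin 2) (Fin 2) F) with hUi
  have u1 : Um * Ui = 1 := by rw [hUm, hUi, ← Units.val_mul, mul_inv_cancel, Units.val_one]
  have hUd : Um.det ≠ 0 := gl_det_ne_zero U
  have hconj := jm_conj G hs hd Um hUd μ hU
  have hsq : Um.det * Um.det = μ * μ := by
    have := congrArg Matrix.det hU
    rw [Matrix.det_mul, Matrix.det_mul, Matrix.det_transpose, Matrix.det_smul,
      Fintype.card_fin] at this
    have h3 : (Um.det * Um.det - μ * μ) * G.det = 0 := by linear_combination this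
    rcases mul_eq_zero.mp h3 with h4 | h4
    · linear_combination h4
    · exact absurd h4 hd
  set ε : F := μ / Um.det with hε
  have hε2 : ε = 1 ∨ ε = -1 := by
    have : (ε - 1) * (ε + 1) = 0 := by
      rw [hε]
      field_simp
      linear_combination -hsq
    rcases mul_eq_zero.mp this with h4 | h4
    · left; linear_combination h4
    · right; linear_combination h4
  have hUj : Um * jm G * Ui = ε • jm G := by
    have h5 : Um * jm G = ε • (jm G * Um) := by
      have h6 : Um.det • (Um * jm G) = Um.det • (ε • (jm G * Um)) := by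
        rw [hconj, smul_smul, hε, mul_div_cancel₀ _ hUd]
      exact smul_right_injective _ hUd h6
    rw [h5, Matrix.smul_mul, Matrix.mul_assoc, u1, Matrix.mul_one]
  refine ⟨ε, hε2, fun x y => ?_⟩
  rw [psi_conj b h U Γ hUΓ]
  congr 1
  rw [Matrix.mul_add, Matrix.add_mul, Matrix.mul_smul, Matrix.smul_mul, Matrix.mul_one, u1,
    Matrix.mul_smul, Matrix.smul_mul, hUj, smul_smul, mul_comm]

end Cfsg.Agent.Lib.Helper5.AschE
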