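import Mathlib
import Cfsg.Agent.Lib.Helper5.AschE.TwoConj
import Cfsg.Agent.Lib.Helper5.AschE.QuadAlg

set_option autoImplicit false

/-! A two-dimensional symmetric tensor factor of minus type gives a unitary-type field (3b). -/

namespace Cfsg.Agent.Lib.Helper5.AschE

open Module Matrix QuadraticMap
open scoped Kronecker
open Cfsg Cfsg.Geo Cfsg.Agent.Lib.Helper8.Asch Cfsg.Agent.Lib.Helper5.AschO

variable {ι : Type} [Fintype ι] [DecidableEq ι] {F : Type*} [Field F]

theorem psi_quad {m : ℕ} (b : Basis (Fin 2 × Fin m) F (ι → F)) (j : Matrix (Fin 2) (Fin 2) F)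
    (x y : F) :
    psi b (x • (1 : Matrix (Fin 2) (Fin 2) F) + y • j) =
      x • (1 : Module.End F (ι → F)) + y • psi b j := by
  rw [psi_add, psi_smul, psi_smul, psi_one]

/-- the adjoint of `x + y j` is `x - y j` -/
theorem quad_adj (Q : QuadraticForm F (ι → F)) {m : ℕ}
    (b : Basis (Fin 2 × Fin m) F (ι → F)) (G : Matrix (Fin 2) (Fin 2) F)
    (G₂ : Matrix (Fin m) (Fin m) F) (hs : G 1 0 = G 0 1)
    (hG : LinearMap.BilinForm.toMatrix b (pB Q) = G ⊗ₖ G₂) (x y : F) (u v : ι → F) :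
    polar Q ((x • (1 : Module.End F (ι → F)) + y • psi b (jm G)) u) v =
      polar Q u ((x • (1 : Module.End F (ι → F)) + (-y) • psi b (jm G)) v) := by
  rw [← psi_quad, ← psi_quad, ← pB_apply, ← pB_apply]
  apply psi_adj b (pB Q) G G₂ hG
  rw [Matrix.transpose_add, Matrix.transpose_smul, Matrix.transpose_smul, Matrix.transpose_one,
    Matrix.add_mul, Matrix.mul_add, Matrix.smul_mul, Matrix.smul_mul, Matrix.mul_smul,
    Matrix.mul_smul, Matrix.one_mul, Matrix.mul_one, jm_transpose_mul G hs, neg_smul, smul_neg]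

theorem cls2b_or [Fintype F] {Q : (ι → F) → F} {H : Subgroup (GL ι F)}
    (hI : H ≤ isometryGroup F Q) {k : ℕ} {D : Fin 2 → Submodule F (ι → F)}
    (hD : IsMDecomposition k D) (hts : ∀ i, IsTotallySingularQuad Q (D i))
    (hH : H ≤ decompositionStabilizer D) :
    ∃ M, (Cls2b Q M ∨ Cls3b Q M) ∧ H ≤ M :=
  ⟨_, Or.inl ⟨k, D, hD, hts, rfl⟩, le_inf hH hI⟩

theorem cls3b_or [Fintype F] {Q : (ι → F) → F} {H : Subgroup (GL ι F)}
    (hI : H ≤ isometryGroup F Q) {K : Subalgebra F (Matrix ι ι F)}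
    (hK : IsFieldSubalgebra 2 K) (hac : IsAdjointClosedFor (polar Q) K)
    (hnsa : ¬ IsSelfAdjointFor (polar Q) K)
    (hsim : ∀ k ∈ K, ∃ c : F, ∀ v : ι → F, Q (k *ᵥ v) = c * Q v)
    (hH : H ≤ subalgebraNormalizer K) :
    ∃ M, (Cls2b Q M ∨ Cls3b Q M) ∧ H ≤ M :=
  ⟨_, Or.inr ⟨K, hK, hac, hnsa, hsim, rfl⟩, le_inf hH hI⟩

theorem two_minus [Fintype F] [Nonempty ι] (Q : QuadraticForm F (ι → F))
    (hGdet : (gramQ Q).det ≠ 0) (h2 : (2 : F) ≠ 0) {H : Subgroup (GL ι F)}
    (hI : H ≤ isometryGroup F ⇑Q) {m : ℕ} [Nonempty (Fin m)]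
    (b : Basis (Fin 2 × Fin m) F (ι → F)) (G₁ : GL (Fin 2) F) (G₂ : GL (Fin m) F)
    (hs₁ : (G₁ : Matrix (Fin 2) (Fin 2) F)ᵀ = (G₁ : Matrix (Fin 2) (Fin 2) F))
    (hG : LinearMap.BilinForm.toMatrix b (pB Q) =
      (G₁ : Matrix (Fin 2) (Fin 2) F) ⊗ₖ (G₂ : Matrix (Fin m) (Fin m) F))
    (hbH : ∀ h ∈ HV H, ∃ (U : GL (Fin 2) F) (Γ : GL (Fin m) F),
      LinearMap.toMatrix b b (h : Module.End F (ι → F)) =
        (U : Matrix (Fin 2) (Fin 2) F) ⊗ₖ (Γ : Matrix (Fin m) (Fin m) F))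
    (hns : ¬ IsSquare (-(G₁ : Matrix (Fin 2) (Fin 2) F).det)) :
    ∃ M, (Cls2b (⇑Q) M ∨ Cls3b (⇑Q) M) ∧ H ≤ M := by
  set G : Matrix (Fin 2) (Fin 2) F := (G₁ : Matrix (Fin 2) (Fin 2) F) with hGm
  have hs : G 1 0 = G 0 1 := by
    have := congrFun (congrFun hs₁ 0) 1
    rw [Matrix.transpose_apply] at this
    exact this
  have hd : G.det ≠ 0 := gl_det_ne_zero G₁
  set J₁ : Module.End F (ι → F) := psi b (jm G) with hJ₁def
  have hJ₁ : J₁ * J₁ = (-G.det) • (1 : Module.End F (ι → F)) := by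
    rw [hJ₁def, ← psi_mul, jm_mul_self G hs, psi_smul, psi_one]
  set K := quadAlg J₁ (-G.det) hJ₁ with hKdef
  have hK : IsFld K := isFld_quadAlg J₁ _ hJ₁ hns
  have hfr : finrank F K = 2 := finrank_quadAlg J₁ _ hJ₁ hns
  have hfwd : ∀ h ∈ HV H, ∀ a ∈ K, (h : Module.End F (ι → F)) * a *
      ((h⁻¹ : GLV F (ι → F)) : Module.End F (ι → F)) ∈ K := by
    rintro h hh a ⟨x, y, rfl⟩
    obtain ⟨ε, -, hε⟩ := conj_psi_quad Q hI b G₁ G₂ hs₁ hG hbH h hh
    have := hε x y
    rw [psi_quad, psi_quad] at this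
    rw [this]
    exact ⟨x, ε * y, rfl⟩
  have hnorm : ∀ h ∈ HV H, ∀ a, a ∈ K ↔ (h : Module.End F (ι → F)) * a *
      ((h⁻¹ : GLV F (ι → F)) : Module.End F (ι → F)) ∈ K := by
    intro h hh a
    refine ⟨hfwd h hh a, fun ha => ?_⟩
    have := hfwd h⁻¹ ((HV H).inv_mem hh) _ ha
    rw [inv_inv] at this
    have e : ((h⁻¹ : GLV F (ι → F)) : Module.End F (ι → F)) *
        ((h : Module.End F (ι → F)) * a * ((h⁻¹ : GLV F (ι → F)) : Module.End F (ι → F))) *
          (h : Module.End F (ι → F)) = a := by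
      calc _ = (((h⁻¹ : GLV F (ι → F)) : Module.End F (ι → F)) * (h : Module.End F (ι → F))) * a *
          (((h⁻¹ : GLV F (ι → F)) : Module.End F (ι → F)) * (h : Module.End F (ι → F))) := by
            simp only [mul_assoc]
        _ = a := by rw [val_inv_mul, one_mul, mul_one]
    rwa [e] at this
  obtain ⟨K', hK'mem, hK'fld, hHK'⟩ := fieldSubalgebra_of_isFld H 2 K hK hfr hnorm
  have hrep : ∀ k ∈ K', ∃ x y : F, ∀ v : ι → F,
      k *ᵥ v = (x • (1 : Module.End F (ι → F)) + y • J₁) v := by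
    intro k hk
    obtain ⟨x, y, hxy⟩ := (hK'mem k).mp hk
    exact ⟨x, y, fun v => by rw [← hxy, Matrix.toLin'_apply]⟩
  refine cls3b_or hI hK'fld ?_ ?_ ?_ hHK'
  · intro k hk
    obtain ⟨x, y, hxy⟩ := hrep k hk
    refine ⟨LinearMap.toMatrix' (x • (1 : Module.End F (ι → F)) + (-y) • J₁), ?_, fun u v => ?_⟩
    · rw [hK'mem, Matrix.toLin'_toMatrix']
      exact ⟨x, -y, rfl⟩
    · rw [hxy, ← Matrix.toLin'_apply, Matrix.toLin'_toMatrix']
      exact quad_adj Q b G _ hs hG x y u v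
  · intro hsa
    have hJK' : LinearMap.toMatrix' J₁ ∈ K' := by
      rw [hK'mem, Matrix.toLin'_toMatrix']
      exact ⟨0, 1, by rw [zero_smul, zero_add, one_smul]⟩
    have h1 : ∀ u v, polar Q (J₁ u) v = polar Q u (J₁ v) := by
      intro u v
      have := hsa _ hJK' u v
      rw [← Matrix.toLin'_apply, ← Matrix.toLin'_apply, Matrix.toLin'_toMatrix'] at this
      exact this
    have h3 : ∀ u v, polar Q (J₁ u) v = polar Q u ((-J₁) v) := by
      intro u v
      have := quad_adj Q b G _ hs hG 0 1 u v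
      simpa using this
    have h4 : ∀ v, J₁ v = 0 := by
      intro v
      apply bf_eq_zero_of_det hGdet
      intro u
      rw [← polar_eq_bf]
      have e1 := h1 u v
      have e2 := h3 u v
      rw [LinearMap.neg_apply, polar_neg_right] at e2
      have e3 : (2 : F) * polar Q u (J₁ v) = 0 := by linear_combination e2 - e1
      rcases mul_eq_zero.mp e3 with h5 | h5
      · exact absurd h5 h2
      · exact h5
    have h5 : J₁ = 0 := LinearMap.ext h4
    rw [h5, mul_zero] at hJ₁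
    have : (-G.det) • (1 : Module.End F (ι → F)) ≠ 0 := by
      intro h6
      rcases smul_eq_zero.mp h6 with h7 | h7
      · exact hd (neg_eq_zero.mp h7)
      · exact one_ne_zero h7
    exact this hJ₁.symm
  · intro k hk
    obtain ⟨x, y, hxy⟩ := hrep k hk
    refine ⟨x * x + G.det * y * y, fun v => ?_⟩
    rw [hxy]
    set A := x • (1 : Module.End F (ι → F)) + y • J₁ with hA
    set A' := x • (1 : Module.End F (ι → F)) + (-y) • J₁ with hA'
    have hAA : A' * A = (x * x + G.det * y * y) • (1 : Module.End F (ι → F)) := by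
      rw [hA, hA', quad_mul J₁ _ hJ₁]
      have e1 : x * y + -y * x = 0 := by ring
      have e2 : x * x + -G.det * -y * y = x * x + G.det * y * y := by ring
      rw [e1, e2, zero_smul, add_zero]
    have h1 : polar Q (A v) (A v) = (x * x + G.det * y * y) * polar Q v v := by
      rw [quad_adj Q b G _ hs hG x y v (A v), ← Module.End.mul_apply, hAA, LinearMap.smul_apply,
        Module.End.one_apply, polar_smul_right, smul_eq_mul]
    rw [polar_eq_bf, ← two_mul_Q, polar_eq_bf, ← two_mul_Q] at h1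
    have h3 : (2 : F) * (Q (A v) - (x * x + G.det * y * y) * Q v) = 0 := by
      linear_combination h1
    rcases mul_eq_zero.mp h3 with h5 | h5
    · exact absurd h5 h2
    · linear_combination h5

end Cfsg.Agent.Lib.Helper5.AschE
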