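import Mathlib
import Cfsg.Agent.Lib.Helper5.AschE.TwoMinus

set_option autoImplicit false

/-! A two-dimensional symmetric tensor factor of plus type gives a pair of complementary totally
singular subspaces (2b). -/

namespace Cfsg.Agent.Lib.Helper5.AschE

open Module Matrix QuadraticMap
open scoped Kronecker
open Cfsg Cfsg.Geo Cfsg.Agent.Lib.Helper8.Asch Cfsg.Agent.Lib.Helper5.AschO

variable {ι : Type} [Fintype ι] [DecidableEq ι] {F : Type*} [Field F]

theorem map_range_conj (h : GLV F (ι → F)) (E E' : Module.End F (ι → F))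
    (hE : (h : Module.End F (ι → F)) * E * ((h⁻¹ : GLV F (ι → F)) : Module.End F (ι → F)) = E') :
    (LinearMap.range E).map (h : Module.End F (ι → F)) = LinearMap.range E' := by
  apply le_antisymm
  · rintro w ⟨w', ⟨u, rfl⟩, rfl⟩
    refine ⟨(h : Module.End F (ι → F)) u, ?_⟩
    rw [← hE, Module.End.mul_apply, Module.End.mul_apply, inv_apply_apply]
  · rintro w ⟨u, rfl⟩
    refine ⟨E (((h⁻¹ : GLV F (ι → F)) : Module.End F (ι → F)) u), ⟨_, rfl⟩, ?_⟩
    rw [← hE, Module.End.mul_apply, Module.End.mul_apply]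

theorem finrank_le_of_isotropic (Q : QuadraticForm F (ι → F)) (hGdet : (gramQ Q).det ≠ 0)
    (W : Submodule F (ι → F)) (hW : ∀ u ∈ W, ∀ v ∈ W, polar Q u v = 0) :
    2 * finrank F W ≤ Fintype.card ι := by
  have hle : W ≤ perp (gramQ Q) W := by
    intro v hv
    rw [mem_perp]
    intro w hw
    rw [← polar_eq_bf]
    exact hW w hw v hv
  have h1 := Submodule.finrank_mono hle
  rw [finrank_perp hGdet] at h1
  have h3 : finrank F W ≤ Fintype.card ι := by
    have := Submodule.finrank_le W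
    rwa [Module.finrank_fintype_fun_eq_card] at this
  omega

theorem two_plus [Fintype F] [Nonempty ι] (Q : QuadraticForm F (ι → F))
    (hGdet : (gramQ Q).det ≠ 0) (h2 : (2 : F) ≠ 0) {H : Subgroup (GL ι F)}
    (hI : H ≤ isometryGroup F ⇑Q) {m : ℕ} [Nonempty (Fin m)] (hm : 0 < m)
    (b : Basis (Fin 2 × Fin m) F (ι → F)) (G₁ : GL (Fin 2) F) (G₂ : GL (Fin m) F)
    (hs₁ : (G₁ : Matrix (Fin 2) (Fin 2) F)ᵀ = (G₁ : Matrix (Fin 2) (Fin 2) F))
    (hG : LinearMap.BilinForm.toMatrix b (pB Q) =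
      (G₁ : Matrix (Fin 2) (Fin 2) F) ⊗ₖ (G₂ : Matrix (Fin m) (Fin m) F))
    (hbH : ∀ h ∈ HV H, ∃ (U : GL (Fin 2) F) (Γ : GL (Fin m) F),
      LinearMap.toMatrix b b (h : Module.End F (ι → F)) =
        (U : Matrix (Fin 2) (Fin 2) F) ⊗ₖ (Γ : Matrix (Fin m) (Fin m) F))
    (s : F) (hsq : -(G₁ : Matrix (Fin 2) (Fin 2) F).det = s * s) :
    ∃ M, (Cls2b (⇑Q) M ∨ Cls3b (⇑Q) M) ∧ H ≤ M := by
  set G : Matrix (Fin 2) (Fin 2) F := (G₁ : Matrix (Fin 2) (Fin 2) F) with hGm
  have hs : G 1 0 = G 0 1 := by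
    have := congrFun (congrFun hs₁ 0) 1
    rw [Matrix.transpose_apply] at this
    exact this
  have hd : G.det ≠ 0 := gl_det_ne_zero G₁
  have hs0 : s ≠ 0 := by
    rintro rfl
    rw [mul_zero, neg_eq_zero] at hsq
    exact hd hsq
  set J₁ : Module.End F (ι → F) := psi b (jm G) with hJ₁def
  have hJ₁ : J₁ * J₁ = (s * s) • (1 : Module.End F (ι → F)) := by
    rw [hJ₁def, ← psi_mul, jm_mul_self G hs, psi_smul, psi_one, hsq]
  obtain ⟨t, ht⟩ : ∃ t : F, t = 2⁻¹ * s⁻¹ := ⟨_, rfl⟩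
  obtain ⟨Ep, hEp⟩ : ∃ E : Module.End F (ι → F),
      E = (2⁻¹ : F) • (1 : Module.End F (ι → F)) + t • J₁ := ⟨_, rfl⟩
  obtain ⟨Em, hEm⟩ : ∃ E : Module.End F (ι → F),
      E = (2⁻¹ : F) • (1 : Module.End F (ι → F)) + (-t) • J₁ := ⟨_, rfl⟩
  have hsum : Ep + Em = 1 := by
    have h22 : (2⁻¹ : F) + 2⁻¹ = 1 := by field_simp; norm_num
    calc Ep + Em = ((2⁻¹ : F) + 2⁻¹) • (1 : Module.End F (ι → F)) + (t + -t) • J₁ := by
          rw [hEp, hEm, add_smul, add_smul]; abel
      _ = 1 := by rw [h22, one_smul, add_neg_cancel, zero_smul, add_zero]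
  have hpm : Ep * Em = 0 := by
    rw [hEp, hEm, quad_mul J₁ _ hJ₁]
    have e1 : (2⁻¹ : F) * 2⁻¹ + s * s * t * -t = 0 := by
      rw [ht]
      field_simp
      ring
    have e2 : (2⁻¹ : F) * -t + t * 2⁻¹ = 0 := by ring
    rw [e1, e2, zero_smul, zero_smul, add_zero]
  have hmp : Em * Ep = 0 := by
    rw [hEp, hEm, quad_mul J₁ _ hJ₁]
    have e1 : (2⁻¹ : F) * 2⁻¹ + s * s * -t * t = 0 := by
      rw [ht]
      field_simp
      ring
    have e2 : (2⁻¹ : F) * t + -t * 2⁻¹ = 0 := by ring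
    rw [e1, e2, zero_smul, zero_smul, add_zero]
  have hpp : Ep * Ep = Ep := by
    calc Ep * Ep = Ep * (Ep + Em) := by rw [mul_add, hpm, add_zero]
      _ = Ep := by rw [hsum, mul_one]
  have hmm : Em * Em = Em := by
    calc Em * Em = Em * (Ep + Em) := by rw [mul_add, hmp, zero_add]
      _ = Em := by rw [hsum, mul_one]
  have hadjp : ∀ u v, polar Q (Ep u) v = polar Q u (Em v) := by
    intro u v
    rw [hEp, hEm]
    exact quad_adj Q b G _ hs hG 2⁻¹ t u v
  have hadjm : ∀ u v, polar Q (Em u) v = polar Q u (Ep v) := by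
    intro u v
    have := quad_adj Q b G _ hs hG 2⁻¹ (-t) u v
    rw [neg_neg] at this
    rw [hEp, hEm]
    exact this
  set Dp : Submodule F (ι → F) := LinearMap.range Ep with hDp
  set Dm : Submodule F (ι → F) := LinearMap.range Em with hDm
  have hip : ∀ u ∈ Dp, ∀ v ∈ Dp, polar Q u v = 0 := by
    rintro _ ⟨u, rfl⟩ _ ⟨v, rfl⟩
    rw [hadjp, ← Module.End.mul_apply, hmp, LinearMap.zero_apply, polar_zero_right]
  have him : ∀ u ∈ Dm, ∀ v ∈ Dm, polar Q u v = 0 := by
    rintro _ ⟨u, rfl⟩ _ ⟨v, rfl⟩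
    rw [hadjm, ← Module.End.mul_apply, hpm, LinearMap.zero_apply, polar_zero_right]
  have hc : IsCompl Dp Dm := by
    constructor
    · rw [Submodule.disjoint_def]
      rintro w ⟨u, rfl⟩ ⟨u', hu'⟩
      have h1 : Ep (Ep u) = Ep u := by rw [← Module.End.mul_apply, hpp]
      have h3 : Ep (Ep u) = 0 := by
        rw [← hu', ← Module.End.mul_apply, hpm, LinearMap.zero_apply]
      rw [← h1, h3]
    · rw [codisjoint_iff, eq_top_iff]
      intro v _
      have : v = Ep v + Em v := by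
        rw [← LinearMap.add_apply, hsum, Module.End.one_apply]
      rw [this]
      exact Submodule.add_mem_sup ⟨v, rfl⟩ ⟨v, rfl⟩
  have hcard : Fintype.card ι = 2 * m := by
    have h1 := Module.finrank_eq_card_basis b
    rw [Module.finrank_fintype_fun_eq_card, Fintype.card_prod, Fintype.card_fin,
      Fintype.card_fin] at h1
    exact h1
  have hfr := Submodule.finrank_add_eq_of_isCompl hc
  rw [Module.finrank_fintype_fun_eq_card, hcard] at hfr
  have hlep := finrank_le_of_isotropic Q hGdet Dp hip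
  have hlem := finrank_le_of_isotropic Q hGdet Dm him
  rw [hcard] at hlep hlem
  have hfp : finrank F Dp = m := by omega
  have hfm : finrank F Dm = m := by omega
  have hMD : IsMDecomposition m ![Dp, Dm] := isMDecomposition_pair hm Dp Dm hc hfp hfm
  have hQ0 : ∀ W : Submodule F (ι → F), (∀ u ∈ W, ∀ v ∈ W, polar Q u v = 0) →
      IsTotallySingularQuad (⇑Q) W := by
    intro W hW w hw
    have h1 := hW w hw w hw
    rw [polar_eq_bf, ← two_mul_Q] at h1
    rcases mul_eq_zero.mp h1 with h5 | h5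
    · exact absurd h5 h2
    · exact h5
  have hts : ∀ i, IsTotallySingularQuad (⇑Q) (![Dp, Dm] i) := by
    intro i
    fin_cases i
    · exact hQ0 Dp hip
    · exact hQ0 Dm him
  refine cls2b_or hI hMD hts ?_
  intro g hg
  obtain ⟨ε, hε, hconj⟩ := conj_psi_quad Q hI b G₁ G₂ hs₁ hG hbH (toV g) (mem_HV hg)
  have hcp := hconj 2⁻¹ t
  have hcm := hconj 2⁻¹ (-t)
  rw [psi_quad, psi_quad] at hcp hcm
  rcases hε with rfl | rfl
  · rw [one_mul, ← hEp] at hcp
    rw [one_mul, ← hEm] at hcm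
    refine ⟨1, fun i => ?_⟩
    fin_cases i
    · have := map_range_conj (toV g) Ep Ep hcp
      rw [toV_val] at this
      exact this
    · have := map_range_conj (toV g) Em Em hcm
      rw [toV_val] at this
      exact this
  · rw [neg_one_mul, ← hEp, ← hEm] at hcp
    rw [neg_one_mul, neg_neg, ← hEp, ← hEm] at hcm
    refine ⟨Equiv.swap 0 1, fun i => ?_⟩
    fin_cases i
    · have := map_range_conj (toV g) Ep Em hcp
      rw [toV_val] at this
      exact this
    · have := map_range_conj (toV g) Em Ep hcm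
      rw [toV_val] at this
      exact this

end Cfsg.Agent.Lib.Helper5.AschE
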