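import Mathlib
import Cfsg.Agent.Lib.Helper5.AschE.TwoPlus
import Cfsg.Agent.Lib.Helper5.AschE.PBasis

set_option autoImplicit false

/-! A tensor-product subgroup `O_2 ⊗ O_m` (odd characteristic) lies in a member of class 2b (pair of
complementary totally singular subspaces) or 3b (unitary field extension of degree 2). -/

namespace Cfsg.Agent.Lib.Helper5.AschE

open Module Matrix QuadraticMap
open scoped Kronecker
open Cfsg Cfsg.Geo Cfsg.Agent.Lib.Helper8.Asch Cfsg.Agent.Lib.Helper5.AschO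

variable {ι : Type} [Fintype ι] [DecidableEq ι] {F : Type*} [Field F]
variable {κ : Type} [Fintype κ] [DecidableEq κ]

theorem formOfGram_single (G : Matrix κ κ F) (a b : κ) :
    formOfGram id G (Pi.single a (1 : F)) (Pi.single b (1 : F)) = G a b := by
  unfold formOfGram
  simp [Pi.single_apply]

theorem gram_pBasis (Q : QuadraticForm F (ι → F)) {n₁ n₂ : ℕ} (e : ι ≃ Fin n₁ × Fin n₂)
    (P : GL ι F) (f₁ : (Fin n₁ → F) → (Fin n₁ → F) → F) (f₂ : (Fin n₂ → F) → (Fin n₂ → F) → F)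
    (hT : IsTensorFormStructure id (polar ⇑Q) f₁ f₂ e P) :
    ∃ c : F, c ≠ 0 ∧ LinearMap.BilinForm.toMatrix (pBasis e P) (pB Q) =
      (c • gramMatrix f₁) ⊗ₖ gramMatrix f₂ := by
  obtain ⟨c, hc, hT⟩ := hT
  refine ⟨c, hc, ?_⟩
  ext p p'
  rw [LinearMap.BilinForm.toMatrix_apply, pBasis_apply, pBasis_apply, pB_apply, hT,
    formOfGram_single, Matrix.kroneckerMap_apply, Matrix.kroneckerMap_apply, Matrix.smul_apply,
    smul_eq_mul, mul_assoc]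

theorem divert_two [Fintype F] (Q : QuadraticForm F (ι → F)) (hGdet : (gramQ Q).det ≠ 0)
    (h2 : (2 : F) ≠ 0) {n₂ : ℕ} (hn₂ : 0 < n₂) (e : ι ≃ Fin 2 × Fin n₂) (P : GL ι F)
    (f₁ : (Fin 2 → F) → (Fin 2 → F) → F) (f₂ : (Fin n₂ → F) → (Fin n₂ → F) → F)
    (hf₁ : IsSymmetricForm f₁) (hf₂ : IsSymmetricForm f₂)
    (hT : IsTensorFormStructure id (polar ⇑Q) f₁ f₂ e P) :
    ∃ M, (Cls2b (⇑Q) M ∨ Cls3b (⇑Q) M) ∧
      tensorProductSubgroup 2 n₂ e P ⊓ isometryGroup F ⇑Q ≤ M := by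
  haveI : Nonempty (Fin n₂) := ⟨⟨0, hn₂⟩⟩
  haveI : Nonempty ι := ⟨e.symm (0, ⟨0, hn₂⟩)⟩
  obtain ⟨c, hc, hG⟩ := gram_pBasis Q e P f₁ f₂ hT
  have hd₁ : (c • gramMatrix f₁).det ≠ 0 := by
    rw [Matrix.det_smul]
    exact mul_ne_zero (pow_ne_zero _ hc)
      (Cfsg.Agent.Lib.Helper8.Asch.gram_det_ne_zero hf₁.bilinear hf₁.nondegenerate)
  have hd₂ : (gramMatrix f₂).det ≠ 0 :=
    Cfsg.Agent.Lib.Helper8.Asch.gram_det_ne_zero hf₂.bilinear hf₂.nondegenerate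
  let G₁ : GL (Fin 2) F := Matrix.GeneralLinearGroup.mkOfDetNeZero _ hd₁
  let G₂ : GL (Fin n₂) F := Matrix.GeneralLinearGroup.mkOfDetNeZero _ hd₂
  have hG₁ : (G₁ : Matrix (Fin 2) (Fin 2) F) = c • gramMatrix f₁ := rfl
  have hG₂ : (G₂ : Matrix (Fin n₂) (Fin n₂) F) = gramMatrix f₂ := rfl
  have hs₁ : (G₁ : Matrix (Fin 2) (Fin 2) F)ᵀ = (G₁ : Matrix (Fin 2) (Fin 2) F) := by
    rw [hG₁, Matrix.transpose_smul]
    congr 1
    ext i j
    rw [Matrix.transpose_apply]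
    exact hf₁.symm _ _
  have hI : tensorProductSubgroup 2 n₂ e P ⊓ isometryGroup F ⇑Q ≤ isometryGroup F ⇑Q :=
    inf_le_right
  have hG' : LinearMap.BilinForm.toMatrix (pBasis e P) (pB Q) =
      (G₁ : Matrix (Fin 2) (Fin 2) F) ⊗ₖ (G₂ : Matrix (Fin n₂) (Fin n₂) F) := by
    rw [hG, hG₁, hG₂]
  have hbH : ∀ h ∈ HV (tensorProductSubgroup 2 n₂ e P ⊓ isometryGroup F ⇑Q),
      ∃ (U : GL (Fin 2) F) (Γ : GL (Fin n₂) F),
        LinearMap.toMatrix (pBasis e P) (pBasis e P) (h : Module.End F (ι → F)) =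
          (U : Matrix (Fin 2) (Fin 2) F) ⊗ₖ (Γ : Matrix (Fin n₂) (Fin n₂) F) := by
    intro h hh
    obtain ⟨g, hg, rfl⟩ := exists_of_mem_HV hh
    obtain ⟨s, ⟨U, Γ, hs⟩, hsM⟩ := toMatrix_pBasis_of_mem (kroneckerSubgroup 2 n₂ F) e P g hg.1
    refine ⟨U, Γ, ?_⟩
    rw [toV_val, hsM, hs]
  by_cases hsq : IsSquare (-(G₁ : Matrix (Fin 2) (Fin 2) F).det)
  · obtain ⟨s, hs⟩ := hsq
    exact two_plus Q hGdet h2 hI hn₂ (pBasis e P) G₁ G₂ hs₁ hG' hbH s hs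
  · exact two_minus Q hGdet h2 hI (pBasis e P) G₁ G₂ hs₁ hG' hbH hsq

end Cfsg.Agent.Lib.Helper5.AschE
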