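import Mathlib
import Cfsg.Agent.Lib.Helper5.AschE.TwoDivert
import Cfsg.Agent.Lib.Helper5.AschE.GenMain

set_option autoImplicit false

/-! The refined list of classes: the symmetric tensor class only with both factors of dimension
at least `3` (the members `O_2 ⊗ O_m` lie in members of the classes 2b or 3b). -/

namespace Cfsg.Agent.Lib.Helper5.AschE

open Module Matrix QuadraticMap
open scoped Kronecker
open Cfsg Cfsg.Geo Cfsg.Agent.Lib.Helper8.Asch Cfsg.Agent.Lib.Helper5.AschO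

variable {ι : Type} [Fintype ι] [DecidableEq ι] {F : Type*} [Field F]

/-- 4a': odd characteristic, tensor product of two symmetric forms, both factors of dimension at
least `3` -/
def Cls4a' (Q : (ι → F) → F) (M : Subgroup (GL ι F)) : Prop :=
  ∃ (n₁ n₂ : ℕ) (e : ι ≃ Fin n₁ × Fin n₂) (P : GL ι F)
    (f₁ : (Fin n₁ → F) → (Fin n₁ → F) → F) (f₂ : (Fin n₂ → F) → (Fin n₂ → F) → F),
    3 ≤ n₁ ∧ n₁ < n₂ ∧ (2 : F) ≠ 0 ∧ IsSymmetricForm f₁ ∧ IsSymmetricForm f₂ ∧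
    IsTensorFormStructure id (polar Q) f₁ f₂ e P ∧
    M = tensorProductSubgroup n₁ n₂ e P ⊓ isometryGroup F Q

/-- the refined list of geometric classes for an even-dimensional quadratic form -/
def InOEClass' [Fintype F] (Q : (ι → F) → F) (M : Subgroup (GL ι F)) : Prop :=
  Cls1a Q M ∨ Cls1b Q M ∨ Cls1c Q M ∨ Cls2a Q M ∨ Cls2f Q M ∨ Cls2b Q M ∨ Cls3a Q M ∨
    Cls3b Q M ∨ Cls4a' Q M ∨ Cls4b Q M ∨ Cls5 Q M

theorem inOEClass'_of [Fintype F] (Q : QuadraticForm F (ι → F)) (hGdet : (gramQ Q).det ≠ 0)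
    {M : Subgroup (GL ι F)} (hM : InOEClass (⇑Q) M) :
    ∃ M', InOEClass' (⇑Q) M' ∧ M ≤ M' := by
  rcases hM with h | h | h | h | h | h | h | h | h | h | h
  · exact ⟨M, Or.inl h, le_rfl⟩
  · exact ⟨M, Or.inr (Or.inl h), le_rfl⟩
  · exact ⟨M, Or.inr (Or.inr (Or.inl h)), le_rfl⟩
  · exact ⟨M, Or.inr (Or.inr (Or.inr (Or.inl h))), le_rfl⟩
  · exact ⟨M, Or.inr (Or.inr (Or.inr (Or.inr (Or.inl h)))), le_rfl⟩
  · exact ⟨M, Or.inr (Or.inr (Or.inr (Or.inr (Or.inr (Or.inl h))))), le_rfl⟩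
  · exact ⟨M, Or.inr (Or.inr (Or.inr (Or.inr (Or.inr (Or.inr (Or.inl h)))))), le_rfl⟩
  · exact ⟨M, Or.inr (Or.inr (Or.inr (Or.inr (Or.inr (Or.inr (Or.inr (Or.inl h))))))), le_rfl⟩
  · obtain ⟨n₁, n₂, e, P, f₁, f₂, h1, h12, h2, hf₁, hf₂, hT, rfl⟩ := h
    by_cases hn : n₁ = 2
    · subst hn
      obtain ⟨M', hM', hle⟩ := divert_two Q hGdet h2 (by omega) e P f₁ f₂ hf₁ hf₂ hT
      rcases hM' with hM' | hM'
      · exact ⟨M', Or.inr (Or.inr (Or.inr (Or.inr (Or.inr (Or.inl hM'))))), hle⟩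
      · exact ⟨M', Or.inr (Or.inr (Or.inr (Or.inr (Or.inr (Or.inr (Or.inr (Or.inl hM'))))))),
          hle⟩
    · exact ⟨_, Or.inr (Or.inr (Or.inr (Or.inr (Or.inr (Or.inr (Or.inr (Or.inr (Or.inl
        ⟨n₁, n₂, e, P, f₁, f₂, by omega, h12, h2, hf₁, hf₂, hT, rfl⟩)))))))), le_rfl⟩
  · exact ⟨M, Or.inr (Or.inr (Or.inr (Or.inr (Or.inr (Or.inr (Or.inr (Or.inr (Or.inr
      (Or.inl h))))))))), le_rfl⟩
  · exact ⟨M, Or.inr (Or.inr (Or.inr (Or.inr (Or.inr (Or.inr (Or.inr (Or.inr (Or.inr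
      (Or.inr h))))))))), le_rfl⟩

theorem exists_inOEClass' [Fintype F] (Q : QuadraticForm F (ι → F)) (hGdet : (gramQ Q).det ≠ 0)
    {H : Subgroup (GL ι F)} (h : ∃ M, InOEClass (⇑Q) M ∧ H ≤ M) :
    ∃ M, InOEClass' (⇑Q) M ∧ H ≤ M := by
  obtain ⟨M, hM, hle⟩ := h
  obtain ⟨M', hM', hle'⟩ := inOEClass'_of Q hGdet hM
  exact ⟨M', hM', hle.trans hle'⟩

/-- the even-dimensional orthogonal Aschbacher theorem with the refined list of classes -/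
theorem even_main' [Fintype F] [Nonempty ι] (Q : QuadraticForm F (ι → F))
    (hGdet : (gramQ Q).det ≠ 0)
    (hn1 : ∀ r m : ℕ, r.Prime → Fintype.card ι ≠ r ^ m)
    (hn2 : ∀ k t : ℕ, 2 ≤ t → Fintype.card ι ≠ k ^ t)
    (H : Subgroup (GL ι F)) (hHΩ : H ≤ omegaGL ⇑Q) :
    (∃ M, InOEClass' (⇑Q) M ∧ H ≤ M) ∨ InOrthogonalResidualClass H := by
  rcases even_main Q hGdet hn1 hn2 H hHΩ with h | h
  · exact Or.inl (exists_inOEClass' Q hGdet h)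
  · exact Or.inr h

theorem even_main_gen' [Fintype F] [Nonempty ι] (Q : QuadraticForm F (ι → F))
    (hGdet : (gramQ Q).det ≠ 0) (hn : 2 ≤ Fintype.card ι)
    (hsq : ∀ k : ℕ, Fintype.card ι ≠ k ^ 2)
    (H : Subgroup (GL ι F)) (hI : H ≤ isometryGroup F ⇑Q)
    (hdet : ∀ h ∈ H, (h : Matrix ι ι F).det = 1) :
    (∃ M, InOEClass' (⇑Q) M ∧ H ≤ M) ∨ InOrthogonalResidualClass H ∨
      ∃ N : Subgroup (GL ι F), IsMinNC H (Zs ι F) N ∧ Submodule.span F (mset N) = ⊤ ∧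
        Irr (HV H) ∧ (ACase H N ∨ WreathCase H N) := by
  rcases even_main_gen Q hGdet hn hsq H hI hdet with h | h
  · exact Or.inl (exists_inOEClass' Q hGdet h)
  · exact Or.inr h

end Cfsg.Agent.Lib.Helper5.AschE
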