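import Mathlib
import Cfsg.Agent.Lib.Helper5.AschE.TensorCase
import Cfsg.Agent.Lib.Helper5.TensorFormSub

set_option autoImplicit false

/-! Regrouping `O_n ⊗ (Sp_2 ⊗ Sp_2) = Sp_2 ⊗ (O_n ⊗ Sp_2)`: a subgroup of the stabiliser of a
tensor decomposition `n₁ ⊗ 4` whose second factors respect a further decomposition `2 ⊗ 2` of
the (plus type) four-dimensional factor lies in a member of class 4b. -/

namespace Cfsg.Agent.Lib.Helper5.AschE

open Module Matrix QuadraticMap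
open scoped Kronecker
open Cfsg Cfsg.Geo Cfsg.Agent.Lib.Helper8.Asch Cfsg.Agent.Lib.Helper5.AschO

variable {ι : Type} [Fintype ι] [DecidableEq ι] {F : Type*} [Field F]

/-- `cls4b_of_gram` with the class named -/
theorem cls4b_of_gram' [Fintype F] (Q : QuadraticForm F (ι → F)) {H : Subgroup (GL ι F)}
    (hI : H ≤ isometryGroup F ⇑Q) {n₁ n₂ : ℕ} (h1 : 2 ≤ n₁) (h12 : n₁ < n₂)
    (b : Basis (Fin n₁ × Fin n₂) F (ι → F)) (G₁ : GL (Fin n₁) F) (G₂ : GL (Fin n₂) F)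
    (hf₁ : IsSymplecticForm (gf (RingHom.id F) (G₁ : Matrix (Fin n₁) (Fin n₁) F)))
    (hf₂ : IsSymplecticForm (gf (RingHom.id F) (G₂ : Matrix (Fin n₂) (Fin n₂) F)))
    (hG : LinearMap.BilinForm.toMatrix b (pB Q) =
      (G₁ : Matrix (Fin n₁) (Fin n₁) F) ⊗ₖ (G₂ : Matrix (Fin n₂) (Fin n₂) F))
    (hQ : ∀ (x : Fin n₁ → F) (y : Fin n₂ → F), Q (pt b x y) = 0)
    (hH' : ∀ h ∈ H, ∃ (U : GL (Fin n₁) F) (Γ : GL (Fin n₂) F),
      LinearMap.toMatrix b b (Matrix.toLin' (h : Matrix ι ι F)) =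
        (U : Matrix (Fin n₁) (Fin n₁) F) ⊗ₖ (Γ : Matrix (Fin n₂) (Fin n₂) F)) :
    ∃ M, Cls4b (⇑Q) M ∧ H ≤ M := by
  let eι : ι ≃ Fin n₁ × Fin n₂ := Fintype.equivOfCardEq (card_of_prod_basis b)
  have hT := tensorFormStructure_of_gram (isBilinearForm_polar Q) b eι
    (G₁ : Matrix (Fin n₁) (Fin n₁) F) (G₂ : Matrix (Fin n₂) (Fin n₂) F)
    (by rw [toBilin_polar]; exact hG)
  refine ⟨_, ⟨n₁, n₂, eι, Cfsg.Agent.Lib.Helper8.Asch.basisGL b eι, _, _, h1, h12, hf₁, hf₂, hT,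
    ?_, rfl⟩, le_inf ?_ hI⟩
  · intro x₁ x₂
    rw [basisGL_mulVec_pt]
    exact hQ x₁ x₂
  · intro h hh
    obtain ⟨U, Γ, hUΓ⟩ := hH' h hh
    exact Cfsg.Agent.Lib.Helper8.Asch.mem_conj_basisGL (kroneckerSubgroup n₁ n₂ F) b eι h
      ⟨kronGL U Γ, ⟨U, Γ, rfl⟩, hUΓ⟩

/-- a family with invertible Gram matrix is linearly independent -/
theorem linearIndependent_of_gram_det {κ : Type} [Fintype κ] [DecidableEq κ] {V : Type*}
    [AddCommGroup V] [Module F V] (B : LinearMap.BilinForm F V) (v : κ → V)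
    (hdet : (Matrix.of fun p q => B (v p) (v q)).det ≠ 0) : LinearIndependent F v := by
  rw [Fintype.linearIndependent_iff]
  intro c hc
  have h1 : Matrix.vecMul c (Matrix.of fun p q => B (v p) (v q)) = 0 := by
    ext q
    have := congrArg (fun u => B u (v q)) hc
    simp only [map_sum, map_smul, LinearMap.sum_apply, LinearMap.smul_apply, smul_eq_mul,
      map_zero, LinearMap.zero_apply] at this
    simpa only [Matrix.vecMul, dotProduct, Matrix.of_apply, Pi.zero_apply] using this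
  have := Matrix.eq_zero_of_vecMul_eq_zero hdet h1
  intro i
  exact congrFun this i

/-- the factors of an invertible Kronecker product are invertible -/
theorem det_ne_zero_of_kron {I J : Type} [Fintype I] [DecidableEq I] [Fintype J] [DecidableEq J]
    [Nonempty I] [Nonempty J]
    (A : Matrix I I F) (B : Matrix J J F) (h : (A ⊗ₖ B).det ≠ 0) : A.det ≠ 0 ∧ B.det ≠ 0 := by
  rw [Matrix.det_kronecker] at h
  constructor
  · intro h0
    apply h
    rw [h0, zero_pow Fintype.card_ne_zero, zero_mul]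
  · intro h0
    apply h
    rw [h0, zero_pow Fintype.card_ne_zero, mul_zero]

section regroup

open Cfsg.Agent.Lib.Helper5.TensorSub

variable {n₁ : ℕ}

/-- the bilinear map `(x, y) ↦ emb (x ⊗ y)` -/
noncomputable def ptL (e : ι ≃ Fin n₁ × Fin 4) (P : GL ι F) :
    (Fin n₁ → F) →ₗ[F] (Fin 4 → F) →ₗ[F] (ι → F) :=
  LinearMap.mk₂ F (fun x y => TensorFormSub.emb e P (TensorFormSub.pt x y))
    (fun x x' y => by rw [TensorFormSub.pt_add_left, TensorFormSub.emb_add])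
    (fun c x y => by rw [TensorFormSub.pt_smul_left, TensorFormSub.emb_smul])
    (fun x y y' => by rw [TensorFormSub.pt_add_right, TensorFormSub.emb_add])
    (fun c x y => by rw [TensorFormSub.pt_smul_right, TensorFormSub.emb_smul])

theorem ptL_apply (e : ι ≃ Fin n₁ × Fin 4) (P : GL ι F) (x : Fin n₁ → F) (y : Fin 4 → F) :
    ptL e P x y = TensorFormSub.emb e P (TensorFormSub.pt x y) := rfl

/-- the standard alternating `2 × 2` matrix -/
def J2 (F : Type*) [Field F] : Matrix (Fin 2) (Fin 2) F := !![0, 1; -1, 0]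

theorem J2_det : (J2 F).det = 1 := by
  unfold J2
  rw [Matrix.det_fin_two_of]
  ring

theorem J2_transpose : (J2 F)ᵀ = -J2 F := by
  unfold J2
  ext i j
  fin_cases i <;> fin_cases j <;> simp

theorem J2_swap (i j : Fin 2) : J2 F j i = -J2 F i j := by
  have := congrFun (congrFun (J2_transpose (F := F)) i) j
  rwa [Matrix.transpose_apply, Matrix.neg_apply] at this

/-- the regrouped family of vectors -/
noncomputable def rgV (e : ι ≃ Fin n₁ × Fin 4) (P : GL ι F) (w : Fin 2 × Fin 2 → (Fin 4 → F))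
    (p : Fin 2 × Fin (n₁ * 2)) : ι → F :=
  ptL e P (Pi.single (finProdFinEquiv.symm p.2).1 1) (w (p.1, (finProdFinEquiv.symm p.2).2))

/-- the second Gram matrix of the regrouped family -/
def rgG (c : F) (G₁ : Matrix (Fin n₁) (Fin n₁) F) : Matrix (Fin (n₁ * 2)) (Fin (n₁ * 2)) F :=
  fun k k' => c * G₁ (finProdFinEquiv.symm k).1 (finProdFinEquiv.symm k').1 *
    J2 F (finProdFinEquiv.symm k).2 (finProdFinEquiv.symm k').2

theorem rgG_eq (c : F) (G₁ : Matrix (Fin n₁) (Fin n₁) F) :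
    rgG c G₁ = ((c • G₁) ⊗ₖ J2 F).submatrix finProdFinEquiv.symm finProdFinEquiv.symm := by
  ext k k'
  simp only [rgG, Matrix.submatrix_apply, Matrix.kroneckerMap_apply, Matrix.smul_apply,
    smul_eq_mul]

theorem rgG_det (c : F) (hc : c ≠ 0) (G₁ : Matrix (Fin n₁) (Fin n₁) F) (hG : G₁.det ≠ 0) :
    (rgG c G₁).det ≠ 0 := by
  rw [rgG_eq, Matrix.det_submatrix_equiv_self, Matrix.det_kronecker, J2_det, one_pow, mul_one,
    Matrix.det_smul]
  exact pow_ne_zero _ (mul_ne_zero (pow_ne_zero _ hc) hG)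

theorem rgG_transpose (c : F) (G₁ : Matrix (Fin n₁) (Fin n₁) F) (hG : G₁ᵀ = G₁) :
    (rgG c G₁)ᵀ = -rgG c G₁ := by
  ext k k'
  rw [Matrix.transpose_apply, Matrix.neg_apply]
  unfold rgG
  rw [J2_swap]
  have := congrFun (congrFun hG (finProdFinEquiv.symm k).1) (finProdFinEquiv.symm k').1
  rw [Matrix.transpose_apply] at this
  rw [this]
  ring

theorem polar_rgV (Q : QuadraticForm F (ι → F)) (e : ι ≃ Fin n₁ × Fin 4) (P : GL ι F)
    {f₁ : (Fin n₁ → F) → (Fin n₁ → F) → F} {f₂ : (Fin 4 → F) → (Fin 4 → F) → F}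
    (hf₁ : IsBilinearForm f₁) (hf₂ : IsBilinearForm f₂) {c : F}
    (hc : ∀ x y : Fin n₁ × Fin 4 → F,
      polar ⇑Q ((P : Matrix ι ι F) *ᵥ (x ∘ e)) ((P : Matrix ι ι F) *ᵥ (y ∘ e)) =
        c * formOfGram id (gramMatrix f₁ ⊗ₖ gramMatrix f₂) x y)
    (w : Fin 2 × Fin 2 → (Fin 4 → F))
    (hw : ∀ p p', f₂ (w p) (w p') = J2 F p.1 p'.1 * J2 F p.2 p'.2)
    (p p' : Fin 2 × Fin (n₁ * 2)) :
    polar ⇑Q (rgV e P w p) (rgV e P w p') = J2 F p.1 p'.1 * rgG c (gramMatrix f₁) p.2 p'.2 := by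
  unfold rgV
  rw [ptL_apply, ptL_apply, TensorFormSub.form_pt e P hf₁ hf₂ hc, hw]
  unfold rgG gramMatrix
  ring

theorem formOfGram_J2_self (x : Fin 2 → F) : formOfGram id (J2 F) x x = 0 := by
  unfold formOfGram J2
  simp only [Fin.sum_univ_two, id]
  simp
  ring

/-- the action on the regrouped family -/
theorem act_rgV (e : ι ≃ Fin n₁ × Fin 4) (P : GL ι F) (w : Fin 2 × Fin 2 → (Fin 4 → F))
    (a : GL (Fin n₁) F) (b : GL (Fin 4) F) (U β : Matrix (Fin 2) (Fin 2) F)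
    (hact : ∀ i j, (b : Matrix (Fin 4) (Fin 4) F) *ᵥ w (i, j) =
      ∑ i', ∑ j', (U i' i * β j' j) • w (i', j'))
    (p : Fin 2 × Fin (n₁ * 2)) :
    ((Phi e P (kron a b) : GL ι F) : Matrix ι ι F) *ᵥ rgV e P w p =
      ∑ p' : Fin 2 × Fin (n₁ * 2), (U p'.1 p.1 *
        ((a : Matrix (Fin n₁) (Fin n₁) F) (finProdFinEquiv.symm p'.2).1
            (finProdFinEquiv.symm p.2).1 *
          β (finProdFinEquiv.symm p'.2).2 (finProdFinEquiv.symm p.2).2)) • rgV e P w p' := by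
  obtain ⟨i, k⟩ := p
  set α := (finProdFinEquiv.symm k).1 with hα
  set j := (finProdFinEquiv.symm k).2 with hj
  have h1 : (a : Matrix (Fin n₁) (Fin n₁) F) *ᵥ Pi.single α 1 =
      ∑ α', (a : Matrix (Fin n₁) (Fin n₁) F) α' α • Pi.single (M := fun _ => F) α' (1 : F) := by
    conv_lhs => rw [pi_eq_sum_univ' ((a : Matrix (Fin n₁) (Fin n₁) F) *ᵥ Pi.single α 1)]
    refine Finset.sum_congr rfl fun α' _ => ?_
    rw [Matrix.mulVec_single_one]
    rfl
  have h2 : ((Phi e P (kron a b) : GL ι F) : Matrix ι ι F) *ᵥ rgV e P w (i, k) =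
      ptL e P ((a : Matrix (Fin n₁) (Fin n₁) F) *ᵥ Pi.single α 1)
        ((b : Matrix (Fin 4) (Fin 4) F) *ᵥ w (i, j)) := by
    unfold rgV
    rw [ptL_apply, ptL_apply, TensorFormSub.Phi_kron_emb_pt]
  rw [h2, h1, hact, Fintype.sum_prod_type]
  simp only [map_sum, map_smul, LinearMap.sum_apply, LinearMap.smul_apply, Finset.smul_sum,
    smul_smul]
  refine Finset.sum_congr rfl fun i' _ => ?_
  rw [Finset.sum_comm]
  conv_rhs => rw [← Equiv.sum_comp (finProdFinEquiv (m := n₁) (n := 2)), Fintype.sum_prod_type]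
  refine Finset.sum_congr rfl fun α' _ => ?_
  refine Finset.sum_congr rfl fun j' _ => ?_
  unfold rgV
  simp only [Equiv.symm_apply_apply]
  congr 1
  ring

/-- the general regrouping theorem: `O_{n₁} ⊗ (Sp_2 ⊗ Sp_2) ≤ Sp_2 ⊗ Sp_{2 n₁}` -/
theorem cls4b_of_tensor_basis_gen [Fintype F] (Q : QuadraticForm F (ι → F)) (hn : 2 ≤ n₁)
    (e : ι ≃ Fin n₁ × Fin 4) (P : GL ι F)
    (f₁ : (Fin n₁ → F) → (Fin n₁ → F) → F) (f₂ : (Fin 4 → F) → (Fin 4 → F) → F)
    (h2 : (2 : F) ≠ 0) (hf₁ : IsSymmetricForm f₁) (hf₂ : IsSymmetricForm f₂)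
    (hT : IsTensorFormStructure id (polar ⇑Q) f₁ f₂ e P)
    (w : Fin 2 × Fin 2 → (Fin 4 → F))
    (hw : ∀ p p', f₂ (w p) (w p') = J2 F p.1 p'.1 * J2 F p.2 p'.2)
    (H : Subgroup (GL ι F)) (hI : H ≤ isometryGroup F ⇑Q)
    (hfac : ∀ g ∈ H, ∃ (a : GL (Fin n₁) F) (b : GL (Fin 4) F) (U β : Matrix (Fin 2) (Fin 2) F),
        g = Phi e P (kron a b) ∧
        ∀ i j, (b : Matrix (Fin 4) (Fin 4) F) *ᵥ w (i, j) =
          ∑ i', ∑ j', (U i' i * β j' j) • w (i', j')) :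
    ∃ M, Cls4b ⇑Q M ∧ H ≤ M := by
  obtain ⟨c, hc0, hc⟩ := hT
  have hG₁det := gram_det_ne_zero hf₁.bilinear hf₁.nondegenerate
  have hG₁symm : (gramMatrix f₁)ᵀ = gramMatrix f₁ := by
    ext a b
    exact hf₁.symm _ _
  have hgram : ∀ p p', pB Q (rgV e P w p) (rgV e P w p') =
      (J2 F ⊗ₖ rgG c (gramMatrix f₁)) p p' := by
    intro p p'
    rw [pB_apply, polar_rgV Q e P hf₁.bilinear hf₂.bilinear hc w hw]
    rfl
  have hli : LinearIndependent F (rgV e P w) := by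
    apply linearIndependent_of_gram_det (pB Q)
    have : (Matrix.of fun p q => pB Q (rgV e P w p) (rgV e P w q)) =
        J2 F ⊗ₖ rgG c (gramMatrix f₁) := by
      ext p q
      exact hgram p q
    rw [this, Matrix.det_kronecker, J2_det, one_pow, one_mul]
    exact pow_ne_zero _ (rgG_det c hc0 _ hG₁det)
  have hcard : Fintype.card (Fin 2 × Fin (n₁ * 2)) = finrank F (ι → F) := by
    rw [Module.finrank_fintype_fun_eq_card, Fintype.card_congr e, Fintype.card_prod,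
      Fintype.card_prod, Fintype.card_fin, Fintype.card_fin, Fintype.card_fin, Fintype.card_fin]
    ring
  haveI hne6 : Nonempty (Fin (n₁ * 2)) := ⟨⟨0, by omega⟩⟩
  let b₀ : Basis (Fin 2 × Fin (n₁ * 2)) F (ι → F) :=
    basisOfLinearIndependentOfCardEqFinrank hli hcard
  have hb₀ : ∀ p, b₀ p = rgV e P w p := fun p => by
    show (basisOfLinearIndependentOfCardEqFinrank hli hcard) p = _
    rw [coe_basisOfLinearIndependentOfCardEqFinrank]
  let G₁' : GL (Fin 2) F :=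
    Matrix.GeneralLinearGroup.mkOfDetNeZero (J2 F) (by rw [J2_det]; exact one_ne_zero)
  let G₂' : GL (Fin (n₁ * 2)) F :=
    Matrix.GeneralLinearGroup.mkOfDetNeZero (rgG c (gramMatrix f₁)) (rgG_det c hc0 _ hG₁det)
  have hG : LinearMap.BilinForm.toMatrix b₀ (pB Q) =
      (G₁' : Matrix (Fin 2) (Fin 2) F) ⊗ₖ (G₂' : Matrix (Fin (n₁ * 2)) (Fin (n₁ * 2)) F) := by
    ext p p'
    rw [LinearMap.BilinForm.toMatrix_apply, hb₀, hb₀, hgram]
    rfl
  refine cls4b_of_gram' Q hI (le_refl 2) (by omega) b₀ G₁' G₂'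
    (isSymplecticForm_gf G₁' h2 J2_transpose)
    (isSymplecticForm_gf G₂' h2 (rgG_transpose c _ hG₁symm)) hG ?_ ?_
  · intro x y
    have h3 : (2 : F) * Q (pt b₀ x y) = 0 := by
      have h4 : (2 : F) * Q (pt b₀ x y) = pB Q (pt b₀ x y) (pt b₀ x y) := by
        rw [pB_apply, polar_self, two_nsmul, two_mul]
      rw [h4]
      unfold pt
      rw [bilin_sum_basis (pB Q) b₀, hG]
      have h5 : (∑ k, ∑ l, (x k.1 * y k.2) *
          ((G₁' : Matrix (Fin 2) (Fin 2) F) ⊗ₖ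
            (G₂' : Matrix (Fin (n₁ * 2)) (Fin (n₁ * 2)) F)) k l * (x l.1 * y l.2)) =
          formOfGram id (J2 F ⊗ₖ rgG c (gramMatrix f₁)) (TensorFormSub.pt x y)
            (TensorFormSub.pt x y) := rfl
      rw [h5, TensorFormSub.formOfGram_kron_pt, formOfGram_J2_self, zero_mul]
    rcases mul_eq_zero.mp h3 with h | h
    · exact absurd h h2
    · exact h
  · intro g hg
    obtain ⟨a, b, U, β, rfl, hact⟩ := hfac g hg
    set Γ : Matrix (Fin (n₁ * 2)) (Fin (n₁ * 2)) F := fun k' k =>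
      (a : Matrix (Fin n₁) (Fin n₁) F) (finProdFinEquiv.symm k').1 (finProdFinEquiv.symm k).1 *
        β (finProdFinEquiv.symm k').2 (finProdFinEquiv.symm k).2 with hΓ
    have hmat : LinearMap.toMatrix b₀ b₀
        (Matrix.toLin' ((Phi e P (kron a b) : GL ι F) : Matrix ι ι F)) = U ⊗ₖ Γ := by
      ext p' p
      rw [LinearMap.toMatrix_apply, Matrix.toLin'_apply, hb₀, act_rgV e P w a b U β hact p]
      have : (∑ p' : Fin 2 × Fin (n₁ * 2), (U p'.1 p.1 *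
          ((a : Matrix (Fin n₁) (Fin n₁) F) (finProdFinEquiv.symm p'.2).1
              (finProdFinEquiv.symm p.2).1 *
            β (finProdFinEquiv.symm p'.2).2 (finProdFinEquiv.symm p.2).2)) • rgV e P w p') =
          ∑ p' : Fin 2 × Fin (n₁ * 2), (U p'.1 p.1 * Γ p'.2 p.2) • b₀ p' := by
        refine Finset.sum_congr rfl fun p' _ => ?_
        rw [hb₀]
      rw [this, Basis.repr_sum_self]
      rfl
    have hdet : (U ⊗ₖ Γ).det ≠ 0 := by
      rw [← hmat, LinearMap.det_toMatrix, LinearMap.det_toLin']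
      exact gl_det_ne_zero _
    obtain ⟨hU, hΓd⟩ := det_ne_zero_of_kron U Γ hdet
    exact ⟨Matrix.GeneralLinearGroup.mkOfDetNeZero U hU,
      Matrix.GeneralLinearGroup.mkOfDetNeZero Γ hΓd, hmat⟩

/-- Stage D of S5871: the statement asked for by helper2 -/
theorem cls4b_of_tensor_basis {F : Type*} [Field F] [Fintype F]
    (Q : QuadraticForm F (Fin 12 → F)) (e : Fin 12 ≃ Fin 3 × Fin 4) (P : GL (Fin 12) F)
    (f₁ : (Fin 3 → F) → (Fin 3 → F) → F) (f₂ : (Fin 4 → F) → (Fin 4 → F) → F)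
    (h2 : (2 : F) ≠ 0) (hf₁ : IsSymmetricForm f₁) (hf₂ : IsSymmetricForm f₂)
    (hT : IsTensorFormStructure id (polar ⇑Q) f₁ f₂ e P)
    (w : Fin 2 × Fin 2 → (Fin 4 → F))
    (hw : ∀ p p', f₂ (w p) (w p') =
      (!![0, 1; -1, 0] : Matrix (Fin 2) (Fin 2) F) p.1 p'.1 *
        (!![0, 1; -1, 0] : Matrix (Fin 2) (Fin 2) F) p.2 p'.2)
    (H : Subgroup (GL (Fin 12) F)) (hI : H ≤ isometryGroup F ⇑Q)
    (hfac : ∀ g ∈ H, ∃ (a : GL (Fin 3) F) (b : GL (Fin 4) F) (U β : Matrix (Fin 2) (Fin 2) F),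
        g = Phi e P (kron a b) ∧
        ∀ i j, (b : Matrix (Fin 4) (Fin 4) F) *ᵥ w (i, j) =
          ∑ i', ∑ j', (U i' i * β j' j) • w (i', j')) :
    ∃ M, Cfsg.Agent.Lib.Helper5.AschE.Cls4b ⇑Q M ∧ H ≤ M :=
  cls4b_of_tensor_basis_gen Q (by norm_num) e P f₁ f₂ h2 hf₁ hf₂ hT w hw H hI hfac

end regroup

end Cfsg.Agent.Lib.Helper5.AschE
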