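import Mathlib
import Cfsg.Agent.Lib.Helper8.Asch4

set_option autoImplicit false

/-! Elementary facts on a subalgebra of a matrix algebra which is a field: no zero divisors,
faithful action, every element a difference of two squares (finite base field), every linear
functional is a multiple of a given non-zero one. -/

namespace Cfsg.Agent.Lib.Helper5.AschE

open Module Matrix
open Cfsg.Agent.Lib.Helper8.Asch

variable {ι : Type} [Fintype ι] [DecidableEq ι] {F : Type*} [Field F]
variable {K : Subalgebra F (Matrix ι ι F)}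

/-- the commutative ring structure of a field subalgebra -/
@[reducible] def fldCommRing (hK : IsFld K) : CommRing ↥K :=
  { (inferInstance : Ring ↥K) with
    mul_comm := fun x y => Subtype.ext (hK.comm x.1 x.2 y.1 y.2) }

theorem fld_exists_inv (hK : IsFld K) {x : ↥K} (hx : x ≠ 0) :
    ∃ y : ↥K, x * y = 1 ∧ y * x = 1 := by
  obtain ⟨z, hz, hxz⟩ := hK.inv x.1 x.2 (fun h0 => hx (Subtype.ext h0))
  refine ⟨⟨z, hz⟩, Subtype.ext hxz, Subtype.ext ?_⟩
  show z * x.1 = 1
  rw [hK.comm z hz x.1 x.2]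
  exact hxz

theorem fld_mul_eq_zero (hK : IsFld K) {x y : ↥K} (h : x * y = 0) : x = 0 ∨ y = 0 := by
  by_cases hx : x = 0
  · exact Or.inl hx
  · right
    obtain ⟨z, _, hzx⟩ := fld_exists_inv hK hx
    calc y = (z * x) * y := by rw [hzx, one_mul]
      _ = z * (x * y) := mul_assoc _ _ _
      _ = 0 := by rw [h, mul_zero]

theorem fld_mulVec_eq_zero (hK : IsFld K) {x : ↥K} (hx : x ≠ 0) {v : ι → F}
    (h : x.1 *ᵥ v = 0) : v = 0 := by
  obtain ⟨z, _, hzx⟩ := fld_exists_inv hK hx
  have h1 : (z * x).1 *ᵥ v = v := by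
    rw [hzx]
    exact Matrix.one_mulVec v
  rw [← h1]
  show (z.1 * x.1) *ᵥ v = 0
  rw [← Matrix.mulVec_mulVec, h, Matrix.mulVec_zero]

theorem fld_sq_injective (hK : IsFld K) (h2 : (2 : F) = 0) :
    Function.Injective (fun s : ↥K => s * s) := by
  intro a b hab
  have hab' : a * a = b * b := hab
  have h1 : (a - b) * (a - b) = 0 := by
    letI := fldCommRing hK
    have e1 : (a - b) * (a - b) = a * a + b * b - (2 : F) • (a * b) := by
      rw [two_smul]
      ring
    have e2 : a * a + a * a = (2 : F) • (a * a) := (two_smul F _).symm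
    rw [e1, h2, zero_smul, sub_zero, ← hab', e2, h2, zero_smul]
  rcases fld_mul_eq_zero hK h1 with h | h <;> exact sub_eq_zero.mp h

theorem fld_sq_surjective [Finite F] (hK : IsFld K) (h2 : (2 : F) = 0) :
    Function.Surjective (fun s : ↥K => s * s) :=
  Finite.surjective_of_injective (fld_sq_injective hK h2)

/-- every element is a difference of two squares -/
theorem fld_sq [Finite F] (hK : IsFld K) (x : ↥K) : ∃ s₁ s₂ : ↥K, x = s₁ * s₁ - s₂ * s₂ := by
  by_cases h2 : (2 : F) = 0
  · obtain ⟨s, hs⟩ := fld_sq_surjective hK h2 x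
    refine ⟨s, 0, ?_⟩
    rw [mul_zero, sub_zero]
    exact hs.symm
  · refine ⟨(1 / 2 : F) • (x + 1), (1 / 2 : F) • (x - 1), ?_⟩
    letI := fldCommRing hK
    rw [smul_mul_smul_comm, smul_mul_smul_comm, ← smul_sub]
    have e1 : (x + 1) * (x + 1) - (x - 1) * (x - 1) = (4 : F) • x := by
      rw [show (4 : F) = 2 + 2 by norm_num, add_smul, two_smul]
      ring
    rw [e1, smul_smul]
    have e2 : (1 / 2 * (1 / 2) * 4 : F) = 1 := by
      field_simp
      norm_num
    rw [e2, one_smul]

/-- the functional `x ↦ μ (c * x)` -/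
noncomputable def fldDual (μ : ↥K →ₗ[F] F) : ↥K →ₗ[F] Module.Dual F ↥K :=
  (LinearMap.mul F ↥K).compr₂ μ

theorem fldDual_apply (μ : ↥K →ₗ[F] F) (c x : ↥K) : fldDual μ c x = μ (c * x) := rfl

theorem fld_functional_inj (hK : IsFld K) (μ : ↥K →ₗ[F] F) (hμ : μ ≠ 0) (t : ↥K)
    (h : ∀ k : ↥K, μ (k * t) = 0) : t = 0 := by
  by_contra ht
  apply hμ
  obtain ⟨z, htz, _⟩ := fld_exists_inv hK ht
  ext k
  have := h (k * z)
  rw [mul_assoc, show z * t = t * z from Subtype.ext (hK.comm z.1 z.2 t.1 t.2), htz, mul_one]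
    at this
  rw [this, LinearMap.zero_apply]

/-- every linear functional is `x ↦ μ (c * x)` for some `c` -/
theorem fld_functional (hK : IsFld K) (μ : ↥K →ₗ[F] F) (hμ : μ ≠ 0) (φ : ↥K →ₗ[F] F) :
    ∃ c : ↥K, ∀ x, φ x = μ (c * x) := by
  have hinj : Function.Injective (fldDual μ) := by
    rw [injective_iff_map_eq_zero]
    intro c hc
    apply fld_functional_inj hK μ hμ c
    intro k
    have := LinearMap.congr_fun hc k
    rw [fldDual_apply, LinearMap.zero_apply] at this
    rw [show k * c = c * k from Subtype.ext (hK.comm k.1 k.2 c.1 c.2)]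
    exact this
  have hsurj : Function.Surjective (fldDual μ) :=
    (LinearMap.injective_iff_surjective_of_finrank_eq_finrank
      (Subspace.dual_finrank_eq (K := F) (V := ↥K)).symm).mp hinj
  obtain ⟨c, hc⟩ := hsurj φ
  exact ⟨c, fun x => by rw [← hc, fldDual_apply]⟩

end Cfsg.Agent.Lib.Helper5.AschE
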