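import Mathlib
import Cfsg.Agent.Lib.Helper5.AschE.F5A
import Cfsg.Agent.Lib.Helper5.AschE.Basic

set_option autoImplicit false

/-! For a self-adjoint field subalgebra `K` and a quadratic form `Q`: the functionals `ψ v` on `K`
with `ψ v (k * k) = Q (k v)` (the `K`-valued quadratic form, seen through functionals). -/

namespace Cfsg.Agent.Lib.Helper5.AschE

open Module Matrix QuadraticMap
open Cfsg Cfsg.Geo Cfsg.Agent.Lib.Helper8.Asch Cfsg.Agent.Lib.Helper5.AschO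

variable {ι : Type} [Fintype ι] [DecidableEq ι] {F : Type*} [Field F]
variable {K : Subalgebra F (Matrix ι ι F)}

/-- the linear map `x ↦ x v` on `K` -/
def evK (K : Subalgebra F (Matrix ι ι F)) (v : ι → F) : ↥K →ₗ[F] (ι → F) where
  toFun x := x.1 *ᵥ v
  map_add' x y := Matrix.add_mulVec _ _ _
  map_smul' c x := Matrix.smul_mulVec c x.1 v

theorem evK_apply (v : ι → F) (x : ↥K) : evK K v x = x.1 *ᵥ v := rfl

/-- the functional `x ↦ polar Q (x v) w` on `K` -/
noncomputable def polK (Q : QuadraticForm F (ι → F)) (K : Subalgebra F (Matrix ι ι F))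
    (v w : ι → F) : ↥K →ₗ[F] F :=
  ((polarBilin Q).flip w).comp (evK K v)

theorem polK_apply (Q : QuadraticForm F (ι → F)) (v w : ι → F) (x : ↥K) :
    polK Q K v w x = polar Q (x.1 *ᵥ v) w := rfl

theorem exists_psi_odd (Q : QuadraticForm F (ι → F)) (h2 : (2 : F) ≠ 0)
    (hsa : IsSelfAdjointFor (polar ⇑Q) K) :
    ∃ ψ : (ι → F) → (↥K →ₗ[F] F), ∀ (k : ↥K) (v : ι → F), ψ v (k * k) = Q (k.1 *ᵥ v) := by
  refine ⟨fun v => (1 / 2 : F) • polK Q K v v, fun k v => ?_⟩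
  rw [LinearMap.smul_apply, polK_apply, smul_eq_mul]
  have h1 : (k * k).1 *ᵥ v = k.1 *ᵥ (k.1 *ᵥ v) := by
    show (k.1 * k.1) *ᵥ v = _
    rw [Matrix.mulVec_mulVec]
  rw [h1, hsa k.1 k.2, polar_self, two_smul]
  field_simp
  ring

theorem exists_psi_even [Finite F] (Q : QuadraticForm F (ι → F)) (h2 : (2 : F) = 0)
    (hK : IsFld K) (hsa : IsSelfAdjointFor (polar ⇑Q) K) :
    ∃ ψ : (ι → F) → (↥K →ₗ[F] F), ∀ (k : ↥K) (v : ι → F), ψ v (k * k) = Q (k.1 *ᵥ v) := by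
  have hsurj := fld_sq_surjective hK h2
  have hinj := fld_sq_injective hK h2
  choose s hs using hsurj
  have hs' : ∀ x : ↥K, s x * s x = x := hs
  have hs_sq : ∀ k : ↥K, s (k * k) = k := fun k => hinj (hs' (k * k))
  have hs_add : ∀ x y : ↥K, s (x + y) = s x + s y := by
    intro x y
    apply hinj
    show s (x + y) * s (x + y) = (s x + s y) * (s x + s y)
    rw [hs']
    letI := fldCommRing hK
    have e1 : (s x + s y) * (s x + s y) = s x * s x + s y * s y + (2 : F) • (s x * s y) := by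
      rw [two_smul]
      ring
    rw [e1, h2, zero_smul, add_zero, hs', hs']
  have hFsq : ∀ c : F, ∃ d : F, d * d = c := by
    intro c
    haveI : CharP F 2 := CharTwo.of_one_ne_zero_of_two_eq_zero one_ne_zero h2
    obtain ⟨d, hd⟩ := FiniteField.isSquare_of_char_two (ringChar.eq F 2) c
    exact ⟨d, hd.symm⟩
  have hs_smul : ∀ (d : F) (x : ↥K), s ((d * d) • x) = d • s x := by
    intro d x
    apply hinj
    show s ((d * d) • x) * s ((d * d) • x) = (d • s x) * (d • s x)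
    rw [hs', smul_mul_smul_comm, hs']
  have hpol0 : ∀ (a b : ↥K) (v : ι → F), polar Q (a.1 *ᵥ v) (b.1 *ᵥ v) = 0 := by
    intro a b v
    have h1 : polar Q (a.1 *ᵥ v) (b.1 *ᵥ v) = polar Q ((b * a).1 *ᵥ v) v := by
      show _ = polar Q ((b.1 * a.1) *ᵥ v) v
      rw [← Matrix.mulVec_mulVec, hsa b.1 b.2]
    have h3 : (b * a).1 *ᵥ v = (s (b * a)).1 *ᵥ ((s (b * a)).1 *ᵥ v) := by
      rw [Matrix.mulVec_mulVec]
      show _ = (s (b * a) * s (b * a)).1 *ᵥ v
      rw [hs']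
    rw [h1, h3, hsa _ (s (b * a)).2, polar_self, two_smul]
    have : (2 : F) * Q ((s (b * a)).1 *ᵥ v) = 0 := by rw [h2, zero_mul]
    rw [two_mul] at this
    exact this
  refine ⟨fun v =>
    { toFun := fun x => Q ((s x).1 *ᵥ v)
      map_add' := ?_
      map_smul' := ?_ }, fun k v => ?_⟩
  · intro x y
    show Q ((s (x + y)).1 *ᵥ v) = Q ((s x).1 *ᵥ v) + Q ((s y).1 *ᵥ v)
    rw [hs_add]
    have := hpol0 (s x) (s y) v
    unfold polar at this
    have h4 : ((s x + s y : ↥K) : Matrix ι ι F) *ᵥ v = (s x).1 *ᵥ v + (s y).1 *ᵥ v :=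
      Matrix.add_mulVec _ _ _
    rw [h4]
    linear_combination this
  · intro c x
    obtain ⟨d, hd⟩ := hFsq c
    show Q ((s (c • x)).1 *ᵥ v) = c • Q ((s x).1 *ᵥ v)
    rw [← hd, hs_smul]
    have h4 : ((d • s x : ↥K) : Matrix ι ι F) *ᵥ v = d • ((s x).1 *ᵥ v) :=
      Matrix.smul_mulVec d (s x).1 v
    rw [h4, QuadraticMap.map_smul]
  · show Q ((s (k * k)).1 *ᵥ v) = Q (k.1 *ᵥ v)
    rw [hs_sq]

theorem exists_psi [Finite F] (Q : QuadraticForm F (ι → F))
    (hK : IsFld K) (hsa : IsSelfAdjointFor (polar ⇑Q) K) :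
    ∃ ψ : (ι → F) → (↥K →ₗ[F] F), ∀ (k : ↥K) (v : ι → F), ψ v (k * k) = Q (k.1 *ᵥ v) := by
  by_cases h2 : (2 : F) = 0
  · exact exists_psi_even Q h2 hK hsa
  · exact exists_psi_odd Q h2 hsa

section props

variable [Finite F] (Q : QuadraticForm F (ι → F)) (hK : IsFld K)
  (hsa : IsSelfAdjointFor (polar ⇑Q) K) (ψ : (ι → F) → (↥K →ₗ[F] F))
  (hψ : ∀ (k : ↥K) (v : ι → F), ψ v (k * k) = Q (k.1 *ᵥ v))

include hK in
theorem fld_functional_ext (φ₁ φ₂ : ↥K →ₗ[F] F) (h : ∀ k : ↥K, φ₁ (k * k) = φ₂ (k * k)) :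
    φ₁ = φ₂ := by
  ext x
  obtain ⟨s₁, s₂, rfl⟩ := fld_sq hK x
  rw [map_sub, map_sub, h, h]

include hψ in
theorem kpsi_one (v : ι → F) : ψ v 1 = Q v := by
  have := hψ 1 v
  rw [mul_one] at this
  rw [this]
  show Q ((1 : Matrix ι ι F) *ᵥ v) = Q v
  rw [Matrix.one_mulVec]

include hK hsa hψ in
theorem kpsi_add (v w : ι → F) : ψ (v + w) = ψ v + ψ w + polK Q K v w := by
  apply fld_functional_ext hK
  intro k
  rw [LinearMap.add_apply, LinearMap.add_apply, hψ, hψ, hψ, polK_apply, Matrix.mulVec_add]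
  have h1 : (k * k).1 *ᵥ v = k.1 *ᵥ (k.1 *ᵥ v) := by
    show (k.1 * k.1) *ᵥ v = _
    rw [Matrix.mulVec_mulVec]
  rw [h1, hsa k.1 k.2]
  unfold polar
  ring

include hK hψ in
theorem kpsi_smul (c : ↥K) (v : ι → F) (x : ↥K) : ψ (c.1 *ᵥ v) x = ψ v (c * c * x) := by
  have : ψ (c.1 *ᵥ v) = (ψ v).comp (LinearMap.mulLeft F (c * c)) := by
    apply fld_functional_ext hK
    intro k
    rw [LinearMap.comp_apply, LinearMap.mulLeft_apply, hψ]
    have e : c * c * (k * k) = (k * c) * (k * c) := by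
      letI := fldCommRing hK
      ring
    rw [e, hψ]
    show Q (k.1 *ᵥ (c.1 *ᵥ v)) = Q ((k.1 * c.1) *ᵥ v)
    rw [Matrix.mulVec_mulVec]
  rw [this, LinearMap.comp_apply, LinearMap.mulLeft_apply]

include hK hψ in
/-- invariance under an isometry normalising `K` -/
theorem kpsi_conj (g : GL ι F) (hg : g ∈ subalgebraNormalizer K) (hgI : g ∈ isometryGroup F ⇑Q)
    (v : ι → F) (x x' : ↥K)
    (hx : x'.1 = (g : Matrix ι ι F) * x.1 * ((g⁻¹ : GL ι F) : Matrix ι ι F)) :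
    ψ ((g : Matrix ι ι F) *ᵥ v) x' = ψ v x := by
  have hmem : ∀ k : ↥K, (g : Matrix ι ι F) * k.1 * ((g⁻¹ : GL ι F) : Matrix ι ι F) ∈ K :=
    fun k => (hg k.1).mp k.2
  let cg : ↥K →ₗ[F] ↥K :=
    { toFun := fun k => ⟨_, hmem k⟩
      map_add' := fun a b => Subtype.ext (by
        show (g : Matrix ι ι F) * (a.1 + b.1) * _ = _ + _
        rw [mul_add, add_mul])
      map_smul' := fun c a => Subtype.ext (by
        show (g : Matrix ι ι F) * (c • a.1) * _ = c • (_ * _ * _)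
        rw [Matrix.mul_smul, Matrix.smul_mul]) }
  have hcg : ∀ k : ↥K, (cg k).1 = (g : Matrix ι ι F) * k.1 * ((g⁻¹ : GL ι F) : Matrix ι ι F) :=
    fun _ => rfl
  have key : (ψ ((g : Matrix ι ι F) *ᵥ v)).comp cg = ψ v := by
    apply fld_functional_ext hK
    intro k
    rw [LinearMap.comp_apply]
    have e : cg (k * k) = cg k * cg k := by
      apply Subtype.ext
      show (g : Matrix ι ι F) * (k.1 * k.1) * _ = (_ * _ * _) * (_ * _ * _)
      have hinv : ((g⁻¹ : GL ι F) : Matrix ι ι F) * (g : Matrix ι ι F) = 1 := by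
        rw [← Units.val_mul, inv_mul_cancel, Units.val_one]
      calc (g : Matrix ι ι F) * (k.1 * k.1) * ((g⁻¹ : GL ι F) : Matrix ι ι F)
          = (g : Matrix ι ι F) * k.1 * (1 : Matrix ι ι F) * (k.1 *
              ((g⁻¹ : GL ι F) : Matrix ι ι F)) := by
            rw [mul_one]; simp only [mul_assoc]
        _ = _ := by rw [← hinv]; simp only [mul_assoc]
    rw [e, hψ, hψ, hcg]
    have hinv : ((g⁻¹ : GL ι F) : Matrix ι ι F) * (g : Matrix ι ι F) = 1 := by
      rw [← Units.val_mul, inv_mul_cancel, Units.val_one]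
    rw [Matrix.mulVec_mulVec, mul_assoc, mul_assoc, hinv, mul_one, ← Matrix.mulVec_mulVec]
    exact Q_inv (le_refl _) hgI _
  have hx' : x' = cg x := Subtype.ext hx
  rw [hx', ← LinearMap.comp_apply, key]

end props

end Cfsg.Agent.Lib.Helper5.AschE
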