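import Mathlib
import Cfsg.Agent.Lib.Helper5.AschE.F5B

set_option autoImplicit false

/-! Coordinates for a space of dimension `2` over a self-adjoint field subalgebra `K`: the
quadratic form becomes `Q (a u + b u') = μ (a² + γ a b + β b²)`. -/

namespace Cfsg.Agent.Lib.Helper5.AschE

open Module Matrix QuadraticMap
open Cfsg Cfsg.Geo Cfsg.Agent.Lib.Helper8.Asch Cfsg.Agent.Lib.Helper5.AschO

variable {ι : Type} [Fintype ι] [DecidableEq ι] {F : Type*} [Field F]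
variable {K : Subalgebra F (Matrix ι ι F)}

/-- coordinate data -/
structure Coord (Q : QuadraticForm F (ι → F)) (K : Subalgebra F (Matrix ι ι F)) where
  hK : IsFld K
  hsa : IsSelfAdjointFor (polar ⇑Q) K
  ψ : (ι → F) → (↥K →ₗ[F] F)
  hψ : ∀ (k : ↥K) (v : ι → F), ψ v (k * k) = Q (k.1 *ᵥ v)
  u : ι → F
  u' : ι → F
  μ : ↥K →ₗ[F] F
  β : ↥K
  γ : ↥K
  hμ : ψ u = μ
  hμ0 : μ ≠ 0
  hβ : ∀ x, ψ u' x = μ (β * x)
  hγ : ∀ x : ↥K, polar Q (x.1 *ᵥ u) u' = μ (γ * x)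
  rep : ∀ v, ∃ a b : ↥K, v = a.1 *ᵥ u + b.1 *ᵥ u'
  uniq : ∀ a b : ↥K, a.1 *ᵥ u + b.1 *ᵥ u' = 0 → a = 0 ∧ b = 0

theorem kpsi_zero [Finite F] (Q : QuadraticForm F (ι → F)) (hK : IsFld K)
    (ψ : (ι → F) → (↥K →ₗ[F] F))
    (hψ : ∀ (k : ↥K) (v : ι → F), ψ v (k * k) = Q (k.1 *ᵥ v)) : ψ 0 = 0 := by
  apply fld_functional_ext hK
  intro k
  rw [hψ, Matrix.mulVec_zero, QuadraticMap.map_zero, LinearMap.zero_apply]

theorem exists_coord [Finite F] (Q : QuadraticForm F (ι → F)) (hK : IsFld K)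
    (hsa : IsSelfAdjointFor (polar ⇑Q) K) (ψ : (ι → F) → (↥K →ₗ[F] F))
    (hψ : ∀ (k : ↥K) (v : ι → F), ψ v (k * k) = Q (k.1 *ᵥ v))
    (hdim : Fintype.card ι = 2 * finrank F ↥K) (u : ι → F) (hu : ψ u ≠ 0) :
    ∃ c : Coord Q K, c.ψ = ψ ∧ c.u = u := by
  have hu0 : u ≠ 0 := by
    rintro rfl
    exact hu (kpsi_zero Q hK ψ hψ)
  have hinj : Function.Injective (evK K u) := by
    rw [injective_iff_map_eq_zero]
    intro a ha
    by_contra ha0
    exact hu0 (fld_mulVec_eq_zero hK ha0 ha)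
  have hfr : finrank F (LinearMap.range (evK K u)) = finrank F ↥K :=
    LinearMap.finrank_range_of_inj hinj
  have hpos : 0 < finrank F ↥K := by
    rcases Nat.eq_zero_or_pos (finrank F ↥K) with h | h
    · exfalso
      rw [h, mul_zero] at hdim
      haveI : IsEmpty ι := Fintype.card_eq_zero_iff.mp hdim
      exact hu0 (Subsingleton.elim _ _)
    · exact h
  have hne : LinearMap.range (evK K u) ≠ ⊤ := by
    intro h
    rw [h, finrank_top, Module.finrank_fintype_fun_eq_card, hdim] at hfr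
    omega
  obtain ⟨u', hu'⟩ : ∃ u' : ι → F, u' ∉ LinearMap.range (evK K u) := by
    by_contra hcon
    push_neg at hcon
    exact hne (Submodule.eq_top_iff'.mpr hcon)
  have huniq : ∀ a b : ↥K, a.1 *ᵥ u + b.1 *ᵥ u' = 0 → a = 0 ∧ b = 0 := by
    intro a b hab
    have hb : b = 0 := by
      by_contra hb0
      obtain ⟨z, _, hzb⟩ := fld_exists_inv hK hb0
      apply hu'
      refine ⟨-(z * a), ?_⟩
      rw [evK_apply]
      have h1 : b.1 *ᵥ u' = -(a.1 *ᵥ u) := by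
        rw [eq_neg_iff_add_eq_zero, add_comm]
        exact hab
      have h2 : (z * b).1 *ᵥ u' = u' := by
        rw [hzb]
        exact Matrix.one_mulVec _
      rw [← h2]
      show (-(z.1 * a.1)) *ᵥ u = (z.1 * b.1) *ᵥ u'
      rw [Matrix.neg_mulVec, ← Matrix.mulVec_mulVec, ← Matrix.mulVec_mulVec, h1,
        Matrix.mulVec_neg]
    subst hb
    refine ⟨?_, rfl⟩
    rw [show ((0 : ↥K) : Matrix ι ι F) = 0 from rfl, Matrix.zero_mulVec, add_zero] at hab
    by_contra ha0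
    exact hu0 (fld_mulVec_eq_zero hK ha0 hab)
  have hrep : ∀ v, ∃ a b : ↥K, v = a.1 *ᵥ u + b.1 *ᵥ u' := by
    let Φ : (↥K × ↥K) →ₗ[F] (ι → F) := (evK K u).coprod (evK K u')
    have hΦ : ∀ p : ↥K × ↥K, Φ p = p.1.1 *ᵥ u + p.2.1 *ᵥ u' := fun p => rfl
    have hΦinj : Function.Injective Φ := by
      rw [injective_iff_map_eq_zero]
      intro p hp
      rw [hΦ] at hp
      obtain ⟨h1, h2⟩ := huniq p.1 p.2 hp
      exact Prod.ext h1 h2
    have hfin : finrank F (↥K × ↥K) = finrank F (ι → F) := by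
      rw [Module.finrank_prod, Module.finrank_fintype_fun_eq_card, hdim]
      ring
    have hΦsurj : Function.Surjective Φ :=
      (LinearMap.injective_iff_surjective_of_finrank_eq_finrank hfin).mp hΦinj
    intro v
    obtain ⟨p, hp⟩ := hΦsurj v
    exact ⟨p.1, p.2, by rw [← hp, hΦ]⟩
  obtain ⟨β, hβ⟩ := fld_functional hK (ψ u) hu (ψ u')
  obtain ⟨γ, hγ⟩ := fld_functional hK (ψ u) hu (polK Q K u u')
  exact ⟨{ hK := hK, hsa := hsa, ψ := ψ, hψ := hψ, u := u, u' := u', μ := ψ u, β := β, γ := γ,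
           hμ := rfl, hμ0 := hu, hβ := hβ, hγ := fun x => by rw [← polK_apply]; exact hγ x,
           rep := hrep, uniq := huniq }, rfl, rfl⟩

namespace Coord

variable [Finite F] {Q : QuadraticForm F (ι → F)} (c : Coord Q K)

/-- the vector with coordinates `(a, b)` -/
def vec (a b : ↥K) : ι → F := a.1 *ᵥ c.u + b.1 *ᵥ c.u'

/-- the norm form -/
def N (a b : ↥K) : ↥K := a * a + c.γ * a * b + c.β * b * b

theorem exists_vec (v : ι → F) : ∃ a b : ↥K, v = c.vec a b := c.rep v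

theorem vec_add (a b a' b' : ↥K) : c.vec a b + c.vec a' b' = c.vec (a + a') (b + b') := by
  unfold vec
  rw [show ((a + a' : ↥K) : Matrix ι ι F) = a.1 + a'.1 from rfl,
    show ((b + b' : ↥K) : Matrix ι ι F) = b.1 + b'.1 from rfl, Matrix.add_mulVec,
    Matrix.add_mulVec]
  abel

theorem vec_sub (a b a' b' : ↥K) : c.vec a b - c.vec a' b' = c.vec (a - a') (b - b') := by
  unfold vec
  rw [show ((a - a' : ↥K) : Matrix ι ι F) = a.1 - a'.1 from rfl,
    show ((b - b' : ↥K) : Matrix ι ι F) = b.1 - b'.1 from rfl, Matrix.sub_mulVec,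
    Matrix.sub_mulVec]
  abel

theorem smul_vec (k a b : ↥K) : k.1 *ᵥ c.vec a b = c.vec (k * a) (k * b) := by
  unfold vec
  rw [Matrix.mulVec_add, Matrix.mulVec_mulVec, Matrix.mulVec_mulVec]
  rfl

theorem smulF_vec (r : F) (a b : ↥K) : r • c.vec a b = c.vec (r • a) (r • b) := by
  unfold vec
  rw [smul_add, show ((r • a : ↥K) : Matrix ι ι F) = r • a.1 from rfl,
    show ((r • b : ↥K) : Matrix ι ι F) = r • b.1 from rfl, Matrix.smul_mulVec,
    Matrix.smul_mulVec]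

theorem vec_eq_zero {a b : ↥K} : c.vec a b = 0 ↔ a = 0 ∧ b = 0 := by
  constructor
  · exact c.uniq a b
  · rintro ⟨rfl, rfl⟩
    unfold vec
    rw [show ((0 : ↥K) : Matrix ι ι F) = 0 from rfl, Matrix.zero_mulVec, Matrix.zero_mulVec,
      add_zero]

theorem vec_inj {a b a' b' : ↥K} (h : c.vec a b = c.vec a' b') : a = a' ∧ b = b' := by
  have h1 : c.vec (a - a') (b - b') = 0 := by rw [← vec_sub, h, sub_self]
  obtain ⟨h2, h3⟩ := c.vec_eq_zero.mp h1
  exact ⟨sub_eq_zero.mp h2, sub_eq_zero.mp h3⟩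

theorem vec_one_zero : c.vec 1 0 = c.u := by
  unfold vec
  rw [show ((0 : ↥K) : Matrix ι ι F) = 0 from rfl, Matrix.zero_mulVec, add_zero,
    show ((1 : ↥K) : Matrix ι ι F) = 1 from rfl, Matrix.one_mulVec]

theorem vec_zero_one : c.vec 0 1 = c.u' := by
  unfold vec
  rw [show ((0 : ↥K) : Matrix ι ι F) = 0 from rfl, Matrix.zero_mulVec, zero_add,
    show ((1 : ↥K) : Matrix ι ι F) = 1 from rfl, Matrix.one_mulVec]

theorem psi_vec (a b x : ↥K) : c.ψ (c.vec a b) x = c.μ (c.N a b * x) := by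
  have hK := c.hK
  unfold vec
  rw [kpsi_add Q c.hK c.hsa c.ψ c.hψ, LinearMap.add_apply, LinearMap.add_apply,
    kpsi_smul Q c.hK c.ψ c.hψ, kpsi_smul Q c.hK c.ψ c.hψ, polK_apply, c.hμ, c.hβ]
  have h1 : polar Q (x.1 *ᵥ (a.1 *ᵥ c.u)) (b.1 *ᵥ c.u') = c.μ (c.γ * (b * x * a)) := by
    rw [← c.hsa b.1 b.2, Matrix.mulVec_mulVec, Matrix.mulVec_mulVec, ← c.hγ]
    rfl
  rw [h1, ← map_add, ← map_add]
  congr 1
  unfold N
  letI := fldCommRing hK
  ring

theorem Q_vec (a b : ↥K) : Q (c.vec a b) = c.μ (c.N a b) := by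
  rw [← kpsi_one Q c.ψ c.hψ, psi_vec, mul_one]

theorem Q_smul_vec (k a b : ↥K) : Q (k.1 *ᵥ c.vec a b) = c.μ (c.N a b * (k * k)) := by
  rw [← c.hψ, psi_vec]

theorem polar_vec (a b a' b' : ↥K) :
    polar Q (c.vec a b) (c.vec a' b') =
      c.μ (2 * a * a' + c.γ * (a * b' + b * a') + 2 * c.β * b * b') := by
  have hK := c.hK
  unfold polar
  rw [vec_add, Q_vec, Q_vec, Q_vec, ← map_sub, ← map_sub]
  congr 1
  unfold N
  letI := fldCommRing hK
  ring

/-- `μ (t * x) = 0` for all `x` forces `t = 0` -/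
theorem mu_eq_zero {t : ↥K} (h : ∀ x : ↥K, c.μ (t * x) = 0) : t = 0 := by
  apply fld_functional_inj c.hK c.μ c.hμ0 t
  intro k
  rw [show k * t = t * k from Subtype.ext (c.hK.comm k.1 k.2 t.1 t.2)]
  exact h k

theorem psi_vec_eq_zero {a b : ↥K} : c.ψ (c.vec a b) = 0 ↔ c.N a b = 0 := by
  constructor
  · intro h
    apply c.mu_eq_zero
    intro x
    rw [← psi_vec, h, LinearMap.zero_apply]
  · intro h
    ext x
    rw [psi_vec, h, zero_mul, map_zero, LinearMap.zero_apply]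

end Coord

end Cfsg.Agent.Lib.Helper5.AschE
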