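import Mathlib
import Cfsg.Agent.Lib.Helper5.AschE.F5C

set_option autoImplicit false

/-! The quadratic extension `K[y]` of a self-adjoint field subalgebra `K` acting on a space of
`K`-dimension `2` with a quadratic form: `y` is the multiplication by a root of
`t² - γ t + β`, where the form is `a² + γ a b + β b²`. -/

namespace Cfsg.Agent.Lib.Helper5.AschE

open Module Matrix QuadraticMap
open Cfsg Cfsg.Geo Cfsg.Agent.Lib.Helper8.Asch Cfsg.Agent.Lib.Helper5.AschO

variable {ι : Type} [Fintype ι] [DecidableEq ι] {F : Type*} [Field F]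
variable {K : Subalgebra F (Matrix ι ι F)}

namespace Coord

variable [Finite F] {Q : QuadraticForm F (ι → F)} (c : Coord Q K)

/-- the coordinate isomorphism -/
noncomputable def phi : (↥K × ↥K) ≃ₗ[F] (ι → F) :=
  LinearEquiv.ofBijective ((evK K c.u).coprod (evK K c.u')) (by
    constructor
    · rw [injective_iff_map_eq_zero]
      intro p hp
      obtain ⟨h1, h2⟩ := c.uniq p.1 p.2 hp
      exact Prod.ext h1 h2
    · intro v
      obtain ⟨a, b, hab⟩ := c.rep v
      exact ⟨(a, b), hab.symm⟩)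

theorem phi_apply (p : ↥K × ↥K) : c.phi p = c.vec p.1 p.2 := rfl

/-- multiplication by `y` in coordinates -/
def yT : (↥K × ↥K) →ₗ[F] (↥K × ↥K) where
  toFun p := (-(c.β * p.2), p.1 + c.γ * p.2)
  map_add' p q := by
    refine Prod.ext ?_ ?_
    · show -(c.β * (p.2 + q.2)) = -(c.β * p.2) + -(c.β * q.2)
      rw [mul_add, neg_add]
    · show p.1 + q.1 + c.γ * (p.2 + q.2) = (p.1 + c.γ * p.2) + (q.1 + c.γ * q.2)
      rw [mul_add]
      abel
  map_smul' r p := by
    refine Prod.ext ?_ ?_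
    · show -(c.β * (r • p.2)) = r • -(c.β * p.2)
      rw [mul_smul_comm, smul_neg]
    · show r • p.1 + c.γ * (r • p.2) = r • (p.1 + c.γ * p.2)
      rw [mul_smul_comm, smul_add]

/-- the operator `y` -/
noncomputable def y : Matrix ι ι F :=
  LinearMap.toMatrix' (c.phi.toLinearMap ∘ₗ c.yT ∘ₗ c.phi.symm.toLinearMap)

theorem y_vec (a b : ↥K) : c.y *ᵥ c.vec a b = c.vec (-(c.β * b)) (a + c.γ * b) := by
  unfold y
  rw [LinearMap.toMatrix'_mulVec, LinearMap.comp_apply, LinearMap.comp_apply,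
    LinearEquiv.coe_coe, LinearEquiv.coe_coe]
  have h1 : c.phi.symm (c.vec a b) = (a, b) := by
    rw [LinearEquiv.symm_apply_eq, phi_apply]
  rw [h1, phi_apply]
  rfl

theorem ext_vec {A B : Matrix ι ι F} (h : ∀ a b : ↥K, A *ᵥ c.vec a b = B *ᵥ c.vec a b) :
    A = B := by
  apply Matrix.toLin'.injective
  apply LinearMap.ext
  intro v
  obtain ⟨a, b, rfl⟩ := c.exists_vec v
  rw [Matrix.toLin'_apply, Matrix.toLin'_apply]
  exact h a b

/-- the element `a + b y` -/
noncomputable def el (a b : ↥K) : Matrix ι ι F := a.1 + b.1 * c.y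

theorem el_vec (a b a' b' : ↥K) :
    c.el a b *ᵥ c.vec a' b' =
      c.vec (a * a' - c.β * b * b') (a * b' + b * a' + c.γ * b * b') := by
  have hK := c.hK
  unfold el
  rw [Matrix.add_mulVec, ← Matrix.mulVec_mulVec, y_vec, smul_vec, smul_vec, vec_add]
  congr 1
  · letI := fldCommRing hK
    ring
  · letI := fldCommRing hK
    ring

theorem el_mul (a b a' b' : ↥K) :
    c.el a b * c.el a' b' =
      c.el (a * a' - c.β * b * b') (a * b' + b * a' + c.γ * b * b') := by
  have hK := c.hK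
  apply c.ext_vec
  intro p q
  rw [← Matrix.mulVec_mulVec, el_vec, el_vec, el_vec]
  congr 1
  · letI := fldCommRing hK
    ring
  · letI := fldCommRing hK
    ring

theorem el_add (a b a' b' : ↥K) : c.el a b + c.el a' b' = c.el (a + a') (b + b') := by
  unfold el
  rw [show ((a + a' : ↥K) : Matrix ι ι F) = a.1 + a'.1 from rfl,
    show ((b + b' : ↥K) : Matrix ι ι F) = b.1 + b'.1 from rfl, add_mul]
  abel

theorem el_smul (r : F) (a b : ↥K) : r • c.el a b = c.el (r • a) (r • b) := by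
  unfold el
  rw [show ((r • a : ↥K) : Matrix ι ι F) = r • a.1 from rfl,
    show ((r • b : ↥K) : Matrix ι ι F) = r • b.1 from rfl, smul_add, Matrix.smul_mul]

theorem el_zero_right (a : ↥K) : c.el a 0 = a.1 := by
  unfold el
  rw [show ((0 : ↥K) : Matrix ι ι F) = 0 from rfl, zero_mul, add_zero]

theorem el_zero_one : c.el 0 1 = c.y := by
  unfold el
  rw [show ((0 : ↥K) : Matrix ι ι F) = 0 from rfl, zero_add,
    show ((1 : ↥K) : Matrix ι ι F) = 1 from rfl, one_mul]

theorem el_vec_one_zero (a b : ↥K) : c.el a b *ᵥ c.vec 1 0 = c.vec a b := by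
  rw [el_vec]
  congr 1
  · rw [mul_one, mul_zero, sub_zero]
  · rw [mul_zero, mul_one, mul_zero, zero_add, add_zero]

theorem el_inj {a b a' b' : ↥K} (h : c.el a b = c.el a' b') : a = a' ∧ b = b' := by
  apply c.vec_inj
  rw [← el_vec_one_zero, h, el_vec_one_zero]

theorem el_eq_zero {a b : ↥K} : c.el a b = 0 ↔ a = 0 ∧ b = 0 := by
  constructor
  · intro h
    apply c.vec_eq_zero.mp
    rw [← el_vec_one_zero, h, Matrix.zero_mulVec]
  · rintro ⟨rfl, rfl⟩
    rw [el_zero_right]
    rfl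

theorem el_comm (a b a' b' : ↥K) : c.el a b * c.el a' b' = c.el a' b' * c.el a b := by
  have hK := c.hK
  rw [el_mul, el_mul]
  congr 1
  · letI := fldCommRing hK
    ring
  · letI := fldCommRing hK
    ring

/-- the quadratic extension `K[y]` -/
noncomputable def K2 : Subalgebra F (Matrix ι ι F) where
  carrier := {x | ∃ a b : ↥K, x = c.el a b}
  mul_mem' := by
    rintro _ _ ⟨a, b, rfl⟩ ⟨a', b', rfl⟩
    exact ⟨_, _, c.el_mul a b a' b'⟩
  add_mem' := by
    rintro _ _ ⟨a, b, rfl⟩ ⟨a', b', rfl⟩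
    exact ⟨_, _, c.el_add a b a' b'⟩
  algebraMap_mem' r := ⟨algebraMap F ↥K r, 0, by rw [el_zero_right]; rfl⟩

theorem mem_K2 {x : Matrix ι ι F} : x ∈ c.K2 ↔ ∃ a b : ↥K, x = c.el a b := Iff.rfl

theorem K_le_K2 : K ≤ c.K2 := fun x hx => ⟨⟨x, hx⟩, 0, (c.el_zero_right ⟨x, hx⟩).symm⟩

theorem y_mem_K2 : c.y ∈ c.K2 := ⟨0, 1, c.el_zero_one.symm⟩

/-- the conjugate of `a + b y` is `(a + γ b) - b y` and the product is the norm -/
theorem el_mul_conj (a b : ↥K) : c.el a b * c.el (a + c.γ * b) (-b) = (c.N a b).1 := by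
  have hK := c.hK
  rw [el_mul, ← el_zero_right]
  congr 1
  · unfold N
    letI := fldCommRing hK
    ring
  · letI := fldCommRing hK
    ring

theorem finrank_K2 : finrank F ↥c.K2 = 2 * finrank F ↥K := by
  let Ψ : (↥K × ↥K) →ₗ[F] ↥c.K2 :=
    { toFun := fun p => ⟨c.el p.1 p.2, p.1, p.2, rfl⟩
      map_add' := fun p q => Subtype.ext (c.el_add p.1 p.2 q.1 q.2).symm
      map_smul' := fun r p => Subtype.ext (c.el_smul r p.1 p.2).symm }
  have hinj : Function.Injective Ψ := by
    intro p q hpq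
    have := congrArg Subtype.val hpq
    obtain ⟨h1, h2⟩ := c.el_inj this
    exact Prod.ext h1 h2
  have hsurj : Function.Surjective Ψ := by
    rintro ⟨x, a, b, rfl⟩
    exact ⟨(a, b), rfl⟩
  have e := LinearEquiv.ofBijective Ψ ⟨hinj, hsurj⟩
  rw [← e.finrank_eq, Module.finrank_prod]
  ring

end Coord

end Cfsg.Agent.Lib.Helper5.AschE
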