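import Mathlib
import Cfsg.Agent.Lib.Helper5.AschE.F5D

set_option autoImplicit false

/-! The quadratic extension `K[y]`: multiplicativity of the norm, the adjoint of `a + b y` is its
conjugate, and `K[y]` is a field when the norm form is anisotropic. -/

namespace Cfsg.Agent.Lib.Helper5.AschE

open Module Matrix QuadraticMap
open Cfsg Cfsg.Geo Cfsg.Agent.Lib.Helper8.Asch Cfsg.Agent.Lib.Helper5.AschO

variable {ι : Type} [Fintype ι] [DecidableEq ι] {F : Type*} [Field F]
variable {K : Subalgebra F (Matrix ι ι F)}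

namespace Coord

variable [Finite F] {Q : QuadraticForm F (ι → F)} (c : Coord Q K)

theorem N_mul (a b a' b' : ↥K) :
    c.N (a * a' - c.β * b * b') (a * b' + b * a' + c.γ * b * b') = c.N a b * c.N a' b' := by
  have hK := c.hK
  unfold N
  letI := fldCommRing hK
  ring

/-- the norm is multiplicative -/
theorem psi_el (a b : ↥K) (v : ι → F) (x : ↥K) :
    c.ψ (c.el a b *ᵥ v) x = c.ψ v (c.N a b * x) := by
  obtain ⟨a', b', rfl⟩ := c.exists_vec v
  rw [el_vec, psi_vec, psi_vec, N_mul]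
  congr 1
  have hK := c.hK
  letI := fldCommRing hK
  ring

theorem Q_el (a b : ↥K) (v : ι → F) : Q (c.el a b *ᵥ v) = c.ψ v (c.N a b) := by
  rw [← kpsi_one Q c.ψ c.hψ, psi_el, mul_one]

/-- the adjoint of `a + b y` is its conjugate -/
theorem polar_el (a b : ↥K) (v w : ι → F) :
    polar Q (c.el a b *ᵥ v) w = polar Q v (c.el (a + c.γ * b) (-b) *ᵥ w) := by
  obtain ⟨p, q, rfl⟩ := c.exists_vec v
  obtain ⟨r, s, rfl⟩ := c.exists_vec w
  rw [el_vec, el_vec, polar_vec, polar_vec]
  congr 1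
  have hK := c.hK
  letI := fldCommRing hK
  ring

include c in
theorem one_ne_zero' : (1 : ↥K) ≠ 0 := by
  intro h
  apply c.hμ0
  ext x
  rw [← mul_one x, h, mul_zero, map_zero, LinearMap.zero_apply]

/-- `K[y]` is a field when the norm form is anisotropic -/
theorem isFld_K2 (haniso : ∀ a b : ↥K, c.N a b = 0 → a = 0 ∧ b = 0) : IsFld c.K2 where
  comm := by
    rintro _ ⟨a, b, rfl⟩ _ ⟨a', b', rfl⟩
    exact c.el_comm a b a' b'
  inv := by
    rintro _ ⟨a, b, rfl⟩ hx
    have hN : c.N a b ≠ 0 := by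
      intro h
      exact hx (c.el_eq_zero.mpr (haniso a b h))
    obtain ⟨n', hn', _⟩ := fld_exists_inv c.hK hN
    refine ⟨c.el (a + c.γ * b) (-b) * n'.1, ?_, ?_⟩
    · exact c.K2.mul_mem ⟨_, _, rfl⟩ (c.K_le_K2 n'.2)
    · rw [← mul_assoc, el_mul_conj]
      exact congrArg Subtype.val hn'

end Coord

end Cfsg.Agent.Lib.Helper5.AschE
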