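import Mathlib
import Cfsg.Agent.Lib.Helper5.AschE.F5E

set_option autoImplicit false

/-! A coordinate-free description of the quadratic extension `K[y]`, and its invariance under the
isometries normalising `K`. -/

namespace Cfsg.Agent.Lib.Helper5.AschE

open Module Matrix QuadraticMap
open Cfsg Cfsg.Geo Cfsg.Agent.Lib.Helper8.Asch Cfsg.Agent.Lib.Helper5.AschO

variable {ι : Type} [Fintype ι] [DecidableEq ι] {F : Type*} [Field F]
variable {K : Subalgebra F (Matrix ι ι F)}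

namespace Coord

variable [Finite F] {Q : QuadraticForm F (ι → F)} (c : Coord Q K)

/-- the canonical description of the elements of `K[y]` -/
def Can (x : Matrix ι ι F) : Prop :=
  (∀ k : ↥K, k.1 * x = x * k.1) ∧
    ∃ t : ↥K, ∀ (v : ι → F) (k : ↥K), polar Q ((k.1 * x) *ᵥ v) v = c.ψ v (k * t)

theorem can_el (a b : ↥K) : c.Can (c.el a b) := by
  have hK := c.hK
  refine ⟨fun k => ?_, 2 * a + c.γ * b, fun v k => ?_⟩
  · rw [← c.el_zero_right k, el_comm]
  · obtain ⟨p, q, rfl⟩ := c.exists_vec v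
    rw [← Matrix.mulVec_mulVec, el_vec, smul_vec, polar_vec, psi_vec]
    congr 1
    unfold N
    letI := fldCommRing hK
    ring

theorem can_sub {x x' : Matrix ι ι F} (hx : c.Can x) (hx' : c.Can x') : c.Can (x - x') := by
  obtain ⟨h1, t, ht⟩ := hx
  obtain ⟨h1', t', ht'⟩ := hx'
  refine ⟨fun k => ?_, t - t', fun v k => ?_⟩
  · rw [mul_sub, sub_mul, h1, h1']
  · rw [mul_sub, Matrix.sub_mulVec, polar_sub_left, ht, ht', mul_sub, map_sub]

theorem disc_ne_zero (hnd : ∀ v : ι → F, (∀ w, polar Q v w = 0) → v = 0) :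
    c.γ * c.γ - 4 * c.β ≠ 0 := by
  have hK := c.hK
  intro hd
  by_cases h2 : (2 : F) = 0
  · have h2K : (2 : ↥K) = 0 := by
      have : (2 : ↥K) = algebraMap F ↥K 2 := (map_ofNat (algebraMap F ↥K) 2).symm
      rw [this, h2, map_zero]
    have h4K : (4 : ↥K) = 0 := by
      rw [show (4 : ↥K) = 2 * 2 by norm_num, h2K, mul_zero]
    rw [h4K, zero_mul, sub_zero] at hd
    have hγ : c.γ = 0 := by
      rcases fld_mul_eq_zero hK hd with h | h <;> exact h
    have h0 : c.vec 1 0 = 0 := by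
      apply hnd
      intro w
      obtain ⟨r, s, rfl⟩ := c.exists_vec w
      rw [polar_vec, hγ, h2K]
      simp
    exact c.one_ne_zero' (c.vec_eq_zero.mp h0).1
  · have h0 : c.vec c.γ (-2) = 0 := by
      apply hnd
      intro w
      obtain ⟨r, s, rfl⟩ := c.exists_vec w
      rw [polar_vec]
      have e : 2 * c.γ * r + c.γ * (c.γ * s + -2 * r) + 2 * c.β * -2 * s
          = (c.γ * c.γ - 4 * c.β) * s := by
        letI := fldCommRing hK
        ring
      rw [e, hd, zero_mul, map_zero]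
    have h2K : (-2 : ↥K) = 0 := (c.vec_eq_zero.mp h0).2
    apply h2
    have h3 : (2 : ↥K) = 0 := by
      rw [← neg_eq_zero]
      exact h2K
    have h4 : algebraMap F ↥K 2 = 0 := by
      rw [map_ofNat]
      exact h3
    by_contra h2'
    apply c.one_ne_zero'
    have h5 : (2 : F)⁻¹ • algebraMap F ↥K 2 = 1 := by
      rw [Algebra.algebraMap_eq_smul_one, smul_smul, inv_mul_cancel₀ h2', one_smul]
    rw [← h5, h4, smul_zero]

theorem N_one_zero : c.N 1 0 = 1 := by
  unfold N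
  simp

theorem mem_K2_of_can (hdisc : c.γ * c.γ - 4 * c.β ≠ 0) {x : Matrix ι ι F} (hx : c.Can x) :
    x ∈ c.K2 := by
  have hK := c.hK
  obtain ⟨p, r, hpr⟩ := c.exists_vec (x *ᵥ c.vec 1 0)
  have hx' : c.Can (x - c.el p r) := c.can_sub hx (c.can_el p r)
  have h10 : (x - c.el p r) *ᵥ c.vec 1 0 = 0 := by
    rw [Matrix.sub_mulVec, hpr, el_vec_one_zero, sub_self]
  obtain ⟨hcomm, t, ht⟩ := hx'
  obtain ⟨q, s, hqs⟩ := c.exists_vec ((x - c.el p r) *ᵥ c.vec 0 1)
  have hact : ∀ a b : ↥K, (x - c.el p r) *ᵥ c.vec a b = c.vec (b * q) (b * s) := by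
    intro a b
    have e1 : c.vec a b = a.1 *ᵥ c.vec 1 0 + b.1 *ᵥ c.vec 0 1 := by
      rw [smul_vec, smul_vec, vec_add]
      congr 1
      · rw [mul_one, mul_zero, add_zero]
      · rw [mul_zero, mul_one, zero_add]
    rw [e1, Matrix.mulVec_add, Matrix.mulVec_mulVec, Matrix.mulVec_mulVec, ← hcomm a, ← hcomm b,
      ← Matrix.mulVec_mulVec, ← Matrix.mulVec_mulVec, h10, hqs, Matrix.mulVec_zero, zero_add,
      smul_vec]
  have ht0 : t = 0 := by
    apply c.mu_eq_zero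
    intro k
    have := ht (c.vec 1 0) k
    rw [← Matrix.mulVec_mulVec, h10, Matrix.mulVec_zero, polar_zero_left, psi_vec, N_one_zero,
      one_mul] at this
    rw [show t * k = k * t from Subtype.ext (hK.comm t.1 t.2 k.1 k.2)]
    exact this.symm
  have hrel : ∀ a : ↥K, 2 * q * a + c.γ * (q + s * a) + 2 * c.β * s = 0 := by
    intro a
    apply c.mu_eq_zero
    intro k
    have := ht (c.vec a 1) k
    rw [← Matrix.mulVec_mulVec, hact, smul_vec, polar_vec, ht0, mul_zero, map_zero] at this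
    rw [← this]
    congr 1
    letI := fldCommRing hK
    ring
  have hI := hrel 0
  have hII := hrel 1
  have hq : q = 0 := by
    have : (c.γ * c.γ - 4 * c.β) * q = 0 := by
      letI := fldCommRing hK
      linear_combination (c.γ + 2 * c.β) * hI - 2 * c.β * hII
    rcases fld_mul_eq_zero hK this with h | h
    · exact absurd h hdisc
    · exact h
  have hs : s = 0 := by
    have : (c.γ * c.γ - 4 * c.β) * s = 0 := by
      letI := fldCommRing hK
      linear_combination c.γ * hII - (c.γ + 2) * hI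
    rcases fld_mul_eq_zero hK this with h | h
    · exact absurd h hdisc
    · exact h
  have hzero : x - c.el p r = 0 := by
    apply c.ext_vec
    intro a b
    rw [hact, hq, hs, mul_zero, Matrix.zero_mulVec]
    exact c.vec_eq_zero.mpr ⟨rfl, rfl⟩
  exact ⟨p, r, sub_eq_zero.mp hzero⟩

theorem can_conj (g : GL ι F) (hg : g ∈ subalgebraNormalizer K)
    (hgI : g ∈ isometryGroup F ⇑Q) {x : Matrix ι ι F} (hx : c.Can x) :
    c.Can ((g : Matrix ι ι F) * x * ((g⁻¹ : GL ι F) : Matrix ι ι F)) := by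
  have hK := c.hK
  obtain ⟨hcomm, t, ht⟩ := hx
  have hinv : ((g⁻¹ : GL ι F) : Matrix ι ι F) * (g : Matrix ι ι F) = 1 := by
    rw [← Units.val_mul, inv_mul_cancel, Units.val_one]
  have hinv' : (g : Matrix ι ι F) * ((g⁻¹ : GL ι F) : Matrix ι ι F) = 1 := by
    rw [← Units.val_mul, mul_inv_cancel, Units.val_one]
  -- `g⁻¹ k g ∈ K`
  have hback : ∀ k : ↥K, ((g⁻¹ : GL ι F) : Matrix ι ι F) * k.1 * (g : Matrix ι ι F) ∈ K := by
    intro k
    rw [hg]
    have : (g : Matrix ι ι F) * (((g⁻¹ : GL ι F) : Matrix ι ι F) * k.1 * (g : Matrix ι ι F)) *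
        ((g⁻¹ : GL ι F) : Matrix ι ι F) = k.1 := by
      calc _ = ((g : Matrix ι ι F) * ((g⁻¹ : GL ι F) : Matrix ι ι F)) * k.1 *
            ((g : Matrix ι ι F) * ((g⁻¹ : GL ι F) : Matrix ι ι F)) := by
            simp only [mul_assoc]
        _ = k.1 := by rw [hinv', one_mul, mul_one]
    rw [this]
    exact k.2
  have hfwd : ∀ k : ↥K, (g : Matrix ι ι F) * k.1 * ((g⁻¹ : GL ι F) : Matrix ι ι F) ∈ K :=
    fun k => (hg k.1).mp k.2
  -- the key rewriting `k g = g k₀`
  have hkg : ∀ k : ↥K, k.1 * (g : Matrix ι ι F) =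
      (g : Matrix ι ι F) * (((g⁻¹ : GL ι F) : Matrix ι ι F) * k.1 * (g : Matrix ι ι F)) := by
    intro k
    rw [← mul_assoc, ← mul_assoc, hinv', one_mul]
  have hgk : ∀ k : ↥K, (((g⁻¹ : GL ι F) : Matrix ι ι F) * k.1 * (g : Matrix ι ι F)) *
      ((g⁻¹ : GL ι F) : Matrix ι ι F) = ((g⁻¹ : GL ι F) : Matrix ι ι F) * k.1 := by
    intro k
    rw [mul_assoc, hinv', mul_one]
  refine ⟨fun k => ?_, ⟨_, hfwd t⟩, fun v k => ?_⟩
  · have h1 := hcomm ⟨_, hback k⟩
    calc k.1 * ((g : Matrix ι ι F) * x * ((g⁻¹ : GL ι F) : Matrix ι ι F))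
        = (k.1 * (g : Matrix ι ι F)) * x * ((g⁻¹ : GL ι F) : Matrix ι ι F) := by
          simp only [mul_assoc]
      _ = (g : Matrix ι ι F) * ((((g⁻¹ : GL ι F) : Matrix ι ι F) * k.1 * (g : Matrix ι ι F)) * x) *
            ((g⁻¹ : GL ι F) : Matrix ι ι F) := by
          rw [hkg]; simp only [mul_assoc]
      _ = (g : Matrix ι ι F) * (x * (((g⁻¹ : GL ι F) : Matrix ι ι F) * k.1 * (g : Matrix ι ι F))) *
            ((g⁻¹ : GL ι F) : Matrix ι ι F) := by
          rw [h1]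
      _ = (g : Matrix ι ι F) * x * ((((g⁻¹ : GL ι F) : Matrix ι ι F) * k.1 * (g : Matrix ι ι F)) *
            ((g⁻¹ : GL ι F) : Matrix ι ι F)) := by
          simp only [mul_assoc]
      _ = _ := by rw [hgk]; simp only [mul_assoc]
  · set w := ((g⁻¹ : GL ι F) : Matrix ι ι F) *ᵥ v with hw
    have hv : v = (g : Matrix ι ι F) *ᵥ w := by
      rw [hw, Matrix.mulVec_mulVec, hinv', Matrix.one_mulVec]
    set k₀ : ↥K := ⟨_, hback k⟩ with hk₀
    have e1 : (k.1 * ((g : Matrix ι ι F) * x * ((g⁻¹ : GL ι F) : Matrix ι ι F))) *ᵥ v =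
        (g : Matrix ι ι F) *ᵥ ((k₀.1 * x) *ᵥ w) := by
      rw [hw, Matrix.mulVec_mulVec, Matrix.mulVec_mulVec]
      congr 1
      show _ = (g : Matrix ι ι F) * ((((g⁻¹ : GL ι F) : Matrix ι ι F) * k.1 *
        (g : Matrix ι ι F)) * x) * ((g⁻¹ : GL ι F) : Matrix ι ι F)
      calc k.1 * ((g : Matrix ι ι F) * x * ((g⁻¹ : GL ι F) : Matrix ι ι F))
          = (k.1 * (g : Matrix ι ι F)) * x * ((g⁻¹ : GL ι F) : Matrix ι ι F) := by
            simp only [mul_assoc]
        _ = _ := by rw [hkg]; simp only [mul_assoc]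
    rw [e1]
    conv_lhs => rw [hv]
    rw [polar_inv (le_refl _) hgI, ht w k₀, hv]
    symm
    apply kpsi_conj Q hK c.ψ c.hψ g hg hgI w (k₀ * t)
    show k.1 * ((g : Matrix ι ι F) * t.1 * ((g⁻¹ : GL ι F) : Matrix ι ι F)) =
      (g : Matrix ι ι F) * ((((g⁻¹ : GL ι F) : Matrix ι ι F) * k.1 * (g : Matrix ι ι F)) * t.1) *
        ((g⁻¹ : GL ι F) : Matrix ι ι F)
    calc k.1 * ((g : Matrix ι ι F) * t.1 * ((g⁻¹ : GL ι F) : Matrix ι ι F))
        = (k.1 * (g : Matrix ι ι F)) * t.1 * ((g⁻¹ : GL ι F) : Matrix ι ι F) := by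
          simp only [mul_assoc]
      _ = _ := by rw [hkg]; simp only [mul_assoc]

/-- `K[y]` is normalised by the isometries normalising `K` -/
theorem K2_conj (hnd : ∀ v : ι → F, (∀ w, polar Q v w = 0) → v = 0)
    (g : GL ι F) (hg : g ∈ subalgebraNormalizer K) (hgI : g ∈ isometryGroup F ⇑Q)
    {x : Matrix ι ι F} (hx : x ∈ c.K2) :
    (g : Matrix ι ι F) * x * ((g⁻¹ : GL ι F) : Matrix ι ι F) ∈ c.K2 := by
  obtain ⟨a, b, rfl⟩ := hx
  exact c.mem_K2_of_can (c.disc_ne_zero hnd) (c.can_conj g hg hgI (c.can_el a b))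

end Coord

end Cfsg.Agent.Lib.Helper5.AschE
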