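import Mathlib
import Cfsg.Agent.Lib.Helper5.AschE.F5F
import Cfsg.Agent.Lib.Helper5.AschE.TwoMinus

set_option autoImplicit false

/-! The isotropic case: the norm form `a² + γ a b + β b²` has a non-trivial zero. Then there are
exactly two totally singular `K`-lines, complementary, permuted by the isometries normalising
`K`. -/

namespace Cfsg.Agent.Lib.Helper5.AschE

open Module Matrix QuadraticMap
open Cfsg Cfsg.Geo Cfsg.Agent.Lib.Helper8.Asch Cfsg.Agent.Lib.Helper5.AschO

variable {ι : Type} [Fintype ι] [DecidableEq ι] {F : Type*} [Field F]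
variable {K : Subalgebra F (Matrix ι ι F)}

/-- the `K`-line through `w` -/
def Kline (K : Subalgebra F (Matrix ι ι F)) (w : ι → F) : Submodule F (ι → F) :=
  LinearMap.range (evK K w)

theorem mem_Kline {w v : ι → F} : v ∈ Kline K w ↔ ∃ k : ↥K, k.1 *ᵥ w = v := Iff.rfl

theorem finrank_Kline (hK : IsFld K) {w : ι → F} (hw : w ≠ 0) :
    finrank F (Kline K w) = finrank F ↥K := by
  apply LinearMap.finrank_range_of_inj
  rw [injective_iff_map_eq_zero]
  intro a ha
  by_contra ha0
  exact hw (fld_mulVec_eq_zero hK ha0 ha)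

theorem conj_inv_mem {g : GL ι F} (hg : g ∈ subalgebraNormalizer K) {k : Matrix ι ι F}
    (hk : k ∈ K) : ((g⁻¹ : GL ι F) : Matrix ι ι F) * k * (g : Matrix ι ι F) ∈ K := by
  have hinv' : (g : Matrix ι ι F) * ((g⁻¹ : GL ι F) : Matrix ι ι F) = 1 := by
    rw [← Units.val_mul, mul_inv_cancel, Units.val_one]
  rw [hg]
  have : (g : Matrix ι ι F) * (((g⁻¹ : GL ι F) : Matrix ι ι F) * k * (g : Matrix ι ι F)) *
      ((g⁻¹ : GL ι F) : Matrix ι ι F) = k := by
    calc _ = ((g : Matrix ι ι F) * ((g⁻¹ : GL ι F) : Matrix ι ι F)) * k *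
          ((g : Matrix ι ι F) * ((g⁻¹ : GL ι F) : Matrix ι ι F)) := by
          simp only [mul_assoc]
      _ = k := by rw [hinv', one_mul, mul_one]
  rw [this]
  exact hk

theorem Kline_map {g : GL ι F} (hg : g ∈ subalgebraNormalizer K) (w : ι → F) :
    (Kline K w).map (Matrix.toLin' (g : Matrix ι ι F)) = Kline K ((g : Matrix ι ι F) *ᵥ w) := by
  have hinv : ((g⁻¹ : GL ι F) : Matrix ι ι F) * (g : Matrix ι ι F) = 1 := by
    rw [← Units.val_mul, inv_mul_cancel, Units.val_one]
  have hinv' : (g : Matrix ι ι F) * ((g⁻¹ : GL ι F) : Matrix ι ι F) = 1 := by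
    rw [← Units.val_mul, mul_inv_cancel, Units.val_one]
  apply le_antisymm
  · rintro _ ⟨_, ⟨k, rfl⟩, rfl⟩
    refine ⟨⟨_, (hg k.1).mp k.2⟩, ?_⟩
    rw [evK_apply, evK_apply, Matrix.toLin'_apply, Matrix.mulVec_mulVec, Matrix.mulVec_mulVec]
    congr 1
    rw [mul_assoc, mul_assoc, hinv, mul_one]
  · rintro _ ⟨k, rfl⟩
    refine ⟨_, ⟨⟨_, conj_inv_mem hg k.2⟩, rfl⟩, ?_⟩
    rw [evK_apply, evK_apply, Matrix.toLin'_apply, Matrix.mulVec_mulVec, Matrix.mulVec_mulVec]
    congr 1
    rw [← mul_assoc, ← mul_assoc, hinv', one_mul]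

theorem Kline_eq_of_mem (hK : IsFld K) {w v : ι → F} (hv : v ∈ Kline K w) (hv0 : v ≠ 0) :
    Kline K v = Kline K w := by
  obtain ⟨k, rfl⟩ := hv
  have hk0 : k ≠ 0 := by
    rintro rfl
    apply hv0
    rw [evK_apply]
    exact Matrix.zero_mulVec _
  obtain ⟨z, _, hzk⟩ := fld_exists_inv hK hk0
  apply le_antisymm
  · rintro _ ⟨k', rfl⟩
    refine ⟨k' * k, ?_⟩
    rw [evK_apply, evK_apply, evK_apply, Matrix.mulVec_mulVec]
    rfl
  · rintro _ ⟨k', rfl⟩
    refine ⟨k' * z, ?_⟩
    rw [evK_apply, evK_apply, evK_apply, Matrix.mulVec_mulVec]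
    show ((k' * z).1 * k.1) *ᵥ w = k'.1 *ᵥ w
    have : (k' * z).1 * k.1 = k'.1 := by
      show (k'.1 * z.1) * k.1 = k'.1
      rw [mul_assoc]
      have := congrArg Subtype.val hzk
      rw [show (z * k).1 = z.1 * k.1 from rfl] at this
      rw [this]
      exact mul_one _
    rw [this]

namespace Coord

variable [Fintype F] {Q : QuadraticForm F (ι → F)} (c : Coord Q K)

theorem psi_conj_eq_zero {g : GL ι F} (hg : g ∈ subalgebraNormalizer K)
    (hgI : g ∈ isometryGroup F ⇑Q) {v : ι → F} (hv : c.ψ v = 0) :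
    c.ψ ((g : Matrix ι ι F) *ᵥ v) = 0 := by
  have hinv' : (g : Matrix ι ι F) * ((g⁻¹ : GL ι F) : Matrix ι ι F) = 1 := by
    rw [← Units.val_mul, mul_inv_cancel, Units.val_one]
  ext x'
  have := kpsi_conj Q c.hK c.ψ c.hψ g hg hgI v ⟨_, conj_inv_mem hg x'.2⟩ x' (by
    show x'.1 = (g : Matrix ι ι F) * (((g⁻¹ : GL ι F) : Matrix ι ι F) * x'.1 *
      (g : Matrix ι ι F)) * ((g⁻¹ : GL ι F) : Matrix ι ι F)
    calc x'.1 = ((g : Matrix ι ι F) * ((g⁻¹ : GL ι F) : Matrix ι ι F)) * x'.1 *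
          ((g : Matrix ι ι F) * ((g⁻¹ : GL ι F) : Matrix ι ι F)) := by
          rw [hinv', one_mul, mul_one]
      _ = _ := by simp only [mul_assoc])
  rw [this, hv, LinearMap.zero_apply, LinearMap.zero_apply]

theorem N_conj (a b : ↥K) : c.N (a + c.γ * b) (-b) = c.N a b := by
  have hK := c.hK
  unfold N
  letI := fldCommRing hK
  ring

/-- the isotropic case -/
theorem isotropic_case (hnd : ∀ v : ι → F, (∀ w, polar Q v w = 0) → v = 0)
    (hdim : Fintype.card ι = 2 * finrank F ↥K)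
    (a₀ b₀ : ↥K) (h0 : ¬ (a₀ = 0 ∧ b₀ = 0)) (hN : c.N a₀ b₀ = 0) :
    ∃ M, (Cls2b (⇑Q) M ∨ Cls3b (⇑Q) M) ∧
      subalgebraNormalizer K ⊓ isometryGroup F ⇑Q ≤ M := by
  have hK := c.hK
  have hb₀ : b₀ ≠ 0 := by
    rintro rfl
    apply h0
    refine ⟨?_, rfl⟩
    unfold N at hN
    rw [mul_zero, mul_zero, add_zero, add_zero] at hN
    rcases fld_mul_eq_zero hK hN with h | h <;> exact h
  obtain ⟨z, hb₀z, hzb₀⟩ := fld_exists_inv hK hb₀
  set w₁ := c.vec a₀ b₀ with hw₁
  set w₂ := c.vec (a₀ + c.γ * b₀) (-b₀) with hw₂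
  have hw₁0 : w₁ ≠ 0 := fun h => hb₀ (c.vec_eq_zero.mp h).2
  have hw₂0 : w₂ ≠ 0 := fun h => hb₀ (neg_eq_zero.mp (c.vec_eq_zero.mp h).2)
  have hN₂ : c.N (a₀ + c.γ * b₀) (-b₀) = 0 := by rw [N_conj, hN]
  -- the lines are totally singular
  have hts₁ : IsTotallySingularQuad (⇑Q) (Kline K w₁) := by
    rintro _ ⟨k, rfl⟩
    rw [evK_apply, hw₁, Q_smul_vec, hN, zero_mul, map_zero]
  have hts₂ : IsTotallySingularQuad (⇑Q) (Kline K w₂) := by
    rintro _ ⟨k, rfl⟩
    rw [evK_apply, hw₂, Q_smul_vec, hN₂, zero_mul, map_zero]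
  -- singular vectors lie on one of the two lines
  have hdich : ∀ a b : ↥K, c.N a b = 0 → c.vec a b ∈ Kline K w₁ ∨ c.vec a b ∈ Kline K w₂ := by
    intro a b hab
    have hprod : (a * b₀ - a₀ * b) * (a * b₀ + (a₀ + c.γ * b₀) * b) = 0 := by
      unfold N at hab hN
      letI := fldCommRing hK
      linear_combination (b₀ * b₀) * hab - (b * b) * hN
    rcases fld_mul_eq_zero hK hprod with h | h
    · left
      refine ⟨b * z, ?_⟩
      rw [evK_apply, hw₁, smul_vec]
      congr 1
      · have h' : a * b₀ = a₀ * b := sub_eq_zero.mp h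
        letI := fldCommRing hK
        calc b * z * a₀ = (a₀ * b) * z := by ring
          _ = a * (b₀ * z) := by rw [← h']; ring
          _ = a := by rw [hb₀z, mul_one]
      · rw [mul_assoc, hzb₀, mul_one]
    · right
      refine ⟨-(b * z), ?_⟩
      rw [evK_apply, hw₂, smul_vec]
      congr 1
      · letI := fldCommRing hK
        calc -(b * z) * (a₀ + c.γ * b₀) = -((a₀ + c.γ * b₀) * b) * z := by ring
          _ = (a * b₀) * z := by
              rw [show -((a₀ + c.γ * b₀) * b) = a * b₀ by linear_combination -h]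
          _ = a * (b₀ * z) := by ring
          _ = a := by rw [hb₀z, mul_one]
      · letI := fldCommRing hK
        calc -(b * z) * -b₀ = b * (z * b₀) := by ring
          _ = b := by rw [hzb₀, mul_one]
  -- the two lines are disjoint
  have hdisc := c.disc_ne_zero hnd
  have hdisj : Disjoint (Kline K w₁) (Kline K w₂) := by
    rw [Submodule.disjoint_def]
    rintro v ⟨k, rfl⟩ ⟨k', hk'⟩
    rw [evK_apply, evK_apply] at hk'
    rw [evK_apply]
    rw [hw₁, hw₂, smul_vec, smul_vec] at hk'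
    obtain ⟨e1, e2⟩ := c.vec_inj hk'
    have hk : k = 0 := by
      by_contra hk0
      have hkk : k = -k' := by
        have : (k + k') * b₀ = 0 := by
          letI := fldCommRing hK
          linear_combination -e2
        rcases fld_mul_eq_zero hK this with h | h
        · exact eq_neg_of_add_eq_zero_left h
        · exact absurd h hb₀
      have h3 : k * (2 * a₀ + c.γ * b₀) = 0 := by
        rw [show k' = -k by rw [hkk, neg_neg]] at e1
        letI := fldCommRing hK
        linear_combination -e1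
      have hL : 2 * a₀ + c.γ * b₀ = 0 := by
        rcases fld_mul_eq_zero hK h3 with h | h
        · exact absurd h hk0
        · exact h
      have h4 : (c.γ * c.γ - 4 * c.β) * (b₀ * b₀) = 0 := by
        unfold N at hN
        letI := fldCommRing hK
        linear_combination (c.γ * b₀ + 2 * a₀) * hL - 4 * hN
      rcases fld_mul_eq_zero hK h4 with h | h
      · exact hdisc h
      · rcases fld_mul_eq_zero hK h with h' | h' <;> exact hb₀ h'
    rw [hk, hw₁]
    exact Matrix.zero_mulVec _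
  have hf₁ := finrank_Kline hK hw₁0
  have hf₂ := finrank_Kline hK hw₂0
  have hpos : 0 < finrank F ↥K := by
    rcases Nat.eq_zero_or_pos (finrank F ↥K) with h | h
    · exfalso
      rw [h, mul_zero] at hdim
      haveI : IsEmpty ι := Fintype.card_eq_zero_iff.mp hdim
      exact hw₁0 (Subsingleton.elim _ _)
    · exact h
  have hcod : Codisjoint (Kline K w₁) (Kline K w₂) := by
    rw [codisjoint_iff]
    apply Submodule.eq_top_of_finrank_eq
    have h1 := Submodule.finrank_sup_add_finrank_inf_eq (Kline K w₁) (Kline K w₂)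
    rw [disjoint_iff.mp hdisj, finrank_bot, add_zero, hf₁, hf₂] at h1
    rw [h1, Module.finrank_fintype_fun_eq_card, hdim]
    ring
  have hMD : IsMDecomposition (finrank F ↥K) ![Kline K w₁, Kline K w₂] :=
    isMDecomposition_pair hpos _ _ ⟨hdisj, hcod⟩ hf₁ hf₂
  have hts : ∀ i, IsTotallySingularQuad (⇑Q) (![Kline K w₁, Kline K w₂] i) := by
    intro i
    fin_cases i
    · exact hts₁
    · exact hts₂
  refine cls2b_or inf_le_right hMD hts ?_
  rintro g ⟨hg, hgI⟩
  -- images of the two lines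
  have himg : ∀ w : ι → F, w ≠ 0 → c.ψ w = 0 →
      (Kline K w).map (Matrix.toLin' (g : Matrix ι ι F)) = Kline K w₁ ∨
      (Kline K w).map (Matrix.toLin' (g : Matrix ι ι F)) = Kline K w₂ := by
    intro w hw0 hw
    rw [Kline_map hg]
    have h1 := c.psi_conj_eq_zero hg hgI hw
    have hgw0 : (g : Matrix ι ι F) *ᵥ w ≠ 0 := by
      intro h
      apply hw0
      have hinv : ((g⁻¹ : GL ι F) : Matrix ι ι F) * (g : Matrix ι ι F) = 1 := by
        rw [← Units.val_mul, inv_mul_cancel, Units.val_one]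
      rw [← Matrix.one_mulVec w, ← hinv, ← Matrix.mulVec_mulVec, h, Matrix.mulVec_zero]
    obtain ⟨a, b, hab⟩ := c.exists_vec ((g : Matrix ι ι F) *ᵥ w)
    rw [hab] at h1 hgw0 ⊢
    rcases hdich a b (c.psi_vec_eq_zero.mp h1) with h | h
    · exact Or.inl (Kline_eq_of_mem hK h hgw0)
    · exact Or.inr (Kline_eq_of_mem hK h hgw0)
  have hψ₁ : c.ψ w₁ = 0 := c.psi_vec_eq_zero.mpr hN
  have hψ₂ : c.ψ w₂ = 0 := c.psi_vec_eq_zero.mpr hN₂
  have hne : Kline K w₁ ≠ Kline K w₂ := by
    intro h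
    rw [h, disjoint_self] at hdisj
    have : finrank F (Kline K w₂) = 0 := by rw [hdisj, finrank_bot]
    omega
  have hmapinj : Function.Injective
      (Submodule.map (Matrix.toLin' (g : Matrix ι ι F)) : Submodule F (ι → F) → _) := by
    apply Submodule.map_injective_of_injective
    rw [← LinearMap.ker_eq_bot, LinearMap.ker_eq_bot']
    intro v hv
    rw [Matrix.toLin'_apply] at hv
    have hinv : ((g⁻¹ : GL ι F) : Matrix ι ι F) * (g : Matrix ι ι F) = 1 := by
      rw [← Units.val_mul, inv_mul_cancel, Units.val_one]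
    rw [← Matrix.one_mulVec v, ← hinv, ← Matrix.mulVec_mulVec, hv, Matrix.mulVec_zero]
  rcases himg w₁ hw₁0 hψ₁ with h1 | h1 <;> rcases himg w₂ hw₂0 hψ₂ with h2 | h2
  · exact absurd (hmapinj (h1.trans h2.symm)) hne
  · refine ⟨1, fun i => ?_⟩
    fin_cases i
    · exact h1
    · exact h2
  · refine ⟨Equiv.swap 0 1, fun i => ?_⟩
    fin_cases i
    · exact h1
    · exact h2
  · exact absurd (hmapinj (h1.trans h2.symm)) hne

end Coord

end Cfsg.Agent.Lib.Helper5.AschE
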