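import Mathlib
import Cfsg.Agent.Lib.Helper5.AschE.F5G

set_option autoImplicit false
set_option linter.style.haveILetI false

/-! The anisotropic case: `K[y]` is a field of degree `2 r`, its subfield of degree `2` gives a
member of the class 3b. Final statement: the normaliser of a self-adjoint field subalgebra `K`
of odd degree `r` in dimension `2 r` lies in a member of 2b or 3b. -/

namespace Cfsg.Agent.Lib.Helper5.AschE

open Module Matrix QuadraticMap
open Cfsg Cfsg.Geo Cfsg.Agent.Lib.Helper8.Asch Cfsg.Agent.Lib.Helper5.AschO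

variable {ι : Type} [Fintype ι] [DecidableEq ι] {F : Type*} [Field F]
variable {K : Subalgebra F (Matrix ι ι F)}

/-- tower law for field subalgebras -/
theorem fld_finrank_dvd [Nonempty ι] {L K : Subalgebra F (Matrix ι ι F)} (hL : IsFld L)
    (hLK : L ≤ K) : finrank F ↥L ∣ finrank F ↥K := by
  let m : Module ↥L ↥K := (Subalgebra.inclusion hLK).toRingHom.toModule
  letI : Module ↥L ↥K := m
  haveI : IsScalarTower F ↥L ↥K := ⟨fun r x y => by
    show (Subalgebra.inclusion hLK (r • x)) * y = r • ((Subalgebra.inclusion hLK x) * y)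
    rw [map_smul, smul_mul_assoc]⟩
  haveI h1 : StrongRankCondition ↥L :=
    @commRing_strongRankCondition ↥L (hL.field).toCommRing (hL.field).toNontrivial
  haveI h2 : Module.Free ↥L ↥K :=
    @Module.Free.of_divisionRing ↥L ↥K (hL.field).toDivisionRing _ m
  exact Module.finrank_dvd_finrank_right F ↥L ↥K

theorem mat_ext_of_polar (Q : QuadraticForm F (ι → F))
    (hnd : ∀ v : ι → F, (∀ w, polar Q v w = 0) → v = 0) {A B : Matrix ι ι F}
    (h : ∀ u v : ι → F, polar Q u (A *ᵥ v) = polar Q u (B *ᵥ v)) : A = B := by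
  apply Matrix.toLin'.injective
  apply LinearMap.ext
  intro v
  rw [Matrix.toLin'_apply, Matrix.toLin'_apply, ← sub_eq_zero]
  apply hnd
  intro w
  rw [polar_comm, polar_sub_right, h, sub_self]

namespace Coord

variable [Fintype F] {Q : QuadraticForm F (ι → F)} (c : Coord Q K)

theorem polar_el_pow (a b : ↥K) (m : ℕ) (u v : ι → F) :
    polar Q ((c.el a b ^ m) *ᵥ u) v = polar Q u ((c.el (a + c.γ * b) (-b) ^ m) *ᵥ v) := by
  induction m generalizing u v with
  | zero => rw [pow_zero, pow_zero, Matrix.one_mulVec, Matrix.one_mulVec]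
  | succ m ih =>
    rw [pow_succ, ← Matrix.mulVec_mulVec, ih, polar_el, Matrix.mulVec_mulVec, ← pow_succ']

/-- the anisotropic case -/
theorem anisotropic_case (hnd : ∀ v : ι → F, (∀ w, polar Q v w = 0) → v = 0)
    (hodd : Odd (finrank F ↥K))
    (haniso : ∀ a b : ↥K, c.N a b = 0 → a = 0 ∧ b = 0) :
    ∃ M, (Cls2b (⇑Q) M ∨ Cls3b (⇑Q) M) ∧
      subalgebraNormalizer K ⊓ isometryGroup F ⇑Q ≤ M := by
  have hK := c.hK
  haveI : Nonempty ι := by
    by_contra hne
    rw [not_nonempty_iff] at hne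
    have : c.vec 1 0 = 0 := Subsingleton.elim _ _
    exact c.one_ne_zero' (c.vec_eq_zero.mp this).1
  have hE := c.isFld_K2 haniso
  have hdvd : 2 ∣ finrank F ↥c.K2 := by
    rw [finrank_K2]
    exact dvd_mul_right 2 _
  obtain ⟨L, hLE, hLfld, hLfr, n, hLn⟩ := exists_subfield_of_dvd c.K2 hE 2 (by norm_num) hdvd
  have hdisc := c.disc_ne_zero hnd
  -- the conjugate of an element of `L` lies in `L`
  have hLadj : ∀ a b : ↥K, c.el a b ∈ L → c.el (a + c.γ * b) (-b) ∈ L := by
    intro a b h
    rw [hLn] at h ⊢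
    refine ⟨⟨_, _, rfl⟩, ?_⟩
    apply mat_ext_of_polar Q hnd
    intro u v
    rw [← polar_el_pow, h.2, polar_el]
  -- `L` is not contained in `K`
  have hLK : ¬ L ≤ K := by
    intro hle
    have := fld_finrank_dvd hLfld hle
    rw [hLfr] at this
    exact (Nat.not_even_iff_odd.mpr hodd) (even_iff_two_dvd.mpr this)
  -- self-adjoint elements of `K[y]` lie in `K`
  have hself : ∀ a b : ↥K, c.el a b = c.el (a + c.γ * b) (-b) → b = 0 := by
    intro a b h
    obtain ⟨h1, h2⟩ := c.el_inj h
    by_contra hb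
    have h2b : (2 : ↥K) * b = 0 := by
      rw [two_mul]
      nth_rewrite 2 [h2]
      exact add_neg_cancel b
    have h2K : (2 : ↥K) = 0 := by
      rcases fld_mul_eq_zero hK h2b with h' | h'
      · exact h'
      · exact absurd h' hb
    have hγb : c.γ * b = 0 := by
      have := h1
      rw [left_eq_add] at this
      exact this
    have hγ : c.γ = 0 := by
      rcases fld_mul_eq_zero hK hγb with h' | h'
      · exact h'
      · exact absurd h' hb
    apply hdisc
    rw [hγ, show (4 : ↥K) = 2 * 2 by norm_num, h2K]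
    simp
  -- the intersection of `L` and `K` consists of scalars
  have hLKbot : L ⊓ K = ⊥ := by
    apply Subalgebra.eq_bot_of_finrank_one
    have hlt : (L ⊓ K).toSubmodule < L.toSubmodule := by
      refine lt_of_le_of_ne (fun x hx => hx.1) ?_
      intro heq
      apply hLK
      intro x hx
      have : x ∈ (L ⊓ K).toSubmodule := by rw [heq]; exact hx
      exact this.2
    have h1 := Submodule.finrank_lt_finrank_of_lt hlt
    have h2 : finrank F ↥L.toSubmodule = 2 := hLfr
    have h3 : 0 < finrank F ↥(L ⊓ K).toSubmodule := by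
      rw [Module.finrank_pos_iff_exists_ne_zero]
      refine ⟨⟨1, (L ⊓ K).one_mem⟩, ?_⟩
      intro h
      have := congrArg Subtype.val h
      exact one_ne_zero this
    show finrank F ↥(L ⊓ K).toSubmodule = 1
    omega
  -- normalisation
  have hfw : ∀ g : GL ι F, g ∈ subalgebraNormalizer K → g ∈ isometryGroup F ⇑Q →
      ∀ k ∈ L, (g : Matrix ι ι F) * k * ((g⁻¹ : GL ι F) : Matrix ι ι F) ∈ L := by
    intro g hg hgI k hk
    rw [hLn] at hk ⊢
    refine ⟨c.K2_conj hnd g hg hgI hk.1, ?_⟩
    rw [Units.conj_pow, hk.2]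
  refine cls3b_or inf_le_right ⟨hLfld.comm, hLfld.inv, hLfr⟩ ?_ ?_ ?_ ?_
  · -- adjoint closed
    intro k hk
    obtain ⟨a, b, rfl⟩ := hLE hk
    exact ⟨_, hLadj a b hk, fun u v => c.polar_el a b u v⟩
  · -- not self-adjoint
    intro hsa'
    apply hLK
    intro k hk
    obtain ⟨a, b, rfl⟩ := hLE hk
    have hb : b = 0 := by
      apply hself a b
      apply mat_ext_of_polar Q hnd
      intro u v
      rw [← hsa' _ hk, polar_el]
    rw [hb, el_zero_right]
    exact a.2
  · -- similitudes
    intro k hk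
    obtain ⟨a, b, rfl⟩ := hLE hk
    have hn : (c.N a b).1 ∈ L ⊓ K := by
      refine ⟨?_, (c.N a b).2⟩
      rw [← el_mul_conj]
      exact L.mul_mem hk (hLadj a b hk)
    rw [hLKbot, Algebra.mem_bot] at hn
    obtain ⟨cF, hcF⟩ := hn
    refine ⟨cF, fun v => ?_⟩
    have hN : c.N a b = cF • (1 : ↥K) := by
      apply Subtype.ext
      rw [← hcF, Algebra.algebraMap_eq_smul_one]
      rfl
    rw [Q_el, hN, map_smul, kpsi_one Q c.ψ c.hψ, smul_eq_mul]
  · -- normaliser
    rintro g ⟨hg, hgI⟩ k
    constructor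
    · exact hfw g hg hgI k
    · intro h
      have hg' : g⁻¹ ∈ subalgebraNormalizer K := Subgroup.inv_mem _ hg
      have hgI' : g⁻¹ ∈ isometryGroup F ⇑Q := Subgroup.inv_mem _ hgI
      have := hfw g⁻¹ hg' hgI' _ h
      rw [inv_inv] at this
      have hinv : ((g⁻¹ : GL ι F) : Matrix ι ι F) * (g : Matrix ι ι F) = 1 := by
        rw [← Units.val_mul, inv_mul_cancel, Units.val_one]
      have e : ((g⁻¹ : GL ι F) : Matrix ι ι F) *
          ((g : Matrix ι ι F) * k * ((g⁻¹ : GL ι F) : Matrix ι ι F)) * (g : Matrix ι ι F) = k := by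
        calc _ = (((g⁻¹ : GL ι F) : Matrix ι ι F) * (g : Matrix ι ι F)) * k *
              (((g⁻¹ : GL ι F) : Matrix ι ι F) * (g : Matrix ι ι F)) := by
              simp only [mul_assoc]
          _ = k := by rw [hinv, one_mul, mul_one]
      rw [e] at this
      exact this

end Coord

/-- The normaliser of a self-adjoint field subalgebra of odd degree `r` in dimension `2 r` lies in
a member of the class 2b (pair of totally singular subspaces) or 3b (unitary field of degree 2). -/
theorem divert_field_half [Fintype F] (Q : QuadraticForm F (ι → F)) (hGdet : (gramQ Q).det ≠ 0)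
    {r : ℕ} (hr : Odd r) (hcard : Fintype.card ι = 2 * r)
    {K : Subalgebra F (Matrix ι ι F)} (hK : IsFieldSubalgebra r K)
    (hsa : IsSelfAdjointFor (polar ⇑Q) K) :
    ∃ M, (Cls2b (⇑Q) M ∨ Cls3b (⇑Q) M) ∧
      subalgebraNormalizer K ⊓ isometryGroup F ⇑Q ≤ M := by
  have hKf : IsFld K := ⟨hK.comm, hK.inv⟩
  have hfr : finrank F ↥K = r := hK.finrank_eq
  have hnd : ∀ v : ι → F, (∀ w, polar Q v w = 0) → v = 0 := by
    intro v hv
    have := (polarBilin_nondeg_of_det Q hGdet).1 v
    exact this hv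
  obtain ⟨ψ, hψ⟩ := exists_psi Q hKf hsa
  have hex : ∃ u : ι → F, ψ u ≠ 0 := by
    by_contra hcon
    push_neg at hcon
    have hQ0 : ∀ v : ι → F, Q v = 0 := by
      intro v
      rw [← kpsi_one Q ψ hψ, hcon, LinearMap.zero_apply]
    have hpos : 0 < Fintype.card ι := by
      obtain ⟨m, hm⟩ := hr
      omega
    obtain ⟨i⟩ := Fintype.card_pos_iff.mp hpos
    have h1 : (Pi.single i (1 : F) : ι → F) = 0 := by
      apply hnd
      intro w
      unfold polar
      rw [hQ0, hQ0, hQ0]
      ring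
    have := congrFun h1 i
    rw [Pi.single_eq_same, Pi.zero_apply] at this
    exact one_ne_zero this
  obtain ⟨u, hu⟩ := hex
  obtain ⟨c, -, -⟩ := exists_coord Q hKf hsa ψ hψ (by rw [hfr]; exact hcard) u hu
  by_cases haniso : ∀ a b : ↥K, c.N a b = 0 → a = 0 ∧ b = 0
  · exact c.anisotropic_case hnd (by rw [hfr]; exact hr) haniso
  · push_neg at haniso
    obtain ⟨a₀, b₀, hN, h0⟩ := haniso
    exact c.isotropic_case hnd (by rw [hfr]; exact hcard) a₀ b₀ (fun h => h0 h.1 h.2) hN

end Cfsg.Agent.Lib.Helper5.AschE
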