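import Mathlib
import Cfsg.Agent.Lib.Helper5.AschE.F5H
import Cfsg.Agent.Lib.Helper5.AschE.Classes2

set_option autoImplicit false
set_option linter.style.haveILetI false

/-! The second refinement of the list of classes: a self-adjoint field of odd prime degree `r` is
listed only when the dimension is at least `3 r` (in dimension `2 r` its normaliser lies in a
member of the classes 2b or 3b). -/

namespace Cfsg.Agent.Lib.Helper5.AschE

open Module Matrix QuadraticMap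
open scoped Kronecker
open Cfsg Cfsg.Geo Cfsg.Agent.Lib.Helper8.Asch Cfsg.Agent.Lib.Helper5.AschO

variable {ι : Type} [Fintype ι] [DecidableEq ι] {F : Type*} [Field F]

/-- the degree of a field subalgebra divides the dimension -/
theorem fld_finrank_dvd_card [Nonempty ι] {K : Subalgebra F (Matrix ι ι F)} (hK : IsFld K) :
    finrank F ↥K ∣ Fintype.card ι := by
  let φ : ↥K →+* Module.End F (ι → F) :=
    (Matrix.toLinAlgEquiv' : Matrix ι ι F ≃ₐ[F] _).toAlgHom.toRingHom.comp K.val.toRingHom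
  let m : Module ↥K (ι → F) := Module.compHom (ι → F) φ
  letI : Module ↥K (ι → F) := m
  have hsm : ∀ (x : ↥K) (v : ι → F), x • v = x.1 *ᵥ v := by
    intro x v
    show (Matrix.toLinAlgEquiv' x.1) v = _
    rw [Matrix.toLinAlgEquiv'_apply]
  have ist : IsScalarTower F ↥K (ι → F) := ⟨fun r x v => by
    rw [hsm, hsm]
    show (r • x.1) *ᵥ v = r • (x.1 *ᵥ v)
    rw [Matrix.smul_mulVec]⟩
  haveI h1 : StrongRankCondition ↥K :=
    @commRing_strongRankCondition ↥K (hK.field).toCommRing (hK.field).toNontrivial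
  haveI h2 : Module.Free ↥K (ι → F) :=
    @Module.Free.of_divisionRing ↥K (ι → F) (hK.field).toDivisionRing _ m
  have := @Module.finrank_dvd_finrank_right F ↥K (ι → F) _ _ _ _ m _ ist _ _ _ _
  rwa [Module.finrank_fintype_fun_eq_card] at this

/-- 3a': a self-adjoint field of prime degree `r`, with `r = 2` or dimension at least `3 r` -/
def Cls3a' (Q : (ι → F) → F) (M : Subgroup (GL ι F)) : Prop :=
  ∃ (r : ℕ) (K : Subalgebra F (Matrix ι ι F)), r.Prime ∧ (r = 2 ∨ 3 * r ≤ Fintype.card ι) ∧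
    IsFieldSubalgebra r K ∧ IsSelfAdjointFor (polar Q) K ∧
    M = subalgebraNormalizer K ⊓ isometryGroup F Q

/-- the twice refined list of geometric classes for an even-dimensional quadratic form -/
def InOEClass'' [Fintype F] (Q : (ι → F) → F) (M : Subgroup (GL ι F)) : Prop :=
  Cls1a Q M ∨ Cls1b Q M ∨ Cls1c Q M ∨ Cls2a Q M ∨ Cls2f Q M ∨ Cls2b Q M ∨ Cls3a' Q M ∨
    Cls3b Q M ∨ Cls4a' Q M ∨ Cls4b Q M ∨ Cls5 Q M

theorem inOEClass''_of [Fintype F] [Nonempty ι] (Q : QuadraticForm F (ι → F))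
    (hGdet : (gramQ Q).det ≠ 0) (hev : Even (Fintype.card ι))
    {M : Subgroup (GL ι F)} (hM : InOEClass' (⇑Q) M) :
    ∃ M', InOEClass'' (⇑Q) M' ∧ M ≤ M' := by
  rcases hM with h | h | h | h | h | h | h | h | h | h | h
  · exact ⟨M, Or.inl h, le_rfl⟩
  · exact ⟨M, Or.inr (Or.inl h), le_rfl⟩
  · exact ⟨M, Or.inr (Or.inr (Or.inl h)), le_rfl⟩
  · exact ⟨M, Or.inr (Or.inr (Or.inr (Or.inl h))), le_rfl⟩
  · exact ⟨M, Or.inr (Or.inr (Or.inr (Or.inr (Or.inl h)))), le_rfl⟩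
  · exact ⟨M, Or.inr (Or.inr (Or.inr (Or.inr (Or.inr (Or.inl h))))), le_rfl⟩
  · obtain ⟨r, K, hr, hK, hsa, rfl⟩ := h
    have hKf : IsFld K := ⟨hK.comm, hK.inv⟩
    obtain ⟨m, hm⟩ := fld_finrank_dvd_card hKf
    rw [hK.finrank_eq] at hm
    have hpos : 0 < Fintype.card ι := Fintype.card_pos
    by_cases hr2 : r = 2
    · exact ⟨_, Or.inr (Or.inr (Or.inr (Or.inr (Or.inr (Or.inr (Or.inl
        ⟨r, K, hr, Or.inl hr2, hK, hsa, rfl⟩)))))), le_rfl⟩
    · have hodd : Odd r := hr.odd_of_ne_two hr2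
      have hm0 : m ≠ 0 := by
        rintro rfl
        rw [mul_zero] at hm
        omega
      have hm1 : m ≠ 1 := by
        rintro rfl
        rw [mul_one] at hm
        rw [hm] at hev
        exact (Nat.not_even_iff_odd.mpr hodd) hev
      by_cases hm2 : m = 2
      · subst hm2
        obtain ⟨M', hM', hle⟩ := divert_field_half Q hGdet hodd (by rw [hm]; ring) hK hsa
        rcases hM' with hM' | hM'
        · exact ⟨M', Or.inr (Or.inr (Or.inr (Or.inr (Or.inr (Or.inl hM'))))), hle⟩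
        · exact ⟨M', Or.inr (Or.inr (Or.inr (Or.inr (Or.inr (Or.inr (Or.inr (Or.inl hM'))))))),
            hle⟩
      · have h3 : 3 ≤ m := by omega
        have h3r : 3 * r ≤ Fintype.card ι := by
          rw [hm, mul_comm]
          exact Nat.mul_le_mul_left r h3
        exact ⟨_, Or.inr (Or.inr (Or.inr (Or.inr (Or.inr (Or.inr (Or.inl
          ⟨r, K, hr, Or.inr h3r, hK, hsa, rfl⟩)))))), le_rfl⟩
  · exact ⟨M, Or.inr (Or.inr (Or.inr (Or.inr (Or.inr (Or.inr (Or.inr (Or.inl h))))))), le_rfl⟩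
  · exact ⟨M, Or.inr (Or.inr (Or.inr (Or.inr (Or.inr (Or.inr (Or.inr (Or.inr (Or.inl h)))))))),
      le_rfl⟩
  · exact ⟨M, Or.inr (Or.inr (Or.inr (Or.inr (Or.inr (Or.inr (Or.inr (Or.inr (Or.inr
      (Or.inl h))))))))), le_rfl⟩
  · exact ⟨M, Or.inr (Or.inr (Or.inr (Or.inr (Or.inr (Or.inr (Or.inr (Or.inr (Or.inr
      (Or.inr h))))))))), le_rfl⟩

theorem exists_inOEClass'' [Fintype F] [Nonempty ι] (Q : QuadraticForm F (ι → F))
    (hGdet : (gramQ Q).det ≠ 0) (hev : Even (Fintype.card ι))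
    {H : Subgroup (GL ι F)} (h : ∃ M, InOEClass (⇑Q) M ∧ H ≤ M) :
    ∃ M, InOEClass'' (⇑Q) M ∧ H ≤ M := by
  obtain ⟨M, hM, hle⟩ := exists_inOEClass' Q hGdet h
  obtain ⟨M', hM', hle'⟩ := inOEClass''_of Q hGdet hev hM
  exact ⟨M', hM', hle.trans hle'⟩

/-- the even-dimensional orthogonal Aschbacher theorem with the twice refined list of classes -/
theorem even_main'' [Fintype F] [Nonempty ι] (Q : QuadraticForm F (ι → F))
    (hGdet : (gramQ Q).det ≠ 0) (hev : Even (Fintype.card ι))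
    (hn1 : ∀ r m : ℕ, r.Prime → Fintype.card ι ≠ r ^ m)
    (hn2 : ∀ k t : ℕ, 2 ≤ t → Fintype.card ι ≠ k ^ t)
    (H : Subgroup (GL ι F)) (hHΩ : H ≤ omegaGL ⇑Q) :
    (∃ M, InOEClass'' (⇑Q) M ∧ H ≤ M) ∨ InOrthogonalResidualClass H := by
  rcases even_main Q hGdet hn1 hn2 H hHΩ with h | h
  · exact Or.inl (exists_inOEClass'' Q hGdet hev h)
  · exact Or.inr h

theorem even_main_gen'' [Fintype F] [Nonempty ι] (Q : QuadraticForm F (ι → F))
    (hGdet : (gramQ Q).det ≠ 0) (hev : Even (Fintype.card ι)) (hn : 2 ≤ Fintype.card ι)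
    (hsq : ∀ k : ℕ, Fintype.card ι ≠ k ^ 2)
    (H : Subgroup (GL ι F)) (hI : H ≤ isometryGroup F ⇑Q)
    (hdet : ∀ h ∈ H, (h : Matrix ι ι F).det = 1) :
    (∃ M, InOEClass'' (⇑Q) M ∧ H ≤ M) ∨ InOrthogonalResidualClass H ∨
      ∃ N : Subgroup (GL ι F), IsMinNC H (Zs ι F) N ∧ Submodule.span F (mset N) = ⊤ ∧
        Irr (HV H) ∧ (ACase H N ∨ WreathCase H N) := by
  rcases even_main_gen Q hGdet hn hsq H hI hdet with h | h
  · exact Or.inl (exists_inOEClass'' Q hGdet hev h)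
  · exact Or.inr h

end Cfsg.Agent.Lib.Helper5.AschE
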